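import Mathlib
import Cfsg.Agent.H3.FrobThm
import Cfsg.Agent.H1.Basic

set_option autoImplicit false

namespace Cfsg.Agent.H3

open Cfsg

/-- elements outside the Frobenius kernel act without fixed points on it -/
theorem kernel_fpf {G : Type*} [Group G] (H : Subgroup G) (hH : IsFrobeniusComplement H) (K : Subgroup G)
    (hK : (K : Set G) = frobeniusKernel H) {x k : G} (hx : x ∉ K) (hk : k ∈ K) (hc : k * x = x * k) : k = 1 := by
  have hH' := (isFrobeniusComplement_iff H).mp hH
  have hKm : ∀ x : G, x ∈ K ↔ x = 1 ∨ ∀ g : G, g⁻¹ * x * g ∉ H := fun x => by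
    rw [← mem_frobeniusKernel_iff, ← hK]; rfl
  rw [hKm] at hx hk
  push Not at hx
  obtain ⟨hx1, g, hg⟩ := hx
  rcases hk with hk | hk
  · exact hk
  · exfalso
    have h1 : g⁻¹ * k * g ∉ H := hk g
    have h2 := hH'.2.2 _ h1 _ hg (by
      have : (g⁻¹ * k * g)⁻¹ * (g⁻¹ * x * g) * (g⁻¹ * k * g) = g⁻¹ * (k⁻¹ * (x * k)) * g := by group
      rw [this, ← hc]
      have : g⁻¹ * (k⁻¹ * (k * x)) * g = g⁻¹ * x * g := by group
      rw [this]; exact hg)
    apply hx1
    have : x = g * (g⁻¹ * x * g) * g⁻¹ := by group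
    rw [this, h2]; group

/-- if `x` acts fixed point freely on the finite normal subgroup `N` then every element of the coset is a commutator -/
theorem exists_comm_of_fpf {G : Type*} [Group G] [Finite G] (N : Subgroup G) [hN : N.Normal] (x : G)
    (h : ∀ n ∈ N, n * x = x * n → n = 1) (m : G) (hm : m ∈ N) : ∃ n ∈ N, n * x * n⁻¹ * x⁻¹ = m := by
  have hmem : ∀ n : N, (n : G) * x * (n : G)⁻¹ * x⁻¹ ∈ N := by
    intro n
    have e : (n : G) * x * (n : G)⁻¹ * x⁻¹ = n * (x * (n : G)⁻¹ * x⁻¹) := by group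
    rw [e]
    exact N.mul_mem n.2 (hN.conj_mem _ (N.inv_mem n.2) x)
  let f : N → N := fun n => ⟨_, hmem n⟩
  have hinj : Function.Injective f := by
    intro a b hab
    have h1 : (a : G) * x * (a : G)⁻¹ * x⁻¹ = b * x * (b : G)⁻¹ * x⁻¹ := congrArg Subtype.val hab
    have h2 : (a : G) * x * (a : G)⁻¹ = b * x * (b : G)⁻¹ := mul_right_cancel h1
    have h3 : (b : G)⁻¹ * a * x = x * ((b : G)⁻¹ * a) := by
      calc (b : G)⁻¹ * a * x = (b : G)⁻¹ * (a * x * (a : G)⁻¹) * a := by group
        _ = (b : G)⁻¹ * (b * x * (b : G)⁻¹) * a := by rw [h2]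
        _ = _ := by group
    have h4 := h _ (N.mul_mem (N.inv_mem b.2) a.2) h3
    exact Subtype.ext (inv_mul_eq_one.mp h4).symm
  obtain ⟨n, hn⟩ := (Finite.surjective_of_injective hinj) ⟨m, hm⟩
  exact ⟨n, n.2, congrArg Subtype.val hn⟩

theorem kernel_dichotomy {G : Type*} [Group G] [Finite G] (H : Subgroup G) (hH : IsFrobeniusComplement H) (K : Subgroup G)
    [hKn : K.Normal] (hK : (K : Set G) = frobeniusKernel H) (N : Subgroup G) [hN : N.Normal] : K ≤ N ∨ N ≤ K := by
  by_cases h : N ≤ K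
  · exact Or.inr h
  · left
    obtain ⟨x, hxN, hxK⟩ := SetLike.not_le_iff_exists.mp h
    intro m hm
    obtain ⟨n, hn, hnm⟩ := exists_comm_of_fpf K x (fun n hn hc => kernel_fpf H hH K hK hxK hn hc) m hm
    rw [← hnm]
    have : n * x * n⁻¹ * x⁻¹ = (n * x * n⁻¹) * x⁻¹ := by group
    rw [this]
    exact N.mul_mem (hN.conj_mem x hxN n) (N.inv_mem hxN)

theorem kernel_normal {G : Type*} [Group G] [Finite G] (H : Subgroup G) (hH : IsFrobeniusComplement H) (K : Subgroup G)
    (hK : (K : Set G) = frobeniusKernel H) : K.Normal := by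
  obtain ⟨N, hN, hNn, _⟩ := frobenius_kernel H hH
  have : K = N := SetLike.coe_injective (hK.trans hN.symm)
  rw [this]; exact hNn

theorem kernel_compl {G : Type*} [Group G] [Finite G] (H : Subgroup G) (hH : IsFrobeniusComplement H) (K : Subgroup G)
    (hK : (K : Set G) = frobeniusKernel H) : K.IsComplement' H := by
  obtain ⟨N, hN, _, hc⟩ := frobenius_kernel H hH
  have : K = N := SetLike.coe_injective (hK.trans hN.symm)
  rw [this]; exact hc

theorem kernel_nilpotent {G : Type*} [Group G] [Finite G] (H : Subgroup G) (hH : IsFrobeniusComplement H) (K : Subgroup G)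
    (hK : (K : Set G) = frobeniusKernel H) : Group.IsNilpotent K := by
  obtain ⟨N, hN, _, _, hc⟩ := frobenius_kernel_nilpotent H hH
  have : K = N := SetLike.coe_injective (hK.trans hN.symm)
  rw [this]; exact hc

theorem kernel_ne_bot {G : Type*} [Group G] [Finite G] (H : Subgroup G) (hH : IsFrobeniusComplement H) (K : Subgroup G)
    (hK : (K : Set G) = frobeniusKernel H) : K ≠ ⊥ := by
  have hH' := (isFrobeniusComplement_iff H).mp hH
  rintro rfl
  have h1 := (kernel_compl H hH ⊥ hK).sup_eq_top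
  rw [bot_sup_eq] at h1
  exact hH'.2.1 h1

theorem kernel_char {G : Type*} [Group G] [Finite G] (H : Subgroup G) (hH : IsFrobeniusComplement H) (K : Subgroup G)
    (hK : (K : Set G) = frobeniusKernel H) : K.Characteristic := by
  haveI := kernel_normal H hH K hK
  rw [Subgroup.characteristic_iff_map_eq]
  intro φ
  haveI : (K.map φ.toMonoidHom).Normal := this.map _ φ.surjective
  have hc : Nat.card (K.map φ.toMonoidHom) = Nat.card K := L0.card_map_equiv φ K
  rcases kernel_dichotomy H hH K hK (K.map φ.toMonoidHom) with h | h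
  · exact (Subgroup.eq_of_le_of_card_ge h hc.le).symm
  · exact Subgroup.eq_of_le_of_card_ge h hc.ge

/-- the Frobenius kernel is unique -/
theorem kernel_unique {G : Type*} [Group G] [Finite G] (H H₀ : Subgroup G) (hH : IsFrobeniusComplement H)
    (hH₀ : IsFrobeniusComplement H₀) (K K₀ : Subgroup G) (hK : (K : Set G) = frobeniusKernel H)
    (hK₀ : (K₀ : Set G) = frobeniusKernel H₀) : K = K₀ := by
  haveI := kernel_normal H hH K hK
  haveI := kernel_normal H₀ hH₀ K₀ hK₀
  have main : ∀ (H H₀ : Subgroup G) (hH : IsFrobeniusComplement H)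
    (hH₀ : IsFrobeniusComplement H₀) (K K₀ : Subgroup G) (hK : (K : Set G) = frobeniusKernel H)
    (hK₀ : (K₀ : Set G) = frobeniusKernel H₀), K ≤ K₀ → K = K₀ := by
    intro H H₀ hH hH₀ K K₀ hK hK₀ hle
    by_contra hne
    obtain ⟨x, hx0, hxK⟩ := SetLike.exists_of_lt (lt_of_le_of_ne hle hne)
    haveI hnil := kernel_nilpotent H₀ hH₀ K₀ hK₀
    have hb := kernel_ne_bot H₀ hH₀ K₀ hK₀
    have h1 := H1.inf_center_ne_bot (⊤ : Subgroup K₀) (by
      intro h
      apply hb
      rw [Subgroup.eq_bot_iff_forall]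
      intro x hx
      have : (⟨x, hx⟩ : K₀) ∈ (⊤ : Subgroup K₀) := trivial
      rw [h, Subgroup.mem_bot] at this
      exact congrArg Subtype.val this)
    obtain ⟨z, hz, hz1⟩ : ∃ z ∈ (⊤ : Subgroup K₀) ⊓ Subgroup.center K₀, z ≠ 1 := by
      by_contra hcon
      push Not at hcon
      exact h1 ((Subgroup.eq_bot_iff_forall _).mpr hcon)
    have hz2 := Subgroup.mem_center_iff.mp (Subgroup.mem_inf.mp hz).2
    have hz3 : ∀ g ∈ K₀, g * (z : G) = z * g := fun g hg => congrArg Subtype.val (hz2 ⟨g, hg⟩)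
    have hzne : (z : G) ≠ 1 := fun h => hz1 (Subtype.ext h)
    by_cases hzK : (z : G) ∈ K
    · exact hzne (kernel_fpf H hH K hK hxK hzK (hz3 x hx0).symm)
    · apply kernel_ne_bot H hH K hK
      rw [Subgroup.eq_bot_iff_forall]
      intro k hk
      exact kernel_fpf H hH K hK hzK hk (hz3 k (hle hk))
  rcases kernel_dichotomy H hH K hK K₀ with h | h
  · exact main H H₀ hH hH₀ K K₀ hK hK₀ h
  · exact (main H₀ H hH₀ hH K₀ K hK₀ hK h).symm

end Cfsg.Agent.H3
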