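import Mathlib
import Cfsg.Agent.H3.FrobStr
import Cfsg.Agent.H3.UniqP

set_option autoImplicit false

namespace Cfsg.Agent.H3

open Cfsg

/-- a Frobenius group acting on an abelian group `V` of order coprime to the kernel, with the kernel acting without
fixed points: the complement has fixed points -/
theorem frob_fixed {V Γ : Type*} [CommGroup V] [Finite V] [Nontrivial V] [Group Γ] [Finite Γ] (c : Γ →* MulAut V)
    (H : Subgroup Γ) (hH : IsFrobeniusComplement H) (K : Subgroup Γ) (hK1 : (K : Set Γ) = frobeniusKernel H)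
    (hcop : (Nat.card V).Coprime (Nat.card K)) (hCK : ∀ v : V, (∀ k ∈ K, c k v = v) → v = 1) :
    ∃ v : V, v ≠ 1 ∧ ∀ h ∈ H, c h v = v := by
  classical
  by_contra hbot
  push Not at hbot
  have hbot' : ∀ v : V, (∀ h ∈ H, c h v = v) → v = 1 := by
    intro v hv
    by_contra hv1
    obtain ⟨h, hh, hne⟩ := hbot v hv1
    exact hne (hv h hh)
  have hK2 := kernel_normal H hH K hK1
  have hK3 := kernel_compl H hH K hK1
  have hKm : ∀ x : Γ, x ∈ K ↔ x ∈ frobeniusKernel H := fun x => by rw [← hK1]; rfl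
  have hH' := (isFrobeniusComplement_iff H).mp hH
  have := Fintype.ofFinite K
  let B : Option K → Subgroup Γ := fun o => match o with
    | none => K
    | some k => H.map (MulAut.conj (k : Γ)).toMonoidHom
  have hBs : ∀ (k : K) (a : Γ), a ∈ B (some k) ↔ (k : Γ)⁻¹ * a * k ∈ H := by
    intro k a
    constructor
    · rintro ⟨h, hh, rfl⟩
      have : (k : Γ)⁻¹ * (MulAut.conj (k : Γ)).toMonoidHom h * k = h := by
        show (k : Γ)⁻¹ * (k * h * (k : Γ)⁻¹) * k = h
        group
      rw [this]; exact hh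
    · intro h
      refine ⟨_, h, ?_⟩
      show (k : Γ) * ((k : Γ)⁻¹ * a * k) * (k : Γ)⁻¹ = a
      group
  have hKH : ∀ x : Γ, x ∈ K → x ∈ H → x = 1 := by
    intro x h1 h2
    have := hK3.disjoint
    rw [disjoint_iff] at this
    rw [← Subgroup.mem_bot, ← this]
    exact Subgroup.mem_inf.mpr ⟨h1, h2⟩
  have key : ∀ v : V, v ^ Fintype.card (Option K) = v := by
    intro v
    apply partition_trick c ⊤ B (fun _ => le_top) ?_ ?_ none
    · intro a _ ha1
      by_cases haK : a ∈ K
      · refine ⟨none, haK, ?_⟩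
        rintro (_ | k) hk
        · rfl
        · exfalso
          have h1 : (k : Γ)⁻¹ * a * k ∈ H := (hBs k a).mp hk
          have h2 : (k : Γ)⁻¹ * a * k ∈ K := by
            have := hK2.conj_mem a haK (k : Γ)⁻¹
            rwa [inv_inv] at this
          have h3 := hKH _ h2 h1
          apply ha1
          have : a = k * ((k : Γ)⁻¹ * a * k) * (k : Γ)⁻¹ := by group
          rw [this, h3]; group
      · obtain ⟨g, hg⟩ : ∃ g : Γ, g⁻¹ * a * g ∈ H := by
          by_contra hcon
          push Not at hcon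
          apply haK
          rw [hKm, mem_frobeniusKernel_iff]
          exact Or.inr hcon
        obtain ⟨⟨k, h⟩, hkh⟩ := hK3.2 g
        have hkh' : (k : Γ) * h = g := hkh
        have h1 : (k : Γ)⁻¹ * a * k ∈ H := by
          have : (k : Γ)⁻¹ * a * k = h * (g⁻¹ * a * g) * (h : Γ)⁻¹ := by rw [← hkh']; group
          rw [this]
          exact H.mul_mem (H.mul_mem h.2 hg) (H.inv_mem h.2)
        refine ⟨some k, (hBs k a).mpr h1, ?_⟩
        rintro (_ | k') hk'
        · exact absurd hk' haK
        · have h2 := (hBs k' a).mp hk'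
          congr 1
          by_contra hne
          have h3 : (k' : Γ)⁻¹ * k ∉ H := by
            intro h4
            have h5 := hKH _ (K.mul_mem (K.inv_mem k'.2) k.2) h4
            exact hne (Subtype.ext (inv_mul_eq_one.mp h5))
          have h4 := hH'.2.2 _ h3 _ h2 (by
            have : ((k' : Γ)⁻¹ * k)⁻¹ * ((k' : Γ)⁻¹ * a * k') * ((k' : Γ)⁻¹ * k) = (k : Γ)⁻¹ * a * k := by group
            rw [this]; exact h1)
          apply ha1
          have : a = k' * ((k' : Γ)⁻¹ * a * k') * (k' : Γ)⁻¹ := by group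
          rw [this, h4]; group
    · rintro (_ | k) v hv
      · exact hCK v hv
      · have h1 : c (k : Γ)⁻¹ v = 1 := by
          apply hbot'
          intro h hh
          have h2 := hv (k * h * (k : Γ)⁻¹) ((hBs k _).mpr (by
            have : (k : Γ)⁻¹ * (k * h * (k : Γ)⁻¹) * k = h := by group
            rw [this]; exact hh))
          rw [← MulAut.mul_apply, ← map_mul]
          conv_rhs => rw [← h2]
          rw [← MulAut.mul_apply, ← map_mul]
          congr 2
          group
        exact (MulEquiv.map_eq_one_iff _).mp h1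
  obtain ⟨v0, hv0⟩ := exists_ne (1 : V)
  have h1 := key v0
  rw [Fintype.card_option, pow_succ, mul_eq_right, ← Nat.card_eq_fintype_card] at h1
  exact hv0 (eq_one_of_pow_coprime hcop _ h1)

/-- involutions of a Frobenius complement invert the kernel -/
theorem compl_invol_inverts {G : Type*} [Group G] [Finite G] (H : Subgroup G) (hH : IsFrobeniusComplement H) (K : Subgroup G)
    (hK : (K : Set G) = frobeniusKernel H) {t : G} (ht : t ∈ H) (ht1 : t ≠ 1) (htt : t * t = 1) (k : G) (hk : k ∈ K) :
    t * k * t⁻¹ = k⁻¹ := by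
  haveI := kernel_normal H hH K hK
  have hKc := kernel_compl H hH K hK
  have htK : t ∉ K := by
    intro h
    apply ht1
    have := hKc.disjoint
    rw [disjoint_iff] at this
    rw [← Subgroup.mem_bot, ← this]
    exact Subgroup.mem_inf.mpr ⟨h, ht⟩
  let α : K ≃* K := (MulAut.conjNormal t : MulAut K)
  have h1 : MonoidHom.FixedPointFree (α : K →* K) := by
    intro x hx
    have h2 : ((MulAut.conjNormal t : MulAut K) x : K) = x := hx
    have h3 := congrArg Subtype.val h2
    rw [MulAut.conjNormal_apply] at h3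
    exact Subtype.ext (kernel_fpf H hH K hK htK x.2 (mul_inv_eq_iff_eq_mul.mp h3).symm)
  have h2 : Function.Involutive (α : K →* K) := by
    intro x
    show (MulAut.conjNormal t : MulAut K) ((MulAut.conjNormal t : MulAut K) x) = x
    rw [← MulAut.mul_apply, ← map_mul, htt, map_one, MulAut.one_apply]
  have h3 := congrFun (h1.coe_eq_inv_of_involutive h2) ⟨k, hk⟩
  have h4 := congrArg Subtype.val h3
  have h5 : (((α : K →* K) ⟨k, hk⟩ : K) : G) = t * k * t⁻¹ := MulAut.conjNormal_apply t ⟨k, hk⟩
  rw [h5] at h4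
  exact h4

theorem compl_unique_invol {G : Type*} [Group G] [Finite G] (H : Subgroup G) (hH : IsFrobeniusComplement H)
    {s t : G} (hs : s ∈ H) (hs1 : s ≠ 1) (hss : s * s = 1) (ht : t ∈ H) (ht1 : t ≠ 1) (htt : t * t = 1) : s = t := by
  obtain ⟨K, hK, hKn, hKc⟩ := frobenius_kernel H hH
  by_contra hne
  obtain ⟨k, hk, hk1⟩ : ∃ k ∈ K, k ≠ 1 := by
    by_contra hcon
    push Not at hcon
    exact kernel_ne_bot H hH K hK ((Subgroup.eq_bot_iff_forall _).mpr hcon)
  have h1 := compl_invol_inverts H hH K hK hs hs1 hss k hk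
  have h2 := compl_invol_inverts H hH K hK ht ht1 htt k hk
  have hst : s⁻¹ * t ∈ H := H.mul_mem (H.inv_mem hs) ht
  have hst1 : s⁻¹ * t ≠ 1 := fun h => hne (inv_mul_eq_one.mp h)
  have hstK : s⁻¹ * t ∉ K := by
    intro h
    apply hst1
    have := hKc.disjoint
    rw [disjoint_iff] at this
    rw [← Subgroup.mem_bot, ← this]
    exact Subgroup.mem_inf.mpr ⟨h, hst⟩
  apply hk1
  apply kernel_fpf H hH K hK hstK hk
  calc k * (s⁻¹ * t) = s⁻¹ * (s * k * s⁻¹) * t := by group
    _ = s⁻¹ * (t * k * t⁻¹) * t := by rw [h1, h2]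
    _ = _ := by group

/-- a Frobenius complement of odd order is a Z-group -/
theorem compl_zgroup {G : Type*} [Group G] [Finite G] (H : Subgroup G) (hH : IsFrobeniusComplement H)
    (hodd : Odd (Nat.card H)) : IsZGroup H := by
  obtain ⟨K, hK, hKn, hKc⟩ := frobenius_kernel H hH
  have hHK : ∀ x ∈ H, x ≠ 1 → x ∉ K := by
    intro x hx hx1 h
    apply hx1
    have := hKc.disjoint
    rw [disjoint_iff] at this
    rw [← Subgroup.mem_bot, ← this]
    exact Subgroup.mem_inf.mpr ⟨h, hx⟩
  constructor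
  intro p hp P
  haveI : Fact p.Prime := ⟨hp⟩
  have e : (P : Subgroup H) ≃* (P : Subgroup H).map H.subtype := (P : Subgroup H).equivMapOfInjective _ H.subtype_injective
  have h1 := sylow_of_fpf ((P : Subgroup H).map H.subtype) K (P.isPGroup'.map _) (by
    rw [Subgroup.normalizer_eq_top]; exact le_top) (kernel_ne_bot H hH K hK) (by
    rintro _ ⟨x, hx, rfl⟩ hx1 k hk hc
    exact kernel_fpf H hH K hK (hHK x x.2 hx1) hk hc.symm)
  rcases h1 with h | ⟨h2, m, hm, ⟨φ⟩⟩
  · exact isCyclic_of_surjective e.symm.toMonoidHom e.symm.surjective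
  · exfalso
    have h3 : Nat.card P = Nat.card (QuaternionGroup (2 ^ m)) := Nat.card_congr (e.trans φ).toEquiv
    haveI : NeZero (2 ^ m) := ⟨by positivity⟩
    rw [Nat.card_eq_fintype_card (α := QuaternionGroup (2 ^ m)), QuaternionGroup.card] at h3
    have h4 : Nat.card P ∣ Nat.card H := Subgroup.card_subgroup_dvd_card _
    rw [h3] at h4
    have h5 : 2 ∣ Nat.card H := (by norm_num : (2 : ℕ) ∣ 4).trans ((dvd_mul_right 4 _).trans h4)
    exact (Nat.not_even_iff_odd.mpr hodd) (even_iff_two_dvd.mpr h5)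

/-- an abelian Frobenius complement is cyclic -/
theorem compl_cyclic {G : Type*} [Group G] [Finite G] (H : Subgroup G) (hH : IsFrobeniusComplement H)
    (hab : IsMulCommutative H) : IsCyclic H := by
  obtain ⟨K, hK, hKn, hKc⟩ := frobenius_kernel H hH
  have hHK : ∀ x ∈ H, x ≠ 1 → x ∉ K := by
    intro x hx hx1 h
    apply hx1
    have := hKc.disjoint
    rw [disjoint_iff] at this
    rw [← Subgroup.mem_bot, ← this]
    exact Subgroup.mem_inf.mpr ⟨h, hx⟩
  have hfpf : ∀ x ∈ H, x ≠ 1 → ∀ k ∈ K, x * k = k * x → k = 1 := fun x hx hx1 k hk hc =>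
    kernel_fpf H hH K hK (hHK x hx hx1) hk hc.symm
  by_contra hnc
  have hcop : (Nat.card K).Coprime (Nat.card H) := by
    apply coprime_of_fpf (actOn H K (by rw [Subgroup.normalizer_eq_top]; exact le_top))
    intro g hg v hv
    have h1 := congrArg Subtype.val hv
    rw [actOn_apply] at h1
    exact Subtype.ext (hfpf g g.2 (fun h => hg (Subtype.ext h)) v v.2 (mul_inv_eq_iff_eq_mul.mp h1))
  have h1 := L0.closure_centralizers_eq (N := K) hab hnc (by rw [Subgroup.normalizer_eq_top]; exact le_top) hcop.symm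
  apply kernel_ne_bot H hH K hK
  rw [← h1, Subgroup.closure_eq_bot_iff]
  rintro x ⟨hxK, v, hvF, hv1, hv⟩
  exact hfpf v hvF hv1 x hxK hv

end Cfsg.Agent.H3
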