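import Mathlib
import Cfsg.Agent.H3.Omega
import Cfsg.Agent.H6.PNil
set_option autoImplicit false
set_option linter.unusedVariables false
set_option linter.style.haveILetI false
/-! `p`-nilpotence from a local condition modulo the Frattini subgroup (via Tate's theorem); H-subgroups. -/
open Subgroup
open scoped commutatorElement

namespace Cfsg.Agent.H3

theorem npc_of_local_frattini {G : Type*} [Group G] [Finite G] {p : ℕ} [hp : Fact p.Prime] (P : Sylow p G)
    (h : ∀ Q : Subgroup G, Q ≤ (P : Subgroup G) → ∀ x ∈ normalizer (Q : Set G), (orderOf x).Coprime p →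
      ∀ a ∈ Q, a⁻¹ * (x⁻¹ * a * x) ∈ (frattini (P : Subgroup G)).map (P : Subgroup G).subtype) :
    HasNormalPComplement p G := by
  set X := (frattini (P : Subgroup G)).map (P : Subgroup G).subtype with hX
  have hPX : (P : Subgroup G) ≤ normalizer (X : Set G) :=
    Subgroup.le_normalizer.trans (normalizer_le_of_char (frattini (P : Subgroup G)))
  have hcomm : ⁅(P : Subgroup G), (P : Subgroup G)⁆ ≤ X := L0.Fus.comm_le_frattini P.2
  have hfoc : ∀ a g : G, a ∈ (P : Subgroup G) → g⁻¹ * a * g ∈ (P : Subgroup G) → a⁻¹ * (g⁻¹ * a * g) ∈ X := by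
    intro a g ha hga
    have h1 := H6.alperin_fn P {a} g (by rintro _ rfl; exact ha) (by
      rintro _ ⟨b, hb, rfl⟩
      rw [Set.mem_singleton_iff] at hb
      subst hb; exact hga)
    refine H6.Ch.transfer ?_ h1 a rfl
    rintro A x ⟨T, ⟨hTS, hT⟩, hAT, hx⟩ b hb
    obtain ⟨r, hr, e, he, rfl⟩ := H6.exists_mul_of_power (p := p) (N0 := Subgroup.normalizer (T : Set G))
      (E0 := H6.opR p (Subgroup.normalizer (T : Set G))) (D := Subgroup.normalizer (T : Set G)) hT
      (H6.opR_le p _) (H6.le_norm_opR _) le_rfl Subgroup.le_normalizer (fun d hd => H6.pow_mem_opR hd) hx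
    have hmemT : ∀ z ∈ normalizer (T : Set G), ∀ c ∈ T, z⁻¹ * c * z ∈ T := by
      intro z hz c hc
      have := (Subgroup.mem_normalizer_iff.1 (Subgroup.inv_mem _ hz) c).1 hc
      simpa using this
    have hE : e ∈ normalizer (T : Set G) ∧ ∀ c ∈ T, c⁻¹ * (e⁻¹ * c * e) ∈ X := by
      refine Subgroup.closure_induction (p := fun e _ => e ∈ normalizer (T : Set G) ∧ ∀ c ∈ T, c⁻¹ * (e⁻¹ * c * e) ∈ X)
        ?_ ?_ ?_ ?_ he
      · intro z hz
        exact ⟨hz.1, fun c hc => h T hTS z hz.1 hz.2 c hc⟩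
      · refine ⟨Subgroup.one_mem _, fun c hc => ?_⟩
        have : c⁻¹ * ((1 : G)⁻¹ * c * 1) = 1 := by group
        rw [this]; exact X.one_mem
      · rintro y z _ _ ⟨hy1, hy2⟩ ⟨hz1, hz2⟩
        refine ⟨Subgroup.mul_mem _ hy1 hz1, fun c hc => ?_⟩
        have h3 := X.mul_mem (hy2 c hc) (hz2 _ (hmemT y hy1 c hc))
        have e : c⁻¹ * (y⁻¹ * c * y) * ((y⁻¹ * c * y)⁻¹ * (z⁻¹ * (y⁻¹ * c * y) * z)) = c⁻¹ * ((y * z)⁻¹ * c * (y * z)) := by group
        rwa [e] at h3
      · rintro y _ ⟨hy1, hy2⟩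
        refine ⟨Subgroup.inv_mem _ hy1, fun c hc => ?_⟩
        have hc' : y * c * y⁻¹ ∈ T := (Subgroup.mem_normalizer_iff.1 hy1 c).1 hc
        have h3 := X.inv_mem (hy2 _ hc')
        have e : ((y * c * y⁻¹)⁻¹ * (y⁻¹ * (y * c * y⁻¹) * y))⁻¹ = c⁻¹ * (y⁻¹⁻¹ * c * y⁻¹) := by group
        rwa [e] at h3
    have hbT : b ∈ T := hAT hb
    have h3 := X.mul_mem (hcomm (Subgroup.commutator_mem_commutator ((P : Subgroup G).inv_mem (hTS hbT)) ((P : Subgroup G).inv_mem hr.1)))
      (hE.2 _ (hmemT r hr.2 b hbT))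
    have e1 : ⁅b⁻¹, r⁻¹⁆ * ((r⁻¹ * b * r)⁻¹ * (e⁻¹ * (r⁻¹ * b * r) * e)) = b⁻¹ * ((r * e)⁻¹ * b * (r * e)) := by
      rw [commutatorElement_def]; group
    rwa [e1] at h3
  have hS := P.2
  have hF := L0.Fus.group_saturated P
  have hfs : (groupFusionSystem (P : Subgroup G)).focalSubgroup ≤ X := by
    refine (Subgroup.closure_le _).mpr ?_
    rintro _ ⟨Q, φ, y, ⟨hQ1, hQ2, g, hg⟩, rfl⟩
    have h1 := hQ2 y
    rw [hg y] at h1
    have h2 := hfoc (y : G) g⁻¹ (hQ1 y.2) (by simpa using h1)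
    rw [hg y]
    simpa using h2
  have h4 := L0.Fus.tate hS hF (L0.Fus.inner_saturated hS) (L0.Fus.inner_le _) (hfs.trans le_sup_left)
  rw [L0.Fus.inner_hyperfocal hS] at h4
  have h5 := L0.Fus.eq_inner_of_hyperfocal hS hF h4
  refine npc_of_fusion P ?_
  intro a ha _ g hga
  have h6 : conjHom (zpowers a) g ∈ (groupFusionSystem (P : Subgroup G)).Hom (zpowers a) := by
    refine ⟨(zpowers_le.mpr ha), ?_, g, fun _ => rfl⟩
    rintro ⟨_, k, rfl⟩
    show g * a ^ k * g⁻¹ ∈ (P : Subgroup G)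
    rw [← conj_zpow]
    exact Subgroup.zpow_mem _ hga k
  rw [h5] at h6
  obtain ⟨_, x, hx, he⟩ := h6
  exact ⟨x, hx, he ⟨a, mem_zpowers a⟩⟩


theorem comm_mem_of_relIndex_prime {G : Type*} [Group G] [Finite G] {p : ℕ} [hp : Fact p.Prime] {Q Q1 : Subgroup G} (h1 : Q1 ≤ Q)
    (hn : Q ≤ normalizer (Q1 : Set G)) (hi : Q1.relIndex Q = p) {x : G} (hx : x ∈ normalizer (Q : Set G))
    (hx1 : x ∈ normalizer (Q1 : Set G)) (hxo : (orderOf x).Coprime (p - 1)) {a : G} (ha : a ∈ Q) :
    a⁻¹ * (x * a * x⁻¹) ∈ Q1 := by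
  set N1 := normalizer (Q1 : Set G) with hN1
  have hQ1N : Q1 ≤ N1 := Subgroup.le_normalizer
  haveI hnorm : (Q1.subgroupOf N1).Normal := by rw [hN1]; exact Subgroup.normal_in_normalizer
  let q := QuotientGroup.mk' (Q1.subgroupOf N1)
  set Q' := (Q.subgroupOf N1).map q with hQ'
  have hcard : Nat.card Q' = p := by
    have h2 : Nat.card Q' = (q.ker).relIndex (Q.subgroupOf N1) := by
      rw [Subgroup.relIndex_ker]
    rw [h2, QuotientGroup.ker_mk', Subgroup.relIndex_subgroupOf hn, hi]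
  haveI : IsCyclic Q' := isCyclic_of_prime_card hcard
  have hx' : q ⟨x, hx1⟩ ∈ normalizer (Q' : Set (N1 ⧸ Q1.subgroupOf N1)) := by
    rw [hQ']
    apply Subgroup.le_normalizer_map q
    refine ⟨⟨x, hx1⟩, ?_, rfl⟩
    rw [SetLike.mem_coe, Subgroup.mem_normalizer_iff]
    intro y
    exact Subgroup.mem_normalizer_iff.mp hx y
  have h3 := mem_centralizer_of_coprime Q' hx' (by
    rw [IsCyclic.card_mulAut, hcard, Nat.totient_prime hp.out]
    exact Nat.Coprime.coprime_dvd_left ((orderOf_map_dvd q _).trans (by rw [← Subgroup.orderOf_coe])) hxo)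
  have h4 := Subgroup.mem_centralizer_iff.mp h3 (q ⟨a, hn ha⟩) ⟨⟨a, hn ha⟩, ha, rfl⟩
  have h5 : (⟨a, hn ha⟩ : N1)⁻¹ * (⟨x, hx1⟩ * ⟨a, hn ha⟩ * ⟨x, hx1⟩⁻¹) ∈ Q1.subgroupOf N1 := by
    rw [← QuotientGroup.eq_one_iff]
    show q _ = 1
    rw [map_mul, map_inv, map_mul, map_mul, map_inv, ← h4]
    group
  exact h5

/-- H-subgroups -/
def HS {G : Type*} [Group G] (E : Subgroup G) : Prop :=
  ∀ g : G, E.map (MulAut.conj g).toMonoidHom ⊓ normalizer (E : Set G) ≤ E

theorem HS.le_normalizer {G : Type*} [Group G] [Finite G] {p : ℕ} [hp : Fact p.Prime] {E S : Subgroup G} (h : HS E)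
    (hS : IsPGroup p S) (hES : E ≤ S) : S ≤ normalizer (E : Set G) := by
  by_contra hne
  haveI := hS.isNilpotent
  have h1 : (normalizer (E : Set G)).subgroupOf S < ⊤ := by
    rw [lt_top_iff_ne_top]
    intro he
    exact hne (Subgroup.subgroupOf_eq_top.mp he)
  have h2 := Group.normalizerCondition_of_isNilpotent _ h1
  obtain ⟨y, hy, hy'⟩ := SetLike.exists_of_lt h2
  apply hy'
  show (y : G) ∈ normalizer (E : Set G)
  apply Subgroup.mem_normalizer_fintype
  intro e he
  have h3 : (⟨e, hES he⟩ : S) ∈ (normalizer (E : Set G)).subgroupOf S := Subgroup.le_normalizer he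
  have h4 := (Subgroup.mem_normalizer_iff.mp hy _).mp h3
  exact h y ⟨⟨e, he, rfl⟩, h4⟩

theorem HS.closed {G : Type*} [Group G] [Finite G] {p : ℕ} [hp : Fact p.Prime] {E S : Subgroup G} (h : HS E)
    (hS : IsPGroup p S) (hES : E ≤ S) {a g : G} (ha : a ∈ E) (hg : g * a * g⁻¹ ∈ S) : g * a * g⁻¹ ∈ E :=
  h g ⟨⟨a, ha, rfl⟩, h.le_normalizer hS hES hg⟩

theorem HS.mem_normalizer {G : Type*} [Group G] [Finite G] {p : ℕ} [hp : Fact p.Prime] {E S Q : Subgroup G} (h : HS E)
    (hS : IsPGroup p S) (hES : E ≤ S) (hQS : Q ≤ S) {x : G} (hx : x ∈ normalizer (Q : Set G)) :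
    x ∈ normalizer ((E ⊓ Q : Subgroup G) : Set G) := by
  apply Subgroup.mem_normalizer_fintype
  intro a ha
  have h1 := (Subgroup.mem_normalizer_iff.mp hx a).mp ha.2
  exact ⟨h.closed hS hES ha.1 (hQS h1), h1⟩

theorem mem_frattini_map {G : Type*} [Group G] [Finite G] {p : ℕ} [hp : Fact p.Prime] {S : Subgroup G} (hS : IsPGroup p S) {z : G}
    (hz : z ∈ S) (h : ∀ M : Subgroup G, M ≤ S → M.relIndex S = p → S ≤ normalizer (M : Set G) → z ∈ M) :
    z ∈ (frattini S).map S.subtype := by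
  refine ⟨⟨z, hz⟩, ?_, rfl⟩
  have key : ∀ M : Subgroup S, IsCoatom M → (⟨z, hz⟩ : S) ∈ M := by
    intro M hM
    haveI : Group.IsNilpotent S := hS.isNilpotent
    haveI hMn : M.Normal := Subgroup.NormalizerCondition.normal_of_coatom M
      Group.normalizerCondition_of_isNilpotent hM
    have h1 := H1.index_of_isCoatom_pgroup hS hM
    have hsub : (M.map S.subtype).subgroupOf S = M := by
      rw [Subgroup.subgroupOf, Subgroup.comap_map_eq_self_of_injective S.subtype_injective]
    have h2 := h (M.map S.subtype) (Subgroup.map_subtype_le _) (by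
      rw [Subgroup.relIndex, hsub, h1]) (by
      rw [← Subgroup.normal_subgroupOf_iff_le_normalizer (Subgroup.map_subtype_le _), hsub]
      exact hMn)
    obtain ⟨y, hy, he⟩ := h2
    have : y = ⟨z, hz⟩ := Subtype.ext he
    rwa [this] at hy
  show (⟨z, hz⟩ : S) ∈ frattini S
  unfold frattini Order.radical
  simp only [Subgroup.mem_iInf]
  exact fun M hM => key M hM

theorem coprime_pred_of_min {G : Type*} [Group G] [Finite G] {p : ℕ} [hp : Fact p.Prime]
    (hmin : ∀ q : ℕ, q.Prime → q ∣ Nat.card G → p ≤ q) (x : G) : (orderOf x).Coprime (p - 1) := by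
  by_contra hne
  obtain ⟨r, hr, h1, h2⟩ := Nat.Prime.not_coprime_iff_dvd.mp hne
  have h3 := hmin r hr (h1.trans (orderOf_dvd_natCard x))
  have h4 := hp.out.two_le
  have h5 := Nat.le_of_dvd (by omega) h2
  omega

/-- `x` acts trivially modulo the Frattini subgroup, if it normalizes all subgroups of index `p` -/
theorem centralizes_of_normalizes_maximal {G : Type*} [Group G] [Finite G] {p : ℕ} [hp : Fact p.Prime] {T : Subgroup G}
    (hT : IsPGroup p T) {x : G} (hxo : (orderOf x).Coprime p) (hxo' : (orderOf x).Coprime (p - 1))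
    (hx : x ∈ normalizer (T : Set G))
    (h : ∀ M : Subgroup G, M ≤ T → M.relIndex T = p → x ∈ normalizer (M : Set G)) : x ∈ centralizer (T : Set G) := by
  have hAT : zpowers x ≤ normalizer (T : Set G) := by rwa [zpowers_le]
  obtain ⟨m, hm⟩ := IsPGroup.iff_card.mp hT
  have hcop : (Nat.card (zpowers x)).Coprime (Nat.card T) := by
    rw [Nat.card_zpowers, hm]; exact hxo.pow_right m
  have hs : Group.IsSolvable (zpowers x) ∨ Group.IsSolvable T := by
    haveI := hT.isNilpotent
    exact Or.inr inferInstance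
  have h1 : ⁅T, zpowers x⁆ = ⊥ := by
    refine L0.commutator_eq_bot_of_le_frattini hAT hcop hs ?_
    rw [Subgroup.commutator_le]
    rintro z hz _ ⟨k, rfl⟩
    have hxk : x ^ k ∈ normalizer (T : Set G) := Subgroup.zpow_mem _ hx k
    have hmem : (x ^ k) * z⁻¹ * (x ^ k)⁻¹ ∈ T := (Subgroup.mem_normalizer_iff.mp hxk _).mp (T.inv_mem hz)
    have e : ⁅z, x ^ k⁆ = z⁻¹⁻¹ * (x ^ k * z⁻¹ * (x ^ k)⁻¹) := by rw [commutatorElement_def]; group
    show ⁅z, x ^ k⁆ ∈ _
    rw [e]
    refine mem_frattini_map hT (T.mul_mem (T.inv_mem (T.inv_mem hz)) hmem) ?_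
    intro M hM hMi hMn
    refine comm_mem_of_relIndex_prime hM hMn hMi hxk (Subgroup.zpow_mem _ (h M hM hMi) k) ?_ (T.inv_mem hz)
    exact Nat.Coprime.coprime_dvd_left (orderOf_dvd_of_mem_zpowers ⟨k, rfl⟩) hxo'
  rwa [Subgroup.commutator_comm, Subgroup.commutator_eq_bot_iff_le_centralizer, zpowers_le] at h1

open scoped Pointwise in
/-- the centralizing step -/
theorem centralizes_of_HS {G : Type*} [Group G] [Finite G] {p : ℕ} [hp : Fact p.Prime] {Q : Subgroup G}
    (hQ : IsPGroup p Q) {x : G} (hxo : (orderOf x).Coprime p) (hxo' : (orderOf x).Coprime (p - 1))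
    (hx : x ∈ normalizer (Q : Set G)) {m : ℕ} (hm : 1 ≤ m) (hQm : p ^ m < Nat.card Q)
    (h : ∀ E : Subgroup G, E ≤ Q → (Nat.card E = p ^ m ∨ (p ^ m = 2 ∧ Nat.card E = 4)) →
      Q ≤ normalizer (E : Set G) ∧ x ∈ normalizer (E : Set G)) : x ∈ centralizer (Q : Set G) := by
  obtain ⟨n, hn⟩ := IsPGroup.iff_card.mp hQ
  have hpp := hp.out
  have hmn : m < n := by rw [hn] at hQm; exact (Nat.pow_lt_pow_iff_right hpp.one_lt).mp hQm
  have hcyc : ∀ E : Subgroup G, IsPGroup p E → IsCyclic E → x ∈ normalizer (E : Set G) → x ∈ centralizer (E : Set G) := by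
    intro E hE hEc hxE
    refine mem_centralizer_of_coprime E hxE ?_
    rw [IsCyclic.card_mulAut]
    obtain ⟨k, hk⟩ := IsPGroup.iff_card.mp hE
    rw [hk]
    rcases Nat.eq_zero_or_pos k with h0 | h0
    · rw [h0]; simp
    · rw [Nat.totient_prime_pow hpp h0]
      exact Nat.Coprime.mul_right (hxo.pow_right _) hxo'
  have hE : ∀ E : Subgroup G, E ≤ Q → Nat.card E = p ^ m → x ∈ centralizer (E : Set G) := by
    intro E hEQ hEc
    obtain ⟨hQE, hxE⟩ := h E hEQ (Or.inl hEc)
    obtain ⟨T0, hT0c, hET0⟩ := Sylow.exists_subgroup_card_pow_prime_le (G := Q) p (n := m) (m := m + 1)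
      (by rw [hn]; exact Nat.pow_dvd_pow p hmn) (E.subgroupOf Q) (by
        rw [Nat.card_congr (Subgroup.subgroupOfEquivOfLe hEQ).toEquiv, hEc]) (Nat.le_succ m)
    set T := T0.map Q.subtype with hTdef
    have hTQ : T ≤ Q := Subgroup.map_subtype_le _
    have hTc : Nat.card T = p ^ (m + 1) := by
      rw [hTdef, Subgroup.card_map_of_injective Q.subtype_injective, hT0c]
    have hET : E ≤ T := by
      intro e he
      exact ⟨⟨e, hEQ he⟩, hET0 he, rfl⟩
    have hTp : IsPGroup p T := hQ.to_le hTQ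
    by_cases hc : ∃ t ∈ T, T ≤ zpowers t
    · obtain ⟨t, ht, hTt⟩ := hc
      refine hcyc E (hQ.to_le hEQ) ?_ hxE
      exact isCyclic_of_injective (Subgroup.inclusion (hET.trans hTt)) (Subgroup.inclusion_injective _)
    · replace hc : ∀ t ∈ T, ¬ T ≤ zpowers t := fun t ht h => hc ⟨t, ht, h⟩
      have hMx : ∀ M : Subgroup G, M ≤ T → M.relIndex T = p → Nat.card M = p ^ m := by
        intro M hMT hMi
        have h1 := Subgroup.card_mul_index (M.subgroupOf T)
        rw [Nat.card_congr (Subgroup.subgroupOfEquivOfLe hMT).toEquiv] at h1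
        change Nat.card M * M.relIndex T = _ at h1
        rw [hMi, hTc, pow_succ] at h1
        exact Nat.eq_of_mul_eq_mul_right hpp.pos h1
      have hxT : x ∈ normalizer (T : Set G) := by
        have hlt : E < T := lt_of_le_of_ne hET (fun he => by
          rw [he, hTc] at hEc
          exact absurd (Nat.pow_right_injective hpp.two_le hEc) (by omega))
        obtain ⟨t, ht, htE⟩ := SetLike.exists_of_lt hlt
        have h1 := hc t ht
        have h2 : (zpowers t).subgroupOf T ≠ ⊤ := fun he => h1 (Subgroup.subgroupOf_eq_top.mp he)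
        obtain ⟨M, hM, hM'⟩ := (eq_top_or_exists_le_coatom ((zpowers t).subgroupOf T)).resolve_left h2
        have hMi := H1.index_of_isCoatom_pgroup hTp hM
        have hsub : (M.map T.subtype).subgroupOf T = M := by
          rw [Subgroup.subgroupOf, Subgroup.comap_map_eq_self_of_injective T.subtype_injective]
        have hMc := hMx (M.map T.subtype) (Subgroup.map_subtype_le _) (by rw [Subgroup.relIndex, hsub, hMi])
        have hMT : M.map T.subtype ≤ T := Subgroup.map_subtype_le _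
        have h3 := (h (M.map T.subtype) (hMT.trans hTQ) (Or.inl hMc)).2
        have htM : t ∈ M.map T.subtype := ⟨⟨t, ht⟩, hM' (mem_zpowers t), rfl⟩
        have hsup : E ⊔ M.map T.subtype = T := by
          apply le_antisymm (sup_le hET hMT)
          have h4 : M < (E ⊔ M.map T.subtype).subgroupOf T := by
            refine lt_of_le_of_ne ?_ ?_
            · have h40 : (M.map T.subtype).subgroupOf T ≤ (E ⊔ M.map T.subtype).subgroupOf T := Subgroup.comap_mono le_sup_right
              exact hsub.symm.le.trans h40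
            · intro he
              have h5 : E ≤ M.map T.subtype := by
                intro e he'
                have h50 : (⟨e, hET he'⟩ : T) ∈ (E ⊔ M.map T.subtype).subgroupOf T := (le_sup_left : E ≤ E ⊔ M.map T.subtype) he'
                rw [← he] at h50
                exact ⟨_, h50, rfl⟩
              have h6 : E = M.map T.subtype := Subgroup.eq_of_le_of_card_ge h5 (by rw [hMc, hEc])
              exact htE (h6 ▸ htM)
          have h7 := hM.2 _ h4
          exact Subgroup.subgroupOf_eq_top.mp h7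
        rw [← hsup]
        apply Subgroup.mem_normalizer_fintype
        intro y hy
        have : MulAut.conj x • (E ⊔ M.map T.subtype) = E ⊔ M.map T.subtype := by
          rw [Subgroup.smul_sup, L0.mem_normalizer_conj.mp hxE, L0.mem_normalizer_conj.mp h3]
        rw [SetLike.mem_coe, ← this]
        exact ⟨y, hy, rfl⟩
      have h8 := centralizes_of_normalizes_maximal hTp hxo hxo' hxT (fun M hM hMi =>
        (h M (hM.trans hTQ) (Or.inl (hMx M hM hMi))).2)
      exact Subgroup.centralizer_le hET h8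
  refine omega_centralizes hxo _ Q rfl hQ hx ?_
  intro a ha hcond
  obtain ⟨i, hi⟩ := IsPGroup.iff_card.mp (hQ.to_le (zpowers_le.mpr ha))
  rcases Nat.lt_or_ge m i with hlt | hge
  · -- p = 2, m = 1, order 4
    rw [Nat.card_zpowers] at hi
    have hnot : ¬ a ^ p = 1 := by
      intro h1
      have h2 := orderOf_dvd_of_pow_eq_one h1
      rw [hi] at h2
      have h3 := Nat.le_of_dvd hpp.pos h2
      have h4 : p ^ 2 ≤ p ^ i := Nat.pow_le_pow_right hpp.pos (by omega)
      have h5 : p < p ^ 2 := by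
        have := Nat.pow_lt_pow_right hpp.one_lt (show 1 < 2 by norm_num)
        simpa using this
      omega
    obtain ⟨h2, h4⟩ := hcond.resolve_left hnot
    have h5 := orderOf_dvd_of_pow_eq_one h4
    rw [hi, h2] at h5
    have h6 : i ≤ 2 := (Nat.pow_dvd_pow_iff_le_right (show 1 < 2 by norm_num)).mp (by simpa using h5)
    have hm1 : m = 1 := by omega
    have hi2 : i = 2 := by omega
    have h7 := (h (zpowers a) (zpowers_le.mpr ha) (Or.inr ⟨by rw [hm1, h2]; rfl, by rw [Nat.card_zpowers, hi, h2, hi2]; rfl⟩)).2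
    have h8 := hcyc (zpowers a) (hQ.to_le (zpowers_le.mpr ha)) inferInstance h7
    exact (Subgroup.mem_centralizer_iff.mp h8 a (mem_zpowers a)).symm
  · obtain ⟨E0, hE0c, hE0⟩ := Sylow.exists_subgroup_card_pow_prime_le (G := Q) p (n := i) (m := m)
      (by rw [hn]; exact Nat.pow_dvd_pow p hmn.le) ((zpowers a).subgroupOf Q) (by
        rw [Nat.card_congr (Subgroup.subgroupOfEquivOfLe (zpowers_le.mpr ha)).toEquiv, hi]) hge
    have h1 := hE (E0.map Q.subtype) (Subgroup.map_subtype_le _) (by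
      rw [Subgroup.card_map_of_injective Q.subtype_injective, hE0c])
    exact (Subgroup.mem_centralizer_iff.mp h1 a ⟨⟨a, ha⟩, hE0 (mem_zpowers a), rfl⟩).symm

theorem npc_of_HS {G : Type*} [Group G] [Finite G] {p : ℕ} [hp : Fact p.Prime] (P : Sylow p G)
    (hmin : ∀ q : ℕ, q.Prime → q ∣ Nat.card G → p ≤ q) {m : ℕ} (hm : 1 ≤ m) (hPm : p ^ m < Nat.card (P : Subgroup G))
    (h : ∀ E : Subgroup G, E ≤ (P : Subgroup G) → (Nat.card E = p ^ m ∨ (p ^ m = 2 ∧ Nat.card E = 4)) → HS E) :
    HasNormalPComplement p G := by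
  have hpp := hp.out
  refine npc_of_local_frattini P ?_
  intro Q hQ x0 hx0 hx0o a ha
  -- replace x by its inverse
  obtain ⟨x, rfl⟩ : ∃ x, x0 = x⁻¹ := ⟨x0⁻¹, (inv_inv x0).symm⟩
  have hx : x ∈ normalizer (Q : Set G) := by simpa using Subgroup.inv_mem _ hx0
  have hxo : (orderOf x).Coprime p := by rwa [orderOf_inv] at hx0o
  rw [inv_inv]
  have hxo' := coprime_pred_of_min hmin x
  have hxa : x * a * x⁻¹ ∈ Q := (Subgroup.mem_normalizer_iff.mp hx a).mp ha
  have hmem : a⁻¹ * (x * a * x⁻¹) ∈ Q := Q.mul_mem (Q.inv_mem ha) hxa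
  obtain ⟨k, hk⟩ := IsPGroup.iff_card.mp (P.2.to_le hQ)
  rcases Nat.lt_or_ge m k with hlt | hge
  · -- x centralizes Q
    have h1 := centralizes_of_HS (P.2.to_le hQ) hxo hxo' hx hm (by rw [hk]; exact Nat.pow_lt_pow_right hpp.one_lt hlt) (by
      intro E hE hc
      have h2 := h E (hE.trans hQ) hc
      refine ⟨hQ.trans (h2.le_normalizer P.2 (hE.trans hQ)), ?_⟩
      have h3 := h2.mem_normalizer P.2 (hE.trans hQ) hQ hx
      rwa [inf_eq_left.mpr hE] at h3)
    have h2 := Subgroup.mem_centralizer_iff.mp h1 a ha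
    have h3 : a⁻¹ * (x * a * x⁻¹) = 1 := by rw [← h2]; group
    rw [h3]
    exact Subgroup.one_mem _
  · refine mem_frattini_map P.2 (hQ hmem) ?_
    intro M hMP hMi hMn
    by_cases hQM : Q ≤ M
    · exact hQM hmem
    have hMc : Nat.card M * p = Nat.card (P : Subgroup G) := by
      have h1 := Subgroup.card_mul_index (M.subgroupOf P)
      rw [Nat.card_congr (Subgroup.subgroupOfEquivOfLe hMP).toEquiv] at h1
      change Nat.card M * M.relIndex P = _ at h1
      rwa [hMi] at h1
    have hMp : IsPGroup p M := P.2.to_le hMP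
    obtain ⟨j, hj⟩ := IsPGroup.iff_card.mp hMp
    have hmj : m ≤ j := by
      rw [← hMc, hj, ← pow_succ] at hPm
      have := (Nat.pow_lt_pow_iff_right hpp.one_lt).mp hPm
      omega
    set Q1 := M ⊓ Q with hQ1
    have hQ1Q : Q1 ≤ Q := inf_le_right
    have hQ1i : Q1.relIndex Q = p := by
      have h1 : Q1.relIndex Q = M.relIndex Q := Subgroup.inf_relIndex_right M Q
      have h2 : M.relIndex Q ∣ p := by
        haveI hMn' : (M.subgroupOf P).Normal := (Subgroup.normal_subgroupOf_iff_le_normalizer hMP).mpr hMn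
        have h3 : (M.subgroupOf P).relIndex (Q.subgroupOf P) ∣ (M.subgroupOf P).index := Subgroup.relIndex_dvd_index_of_normal _ _
        rwa [Subgroup.relIndex_subgroupOf hQ, show (M.subgroupOf P).index = p from hMi] at h3
      rw [h1]
      rcases (Nat.dvd_prime hpp).mp h2 with h3 | h3
      · exact absurd (Subgroup.relIndex_eq_one.mp h3) hQM
      · exact h3
    have hQ1p : IsPGroup p Q1 := P.2.to_le (hQ1Q.trans hQ)
    obtain ⟨i, hi⟩ := IsPGroup.iff_card.mp hQ1p
    have hik : i + 1 = k := by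
      have h1 := Subgroup.card_mul_index (Q1.subgroupOf Q)
      rw [Nat.card_congr (Subgroup.subgroupOfEquivOfLe hQ1Q).toEquiv] at h1
      change Nat.card Q1 * Q1.relIndex Q = _ at h1
      rw [hQ1i, hi, hk, ← pow_succ] at h1
      exact Nat.pow_right_injective hpp.two_le h1
    obtain ⟨E0, hE0c, hE0⟩ := Sylow.exists_subgroup_card_pow_prime_le (G := M) p (n := i) (m := m)
      (by rw [hj]; exact Nat.pow_dvd_pow p hmj) (Q1.subgroupOf M) (by
        rw [Nat.card_congr (Subgroup.subgroupOfEquivOfLe (inf_le_left : Q1 ≤ M)).toEquiv, hi]) (by omega)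
    set E := E0.map M.subtype with hE
    have hEM : E ≤ M := Subgroup.map_subtype_le _
    have hQ1E : Q1 ≤ E := by
      intro y hy
      exact ⟨⟨y, hy.1⟩, hE0 hy, rfl⟩
    have hEQ : E ⊓ Q = Q1 := le_antisymm (inf_le_inf_right Q hEM) (le_inf hQ1E hQ1Q)
    have hxQ1 : x ∈ normalizer (Q1 : Set G) := by
      rw [← hEQ]
      refine HS.mem_normalizer (h E (hEM.trans hMP) (Or.inl ?_)) P.2 (hEM.trans hMP) hQ hx
      rw [hE, Subgroup.card_map_of_injective M.subtype_injective, hE0c]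
    have hQn : Q ≤ normalizer (Q1 : Set G) := by
      intro y hy
      apply Subgroup.mem_normalizer_fintype
      intro z hz
      exact ⟨(Subgroup.mem_normalizer_iff.mp (hMn (hQ hy)) z).mp hz.1, Q.mul_mem (Q.mul_mem hy hz.2) (Q.inv_mem hy)⟩
    exact (comm_mem_of_relIndex_prime hQ1Q hQn hQ1i hx hxQ1 hxo' ha).1

theorem npc_of_cyclic {G : Type*} [Group G] [Finite G] {p : ℕ} [hp : Fact p.Prime] (P : Sylow p G)
    (hmin : ∀ q : ℕ, q.Prime → q ∣ Nat.card G → p ≤ q) (hc : IsCyclic (P : Subgroup G)) :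
    HasNormalPComplement p G := by
  refine H1.frobenius_criterion ?_
  intro Q hQ x hx hxo
  have hpp := hp.out
  have hQc : IsCyclic Q := by
    obtain ⟨R, hR⟩ := hQ.exists_le_sylow
    haveI : IsCyclic (R : Subgroup G) := isCyclic_of_surjective (P.equiv R).toMonoidHom (P.equiv R).surjective
    exact isCyclic_of_injective (Subgroup.inclusion hR) (Subgroup.inclusion_injective _)
  refine mem_centralizer_of_coprime Q hx ?_
  rw [IsCyclic.card_mulAut]
  obtain ⟨k, hk⟩ := IsPGroup.iff_card.mp hQ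
  rw [hk]
  rcases Nat.eq_zero_or_pos k with h0 | h0
  · rw [h0]; simp
  · rw [Nat.totient_prime_pow hpp h0]
    exact Nat.Coprime.mul_right (hxo.pow_right _) (coprime_pred_of_min hmin x)

end Cfsg.Agent.H3
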