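import Mathlib

set_option autoImplicit false
set_option linter.unusedSectionVars false
set_option linter.unusedSimpArgs false
set_option linter.unusedVariables false
set_option linter.style.haveILetI false

namespace Cfsg.Agent.H3

/-- an irreducible linear map of prime order `p` on an elementary abelian `q`-group -/
theorem card_of_irreducible {V : Type*} [AddCommGroup V] [Finite V] [Nontrivial V] {p q : ℕ} [hp : Fact p.Prime]
    (hq : q.Prime) (hpq : q ≠ p) (T : AddMonoid.End V) (hT : T ^ p = 1) (hT1 : T ≠ 1) (hV : ∀ v : V, q • v = 0)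
    (hirr : ∀ W : AddSubgroup V, (∀ w ∈ W, T w ∈ W) → W = ⊥ ∨ W = ⊤) :
    Nat.card V = q ^ orderOf (q : ZMod p) := by
  haveI : Fact q.Prime := ⟨hq⟩
  set e := orderOf (q : ZMod p) with he
  -- T is injective on V
  have hqp : (q : ZMod p) ≠ 0 := by
    intro h
    rw [ZMod.natCast_eq_zero_iff] at h
    exact hpq ((Nat.prime_dvd_prime_iff_eq hp.out hq).1 h).symm
  have hqe : p ∣ q ^ e - 1 := by
    have h1 : ((q ^ e : ℕ) : ZMod p) = ((1 : ℕ) : ZMod p) := by
      push_cast
      rw [he, pow_orderOf_eq_one]
    rw [ZMod.natCast_eq_natCast_iff] at h1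
    exact (Nat.modEq_iff_dvd' (Nat.one_le_pow _ _ hq.pos)).1 h1.symm
  -- the commutative ring generated by T
  let S : Subring (AddMonoid.End V) := Subring.closure {T}
  letI : CommRing ↥S := Subring.closureCommRingOfComm (by
    intro x hx y hy
    rw [Set.mem_singleton_iff] at hx hy
    rw [hx, hy])
  have hTS : T ∈ S := Subring.subset_closure rfl
  let t : ↥S := ⟨T, hTS⟩
  have hcommT : ∀ r : ↥S, (r : AddMonoid.End V) * T = T * r := by
    intro r
    have := mul_comm r t
    exact congrArg Subtype.val this
  -- nonzero elements are injective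
  have hinj : ∀ r : ↥S, r ≠ 0 → ∀ v : V, (r : AddMonoid.End V) v = 0 → v = 0 := by
    intro r hr v hv
    rcases hirr (AddMonoidHom.ker (r : AddMonoid.End V)) (by
      intro w hw
      have hw : (r : AddMonoid.End V) w = 0 := hw
      show (r : AddMonoid.End V) (T w) = 0
      have h1 := congrArg (fun f : AddMonoid.End V => f w) (hcommT r)
      have h2 : (r : AddMonoid.End V) (T w) = T ((r : AddMonoid.End V) w) := h1
      rw [h2, hw, map_zero]) with h | h
    · have h1 : v ∈ AddMonoidHom.ker (r : AddMonoid.End V) := hv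
      rw [h] at h1
      exact h1
    · exfalso
      apply hr
      apply Subtype.ext
      ext w
      have : w ∈ AddMonoidHom.ker (r : AddMonoid.End V) := by rw [h]; trivial
      exact this
  obtain ⟨v0, hv0⟩ := exists_ne (0 : V)
  -- evaluation
  let ev : ↥S → V := fun r => (r : AddMonoid.End V) v0
  have hevinj : Function.Injective ev := by
    intro r s h
    by_contra hne
    apply hv0
    apply hinj (r - s) (sub_ne_zero.2 hne)
    show (r : AddMonoid.End V) v0 - (s : AddMonoid.End V) v0 = 0
    exact sub_eq_zero.2 h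
  have hevsurj : Function.Surjective ev := by
    let W : AddSubgroup V :=
      { carrier := Set.range ev
        zero_mem' := ⟨0, rfl⟩
        add_mem' := by rintro _ _ ⟨r, rfl⟩ ⟨s, rfl⟩; exact ⟨r + s, rfl⟩
        neg_mem' := by rintro _ ⟨r, rfl⟩; exact ⟨-r, rfl⟩ }
    rcases hirr W (by rintro _ ⟨r, rfl⟩; exact ⟨t * r, rfl⟩) with h | h
    · exfalso
      apply hv0
      have : v0 ∈ W := ⟨1, rfl⟩
      rw [h] at this
      exact this
    · intro v
      have : v ∈ W := by rw [h]; trivial
      exact this
  have hcard : Nat.card V = Nat.card ↥S := (Nat.card_congr (Equiv.ofBijective ev ⟨hevinj, hevsurj⟩)).symm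
  haveI : Finite ↥S := Finite.of_injective ev hevinj
  haveI : Nontrivial ↥S := by
    obtain ⟨r, s, hrs⟩ := exists_pair_ne V
    obtain ⟨r', rfl⟩ := hevsurj r
    obtain ⟨s', rfl⟩ := hevsurj s
    exact ⟨r', s', fun h => hrs (h ▸ rfl)⟩
  haveI : NoZeroDivisors ↥S := by
    refine ⟨fun {a b} hab => ?_⟩
    by_contra hcon
    push_neg at hcon
    apply hcon.2
    apply Subtype.ext
    ext w
    apply hinj a hcon.1
    have := congrArg (fun f : ↥S => (f : AddMonoid.End V) w) hab
    exact this
  haveI : IsDomain ↥S := NoZeroDivisors.to_isDomain _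
  haveI hchar : CharP ↥S q := by
    rw [CharP.charP_iff_prime_eq_zero hq]
    apply Subtype.ext
    ext w
    have h1 := hV w
    have h2 : ((q : ↥S) : AddMonoid.End V) = q • (1 : AddMonoid.End V) := by
      rw [nsmul_eq_mul, mul_one]; push_cast; rfl
    rw [h2]
    exact h1
  -- all elements satisfy r^(q^e) = r
  have htp : t ^ p = 1 := Subtype.ext hT
  have hfix : ∀ r : ↥S, r ^ q ^ e = r := by
    have key : ∀ f ∈ S, ∀ h : f ∈ S, (⟨f, h⟩ : ↥S) ^ q ^ e = ⟨f, h⟩ := by
      intro f hf
      induction hf using Subring.closure_induction with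
      | mem x hx =>
        intro h
        rw [Set.mem_singleton_iff] at hx
        subst hx
        obtain ⟨m, hm⟩ := hqe
        have h1 : q ^ e = p * m + 1 := by
          have := Nat.one_le_pow e q hq.pos; omega
        show t ^ q ^ e = t
        rw [h1, pow_succ, pow_mul, htp, one_pow, one_mul]
      | zero => intro h; exact zero_pow (pow_pos hq.pos e).ne'
      | one => intro h; exact one_pow _
      | add x y hx hy ihx ihy =>
        intro h
        have h1 : (⟨x + y, h⟩ : ↥S) = ⟨x, hx⟩ + ⟨y, hy⟩ := rfl
        rw [h1, add_pow_char_pow, ihx, ihy]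
      | neg x hx ih =>
        intro h
        have h1 : (⟨-x, h⟩ : ↥S) = - ⟨x, hx⟩ := rfl
        have h2 : (- (⟨x, hx⟩ : ↥S)) ^ q ^ e + (⟨x, hx⟩ : ↥S) ^ q ^ e = 0 := by
          rw [← add_pow_char_pow, neg_add_cancel]; exact zero_pow (pow_pos hq.pos e).ne'
        rw [h1]
        rw [ih] at h2
        exact eq_neg_of_add_eq_zero_left h2
      | mul x y hx hy ihx ihy =>
        intro h
        have h1 : (⟨x * y, h⟩ : ↥S) = ⟨x, hx⟩ * ⟨y, hy⟩ := rfl
        rw [h1, mul_pow, ihx, ihy]
    exact fun r => key r r.2 r.2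
  have h1q : 1 < q ^ e := by
    apply Nat.one_lt_pow _ hq.one_lt
    rw [he]
    have : 0 < orderOf (q : ZMod p) := by
      have h1 : orderOf (Units.mk0 (q : ZMod p) hqp) = orderOf (q : ZMod p) := by
        rw [← orderOf_units]; rfl
      rw [← h1]; exact orderOf_pos _
    exact this.ne'
  have hle : Nat.card V ≤ q ^ e := by
    rw [hcard]
    classical
    haveI : Fintype ↥S := Fintype.ofFinite _
    rw [Nat.card_eq_fintype_card]
    let P : Polynomial ↥S := Polynomial.X ^ (q ^ e) - Polynomial.X
    have hdeg : P.natDegree = q ^ e := by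
      have h1 : (Polynomial.X : Polynomial ↥S).natDegree < (Polynomial.X ^ (q ^ e) : Polynomial ↥S).natDegree := by
        rw [Polynomial.natDegree_X_pow, Polynomial.natDegree_X]; exact h1q
      rw [Polynomial.natDegree_sub_eq_left_of_natDegree_lt h1, Polynomial.natDegree_X_pow]
    have hP0 : P ≠ 0 := by
      intro h
      rw [h, Polynomial.natDegree_zero] at hdeg
      omega
    rw [← hdeg, ← Finset.card_univ]
    apply Polynomial.card_le_degree_of_subset_roots
    intro r _
    rw [Polynomial.mem_roots hP0]
    simp [P, Polynomial.IsRoot, hfix r]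
  -- lower bound
  have hVq : ∃ d, Nat.card V = q ^ d := by
    have h1 : IsPGroup q (Multiplicative V) := by
      intro x
      refine ⟨1, ?_⟩
      rw [pow_one]
      exact hV (Multiplicative.toAdd x)
    obtain ⟨d, hd⟩ := h1.exists_card_eq
    exact ⟨d, by rw [← hd]; rfl⟩
  obtain ⟨d, hd⟩ := hVq
  have hmod : p ∣ q ^ d - 1 := by
    -- T acts on V with only the fixed point 0
    have hfx : ∀ v : V, T v = v → v = 0 := by
      intro v hv
      apply hinj (t - 1) _ v
      · show T v - v = 0
        rw [hv, sub_self]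
      · intro h
        apply hT1
        exact congrArg Subtype.val (sub_eq_zero.1 h)
    let σ : Function.End V := fun v => T v
    have hσ : σ ^ p ^ 1 = 1 := by
      have : ∀ n : ℕ, ∀ v, (σ ^ n) v = (T ^ n) v := by
        intro n
        induction n with
        | zero => intro v; rfl
        | succ n ih =>
          intro v
          rw [pow_succ, pow_succ]
          exact ih (T v)
      funext v
      rw [pow_one, this, hT]; rfl
    classical
    haveI : Fintype V := Fintype.ofFinite _
    have h1 := Equiv.Perm.card_fixedPoints_modEq (n := 1) (p := p) (f := σ) hσ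
    have h2 : Function.fixedPoints σ = {0} := by
      ext v
      rw [Function.mem_fixedPoints, Function.IsFixedPt, Set.mem_singleton_iff]
      constructor
      · intro h; exact hfx v h
      · rintro rfl; exact map_zero T
    have h3 : Fintype.card ↥(Function.fixedPoints σ) = 1 := by
      rw [Fintype.card_eq_one_iff]
      refine ⟨⟨0, by rw [h2]; rfl⟩, fun y => Subtype.ext ?_⟩
      exact hfx _ y.2
    rw [h3, ← Nat.card_eq_fintype_card, hd] at h1
    exact (Nat.modEq_iff_dvd' (Nat.one_le_pow _ _ hq.pos)).1 h1.symm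
  have hd0 : d ≠ 0 := by
    rintro rfl
    rw [pow_zero] at hd
    have := Finite.one_lt_card (α := V)
    omega
  have hed : e ∣ d := by
    rw [he, orderOf_dvd_iff_pow_eq_one]
    have h1 : ((q ^ d : ℕ) : ZMod p) = ((1 : ℕ) : ZMod p) := by
      rw [ZMod.natCast_eq_natCast_iff]
      exact ((Nat.modEq_iff_dvd' (Nat.one_le_pow _ _ hq.pos)).2 hmod).symm
    push_cast at h1
    exact h1
  apply le_antisymm hle
  rw [hd]
  exact Nat.pow_le_pow_right hq.pos (Nat.le_of_dvd (Nat.pos_of_ne_zero hd0) hed)

end Cfsg.Agent.H3
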