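import Cfsg.Agent.H3.Irr
import Cfsg.Agent.H1.Hall
import Cfsg.Prelude.Def_LocalStructure

set_option autoImplicit false
set_option linter.unusedSectionVars false
set_option linter.unusedSimpArgs false
set_option linter.unusedVariables false
set_option linter.style.haveILetI false
open Cfsg
open scoped commutatorElement
open Subgroup

namespace Cfsg.Agent.H3

theorem card_irr {G : Type*} [Group G] [Finite G] {p q : ℕ} [hp : Fact p.Prime] (hq : q.Prime) (hpq : q ≠ p)
    (A : Subgroup G) (hA : IsElementaryAbelian q A) (hA0 : A ≠ ⊥) (x : G) (hx : x ∈ normalizer (A : Set G))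
    (hxp : x ^ p ∈ centralizer (A : Set G)) (hx1 : x ∉ centralizer (A : Set G))
    (hirr : ∀ B : Subgroup G, B ≤ A → x ∈ normalizer (B : Set G) → B = ⊥ ∨ B = A) :
    Nat.card ↥A = q ^ orderOf (q : ZMod p) := by
  letI : CommGroup ↥A := { (inferInstance : Group ↥A) with mul_comm := fun a b => (hA.1.is_comm.comm a b) }
  have hconj : ∀ a ∈ A, x * a * x⁻¹ ∈ A := fun a ha => (mem_normalizer_iff.1 hx a).1 ha
  let f : ↥A →* ↥A :=
    { toFun := fun a => ⟨x * a * x⁻¹, hconj a a.2⟩
      map_one' := Subtype.ext (by simp)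
      map_mul' := fun a b => Subtype.ext (by simp [mul_assoc]) }
  let T : AddMonoid.End (Additive ↥A) := MonoidHom.toAdditive f
  have hTn : ∀ (n : ℕ) (v : ↥A), ((Additive.toMul ((T ^ n) (Additive.ofMul v)) : ↥A) : G) = x ^ n * v * (x ^ n)⁻¹ := by
    intro n
    induction n with
    | zero => intro v; simp
    | succ n ih =>
      intro v
      have h1 : (T ^ (n + 1)) (Additive.ofMul v) = (T ^ n) (Additive.ofMul (f v)) := by
        rw [pow_succ]; rfl
      rw [h1, ih]
      show x ^ n * (x * v * x⁻¹) * (x ^ n)⁻¹ = _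
      rw [pow_succ]; group
  haveI : Nontrivial (Additive ↥A) := by
    have := (Subgroup.nontrivial_iff_ne_bot A).2 hA0
    exact inferInstanceAs (Nontrivial ↥A)
  have hcard : Nat.card (Additive ↥A) = Nat.card ↥A := rfl
  rw [← hcard]
  apply card_of_irreducible hq hpq T
  · apply AddMonoidHom.ext
    intro v
    have h0 := hTn p (Additive.toMul v)
    have h1 := mem_centralizer_iff.1 hxp (Additive.toMul v : ↥A) (SetLike.coe_mem _)
    have h2 : x ^ p * ((Additive.toMul v : ↥A) : G) * (x ^ p)⁻¹ = ((Additive.toMul v : ↥A) : G) := by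
      rw [← h1, mul_assoc, mul_inv_cancel, mul_one]
    rw [h2] at h0
    exact Additive.toMul.injective (Subtype.ext h0)
  · intro h
    apply hx1
    rw [mem_centralizer_iff]
    intro a ha
    have h1 := hTn 1 ⟨a, ha⟩
    rw [pow_one, h, pow_one] at h1
    have h2 : a = x * a * x⁻¹ := h1
    calc a * x = (x * a * x⁻¹) * x := by rw [← h2]
      _ = x * a := by group
  · intro v
    apply Additive.toMul.injective
    apply Subtype.ext
    show (((Additive.toMul v : ↥A) ^ q : ↥A) : G) = 1
    rw [Subgroup.coe_pow]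
    exact hA.2 _ (SetLike.coe_mem _)
  · intro W hW
    let B : Subgroup G :=
      { carrier := {a | ∃ h : a ∈ A, Additive.ofMul (⟨a, h⟩ : ↥A) ∈ W}
        one_mem' := ⟨A.one_mem, W.zero_mem⟩
        mul_mem' := by
          rintro a b ⟨ha, ha'⟩ ⟨hb, hb'⟩
          exact ⟨A.mul_mem ha hb, W.add_mem ha' hb'⟩
        inv_mem' := by
          rintro a ⟨ha, ha'⟩
          exact ⟨A.inv_mem ha, W.neg_mem ha'⟩ }
    have hB : B ≤ A := fun a ha => ha.1
    have hBx : x ∈ normalizer (B : Set G) := by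
      apply Subgroup.mem_normalizer_fintype
      rintro a ⟨ha, ha'⟩
      exact ⟨hconj a ha, hW _ ha'⟩
    rcases hirr B hB hBx with h | h
    · left
      rw [eq_bot_iff]
      intro w hw
      have h1 : ((Additive.toMul w : ↥A) : G) ∈ B := ⟨SetLike.coe_mem _, hw⟩
      rw [h, mem_bot] at h1
      have h2 : (Additive.toMul w : ↥A) = 1 := Subtype.ext h1
      have h3 : w = 0 := Additive.toMul.injective h2
      rw [h3]; exact zero_mem _
    · right
      rw [eq_top_iff]
      intro w _
      have h1 : ((Additive.toMul w : ↥A) : G) ∈ B := by rw [h]; exact SetLike.coe_mem _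
      exact h1.2

variable {G : Type*} [Group G] [Finite G] {p : ℕ} [hp : Fact p.Prime]

theorem pclosed_of_normal (P : Sylow p G) (h : (P : Subgroup G).Normal) : IsPClosed p G := by
  intro Q
  haveI := Sylow.unique_of_normal P h
  rw [Subsingleton.elim Q P]; exact h

theorem pclosed_of_not_dvd (h : ¬ p ∣ Nat.card G) : IsPClosed p G := by
  intro Q
  have : (Q : Subgroup G) = ⊥ := by
    obtain ⟨k, hk⟩ := Q.isPGroup'.exists_card_eq
    rcases Nat.eq_zero_or_pos k with rfl | hk0
    · rw [pow_zero] at hk; exact Subgroup.card_eq_one.1 hk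
    · exfalso
      apply h
      have h1 : p ∣ Nat.card ↥(Q : Subgroup G) := by rw [hk]; exact dvd_pow_self p hk0.ne'
      exact h1.trans (Subgroup.card_subgroup_dvd_card _)
  rw [this]; infer_instance

theorem pclosed_of_pgroup (h : IsPGroup p G) : IsPClosed p G := by
  intro Q
  have : (Q : Subgroup G) = ⊤ := (Q.is_maximal' (h.to_subgroup ⊤) le_top).symm
  rw [this]; infer_instance

/-- the quotient by a normal `p`-subgroup reflects `p`-closure -/
theorem pclosed_of_quotient (N : Subgroup G) [N.Normal] (hN : IsPGroup p ↥N) (h : IsPClosed p (G ⧸ N)) : IsPClosed p G := by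
  intro P
  have hNP : N ≤ (P : Subgroup G) := by
    have h1 : IsPGroup p ↥((P : Subgroup G) ⊔ N) := P.isPGroup'.to_sup_of_normal_right hN
    have h2 := P.is_maximal' h1 le_sup_left
    rw [← h2]; exact le_sup_right
  have h1 := h (P.mapSurjective (QuotientGroup.mk'_surjective N))
  have h2 : ((P : Subgroup G).map (QuotientGroup.mk' N)).comap (QuotientGroup.mk' N) = (P : Subgroup G) := by
    rw [Subgroup.comap_map_eq, QuotientGroup.ker_mk', sup_eq_left.2 hNP]
  rw [← h2]
  have h3 : ((P : Subgroup G).map (QuotientGroup.mk' N)).Normal := h1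
  exact h3.comap _

theorem cent_of_pclosed {P R : Subgroup G} (hP : IsPGroup p ↥P) (hPR : P ≤ normalizer (R : Set G)) (hR : ¬ p ∣ Nat.card ↥R)
    (hc : IsPClosed p ↥(R ⊔ P : Subgroup G)) : R ≤ centralizer (P : Set G) := by
  have hcop : (Nat.card ↥R).Coprime (Nat.card ↥P) := by
    obtain ⟨k, hk⟩ := hP.exists_card_eq
    rw [hk]
    exact ((Nat.Prime.coprime_iff_not_dvd hp.out).2 hR).symm.pow_right k
  have hd : R ⊓ P = ⊥ := L0.inf_eq_bot_of_coprime' hcop
  have hcard := L0.card_sup_of_normalizes hPR hd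
  have hidx : (P.subgroupOf (R ⊔ P)).index = Nat.card ↥R := by
    have h1 := (P.subgroupOf (R ⊔ P)).index_mul_card
    rw [Nat.card_congr (Subgroup.subgroupOfEquivOfLe (le_sup_right : P ≤ R ⊔ P)).toEquiv, hcard] at h1
    exact Nat.eq_of_mul_eq_mul_right Nat.card_pos h1
  have hPs : IsPGroup p ↥(P.subgroupOf (R ⊔ P)) :=
    hP.of_equiv (Subgroup.subgroupOfEquivOfLe (le_sup_right : P ≤ R ⊔ P)).symm
  let S : Sylow p ↥(R ⊔ P : Subgroup G) := hPs.toSylow (by rw [hidx]; exact hR)
  have hS : (P.subgroupOf (R ⊔ P)).Normal := hc S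
  have hn : R ⊔ P ≤ normalizer (P : Set G) := (normal_subgroupOf_iff_le_normalizer le_sup_right).1 hS
  intro r hr
  exact L0.commute_of_mem_normalizer_of_disjoint hPR hd hr (hn (mem_sup_left hr))

/-- every proper normal subgroup of a minimal non-`p`-closed group is a `p'`-group -/
theorem normal_pprime (hnc : ¬ Cfsg.IsPClosed p G) (hsub : ∀ H : Subgroup G, H ≠ ⊤ → Cfsg.IsPClosed p ↥H)
    (hquo : ∀ (N : Subgroup G) [N.Normal], N ≠ ⊥ → Cfsg.IsPClosed p (G ⧸ N)) (N : Subgroup G) [N.Normal] (hN : N ≠ ⊤) :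
    ¬ p ∣ Nat.card ↥N := by
  intro hd
  have P : Sylow p ↥N := default
  have h1 : (P : Subgroup ↥N).Normal := hsub N hN P
  haveI h2 : ((P : Subgroup ↥N)).Characteristic := P.characteristic_of_normal h1
  haveI h3 : ((P : Subgroup ↥N).map N.subtype).Normal := inferInstance
  have h4 : (P : Subgroup ↥N).map N.subtype ≠ ⊥ := by
    rw [Ne, Subgroup.map_eq_bot_iff_of_injective _ N.subtype_injective]
    exact P.ne_bot_of_dvd_card hd
  exact hnc (pclosed_of_quotient _ (P.isPGroup'.map N.subtype) (hquo _ h4))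

/-- structure of the non-simple minimal non-`p`-closed groups -/
theorem minimal_structure (hnc : ¬ Cfsg.IsPClosed p G) (hsub : ∀ H : Subgroup G, H ≠ ⊤ → Cfsg.IsPClosed p ↥H)
    (hquo : ∀ (N : Subgroup G) [N.Normal], N ≠ ⊥ → Cfsg.IsPClosed p (G ⧸ N)) (hns : ¬ IsSimpleGroup G) :
    ∃ q : ℕ, q.Prime ∧ q ≠ p ∧ Nat.card G = p * q ^ orderOf (q : ZMod p) ∧
      ∃ A : Subgroup G, A.Normal ∧ Nat.card ↥A = q ^ orderOf (q : ZMod p) ∧ Cfsg.IsElementaryAbelian q A ∧
        ∀ B : Subgroup G, B.Normal → B ≤ A → B = ⊥ ∨ B = A := by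
  have hnt : Nontrivial G := by
    by_contra h
    rw [not_nontrivial_iff_subsingleton] at h
    apply hnc
    intro P
    have : (P : Subgroup G) = ⊥ := Subsingleton.elim _ _
    rw [this]; infer_instance
  -- a proper minimal normal subgroup
  obtain ⟨M, hMn, hM0, hM1⟩ : ∃ M : Subgroup G, M.Normal ∧ M ≠ ⊥ ∧ M ≠ ⊤ := by
    by_contra hcon
    push_neg at hcon
    exact hns ⟨fun H hH => or_iff_not_imp_left.2 fun h => hcon H hH h⟩
  obtain ⟨N, hNn, hNM, hN0, hmin⟩ := H1.exists_minimal_normal_le M hM0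
  have hN1 : N ≠ ⊤ := fun h => hM1 (top_le_iff.1 (h ▸ hNM))
  have hNp := normal_pprime hnc hsub hquo N hN1
  have P : Sylow p G := default
  have hPN : N ⊔ (P : Subgroup G) = ⊤ := by
    by_contra hne
    have h1 : ((P : Subgroup G).map (QuotientGroup.mk' N)).Normal := hquo N hN0 (P.mapSurjective (QuotientGroup.mk'_surjective N))
    have h2 : (N ⊔ (P : Subgroup G)).Normal := by
      have h3 := h1.comap (QuotientGroup.mk' N)
      rw [Subgroup.comap_map_eq, QuotientGroup.ker_mk', sup_comm] at h3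
      exact h3
    have h4 := normal_pprime hnc hsub hquo _ hne
    have h5 : ¬ p ∣ Nat.card ↥(P : Subgroup G) := fun h => h4 (h.trans (Subgroup.card_dvd_of_le le_sup_right))
    have h6 : ¬ p ∣ Nat.card G := fun h => h5 (P.dvd_card_of_dvd_card h)
    exact hnc (pclosed_of_not_dvd h6)
  have hcop : (Nat.card ↥(P : Subgroup G)).Coprime (Nat.card ↥N) := by
    obtain ⟨k, hk⟩ := P.isPGroup'.exists_card_eq
    rw [hk]
    exact ((Nat.Prime.coprime_iff_not_dvd hp.out).2 hNp).pow_left k
  have hPnN : (P : Subgroup G) ≤ normalizer (N : Set G) := by rw [normalizer_eq_top]; exact le_top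
  have hnP : ¬ (P : Subgroup G).Normal := fun h => hnc (pclosed_of_normal P h)
  have hncent : ¬ N ≤ centralizer ((P : Subgroup G) : Set G) := by
    intro h
    apply hnP
    have h1 : (⊤ : Subgroup G) ≤ normalizer ((P : Subgroup G) : Set G) := by
      rw [← hPN]
      exact sup_le (h.trans (centralizer_le_normalizer _)) le_normalizer
    exact normalizer_eq_top_iff.1 (top_le_iff.1 h1)
  -- an invariant Sylow subgroup of N
  obtain ⟨q, hq, R, hRq, hRN, hPR, htop⟩ : ∃ q : ℕ, q.Prime ∧ ∃ R : Subgroup G, IsPGroup q ↥R ∧ R ≤ N ∧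
      (P : Subgroup G) ≤ normalizer (R : Set G) ∧ R ⊔ (P : Subgroup G) = ⊤ := by
    by_contra hcon
    push_neg at hcon
    apply hncent
    -- |N| divides |N ∩ C(P)|
    have hdvd : Nat.card ↥N ∣ Nat.card ↥(N ⊓ centralizer ((P : Subgroup G) : Set G)) := by
      rw [← Nat.factorization_le_iff_dvd Nat.card_pos.ne' Nat.card_pos.ne']
      intro r
      by_cases hr : r.Prime
      · haveI : Fact r.Prime := ⟨hr⟩
        obtain ⟨R, hR, hPR⟩ := L0.exists_invariant_sylow (p := r) hPnN hcop (Or.inl (haveI := P.isPGroup'.isNilpotent; inferInstance))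
        have h1 := hcon r hr R hR.isPGroup hR.le hPR
        have h2 : ¬ p ∣ Nat.card ↥R := fun h => hNp (h.trans (Subgroup.card_dvd_of_le hR.le))
        have h3 := cent_of_pclosed P.isPGroup' hPR h2 (hsub _ h1)
        have h4 : R ≤ N ⊓ centralizer ((P : Subgroup G) : Set G) := le_inf hR.le h3
        have h5 := Subgroup.card_dvd_of_le h4
        rw [(L0.isSylowIn_iff_card.1 hR).2] at h5
        exact (hr.pow_dvd_iff_le_factorization Nat.card_pos.ne').1 h5
      · rw [Nat.factorization_eq_zero_of_not_prime _ hr]; exact Nat.zero_le _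
    have h1 : N ⊓ centralizer ((P : Subgroup G) : Set G) = N :=
      Subgroup.eq_of_le_of_card_ge inf_le_left (Nat.le_of_dvd Nat.card_pos hdvd)
    exact h1 ▸ inf_le_right
  haveI : Fact q.Prime := ⟨hq⟩
  -- R = N
  have hRN' : R = N := by
    apply Subgroup.eq_of_le_of_card_ge hRN
    have hd1 : N ⊓ (P : Subgroup G) = ⊥ := L0.inf_eq_bot_of_coprime' hcop.symm
    have hd2 : R ⊓ (P : Subgroup G) = ⊥ := le_bot_iff.1 ((inf_le_inf_right _ hRN).trans hd1.le)
    have h1 := L0.card_sup_of_normalizes hPnN hd1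
    have h2 := L0.card_sup_of_normalizes hPR hd2
    rw [hPN] at h1
    rw [htop] at h2
    exact (Nat.eq_of_mul_eq_mul_right Nat.card_pos (h1.symm.trans h2)).le
  subst hRN'
  have hRnil := hRq.isNilpotent
  haveI hNsol : Group.IsSolvable ↥R := inferInstance
  have hcommR := H1.isMulCommutative_of_minimal_of_solvable R hN0 hmin
  obtain ⟨q', hq', hexp⟩ := H1.exists_prime_pow_eq_one_of_minimal R hN0 hmin
  have hqq : q' = q := by
    obtain ⟨⟨x, hx⟩, hx0⟩ := (Subgroup.ne_bot_iff_exists_ne_one).1 hN0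
    have hx1 : x ≠ 1 := fun h => hx0 (Subtype.ext h)
    haveI : Fact q'.Prime := ⟨hq'⟩
    have h1 : orderOf x = q' := orderOf_eq_prime (hexp x hx) hx1
    have h2 : q ∣ orderOf x := by
      obtain ⟨k, hk⟩ := (IsPGroup.iff_orderOf.1 hRq) ⟨x, hx⟩
      rw [Subgroup.orderOf_mk] at hk
      rw [hk]
      refine dvd_pow_self q ?_
      rintro rfl
      rw [pow_zero, orderOf_eq_one_iff] at hk
      exact hx1 hk
    rw [h1] at h2
    exact ((Nat.prime_dvd_prime_iff_eq hq hq').1 h2).symm
  subst hqq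
  have hEA : IsElementaryAbelian q' R := ⟨hcommR, hexp⟩
  have hqp : q' ≠ p := by
    rintro rfl
    apply hNp
    obtain ⟨k, hk⟩ := hRq.exists_card_eq
    rw [hk]
    refine dvd_pow_self q' ?_
    rintro rfl
    rw [pow_zero] at hk
    exact hN0 (Subgroup.card_eq_one.1 hk)
  -- an element x of P not centralizing R
  obtain ⟨x, hxP, hxR⟩ : ∃ x ∈ (P : Subgroup G), x ∉ centralizer (R : Set G) := by
    by_contra hcon
    push_neg at hcon
    apply hncent
    intro r hr
    rw [mem_centralizer_iff]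
    intro y hy
    exact (mem_centralizer_iff.1 (hcon y hy) r hr).symm
  have hcR : ∀ Q : Subgroup G, Q ≤ (P : Subgroup G) → Q ≠ (P : Subgroup G) → R ≤ centralizer (Q : Set G) := by
    intro Q hQP hQne
    have hQR : Q ≤ normalizer (R : Set G) := hQP.trans hPnN
    apply cent_of_pclosed (P.isPGroup'.to_le hQP) hQR hNp
    apply hsub
    intro htop2
    apply hQne
    apply Subgroup.eq_of_le_of_card_ge hQP
    have hd1 : R ⊓ (P : Subgroup G) = ⊥ := L0.inf_eq_bot_of_coprime' hcop.symm
    have hd2 : R ⊓ Q = ⊥ := le_bot_iff.1 ((inf_le_inf_left _ hQP).trans hd1.le)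
    have h1 := L0.card_sup_of_normalizes hPnN hd1
    have h2 := L0.card_sup_of_normalizes hQR hd2
    rw [hPN] at h1
    rw [htop2] at h2
    exact (Nat.eq_of_mul_eq_mul_left Nat.card_pos (h1.symm.trans h2)).le
  have hPx : (P : Subgroup G) = zpowers x := by
    by_contra hne
    have h1 := hcR (zpowers x) (by rw [zpowers_le]; exact hxP) (Ne.symm hne)
    apply hxR
    rw [mem_centralizer_iff]
    intro r hr
    exact (mem_centralizer_iff.1 (h1 hr) x (mem_zpowers x)).symm
  have hx1 : x ≠ 1 := by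
    rintro rfl
    exact hxR (one_mem _)
  -- x ^ p = 1
  have hxp : x ^ p = 1 := by
    by_contra hxp
    have hlt : zpowers (x ^ p) ≠ (P : Subgroup G) := by
      rw [hPx]
      intro h
      have h1 : orderOf (x ^ p) = orderOf x := by rw [← Nat.card_zpowers, ← Nat.card_zpowers, h]
      obtain ⟨k, hk⟩ := (IsPGroup.iff_orderOf.1 P.isPGroup') ⟨x, hxP⟩
      rw [Subgroup.orderOf_mk] at hk
      have hk0 : k ≠ 0 := by
        rintro rfl
        rw [pow_zero, orderOf_eq_one_iff] at hk
        exact hx1 hk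
      rw [orderOf_pow, hk, Nat.gcd_eq_right (dvd_pow_self p hk0)] at h1
      have h2 := Nat.div_lt_self (pow_pos hp.out.pos k) hp.out.one_lt
      omega
    have h1 := hcR (zpowers (x ^ p)) (by rw [zpowers_le]; exact pow_mem hxP p) hlt
    have h2 : x ^ p ∈ center G := by
      have h3 : (⊤ : Subgroup G) ≤ centralizer ({x ^ p} : Set G) := by
        rw [← hPN, sup_le_iff, hPx, zpowers_le]
        constructor
        · intro r hr
          rw [mem_centralizer_singleton_iff]
          exact (mem_centralizer_iff.1 (h1 hr) _ (mem_zpowers _)).symm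
        · rw [mem_centralizer_singleton_iff, ← pow_succ, ← pow_succ']
      rw [mem_center_iff]
      intro g
      exact mem_centralizer_singleton_iff.1 (h3 (mem_top g))
    haveI h3 : (zpowers (x ^ p)).Normal := by
      refine ⟨fun y hy g => ?_⟩
      have hyc : y ∈ center G := (zpowers_le.2 h2) hy
      have : g * y * g⁻¹ = y := by rw [mem_center_iff.1 hyc g]; group
      rw [this]; exact hy
    have h4 : zpowers (x ^ p) ≠ ⊤ := by
      intro h
      apply hlt
      apply le_antisymm
      · rw [zpowers_le]; exact pow_mem hxP p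
      · rw [h]; exact le_top
    have h5 := normal_pprime hnc hsub hquo (zpowers (x ^ p)) h4
    apply h5
    obtain ⟨k, hk⟩ := (P.isPGroup'.to_le (show zpowers (x ^ p) ≤ (P : Subgroup G) by rw [zpowers_le]; exact pow_mem hxP p)).exists_card_eq
    rw [hk]
    refine dvd_pow_self p ?_
    rintro rfl
    rw [pow_zero, Subgroup.card_eq_one, zpowers_eq_bot] at hk
    exact hxp hk
  have hPcard : Nat.card ↥(P : Subgroup G) = p := by
    rw [hPx, Nat.card_zpowers]
    exact orderOf_eq_prime hxp hx1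
  have hcardA : Nat.card ↥R = q' ^ orderOf (q' : ZMod p) := by
    apply card_irr hq hqp R hEA hN0 x (hPnN hxP) (by rw [hxp]; exact one_mem _) hxR
    intro B hBR hxB
    apply hmin B _ hBR
    have h1 : (⊤ : Subgroup G) ≤ normalizer (B : Set G) := by
      rw [← hPN, sup_le_iff, hPx, zpowers_le]
      refine ⟨fun r hr => ?_, hxB⟩
      apply centralizer_le_normalizer
      rw [mem_centralizer_iff]
      intro b hb
      exact congrArg Subtype.val (mul_comm' (⟨b, hBR hb⟩ : ↥R) ⟨r, hr⟩)
    exact normalizer_eq_top_iff.1 (top_le_iff.1 h1)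
  refine ⟨q', hq, hqp, ?_, R, hNn, hcardA, hEA, hmin⟩
  have hd1 : R ⊓ (P : Subgroup G) = ⊥ := L0.inf_eq_bot_of_coprime' hcop.symm
  have h1 := L0.card_sup_of_normalizes hPnN hd1
  rw [hPN, Subgroup.card_top, hcardA, hPcard] at h1
  rw [h1, mul_comm]

end Cfsg.Agent.H3
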