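import Mathlib
import Cfsg.Agent.H3.HSub
import Cfsg.Agent.H1.SSolv
import Cfsg.Agent.H1.Hall
import Cfsg.Agent.H3.Kegel
set_option autoImplicit false
set_option linter.unusedVariables false
set_option linter.style.haveILetI false
/-! Supersolvability criteria. -/
open Subgroup
open scoped commutatorElement

namespace Cfsg.Agent.H3

open H1 (SChain)

universe u

theorem exists_eigen {p : ℕ} [hp : Fact p.Prime] {V : Type*} [AddCommGroup V] [Module (ZMod p) V] [Finite V] [Nontrivial V]
    (f : Module.End (ZMod p) V) (hf : f ^ (p - 1) = 1) : ∃ (c : ZMod p) (v : V), v ≠ 0 ∧ f v = c • v := by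
  have hfd : FiniteDimensional (ZMod p) V := Module.Finite.of_finite
  have h1 : Polynomial.aeval f (Polynomial.X ^ p - Polynomial.X : Polynomial (ZMod p)) = 0 := by
    rw [map_sub, map_pow, Polynomial.aeval_X]
    have : f ^ p = f ^ (p - 1) * f := by rw [← pow_succ, Nat.sub_add_cancel hp.out.one_le]
    rw [this, hf, one_mul, sub_self]
  have h2 : minpoly (ZMod p) f ∣ (Polynomial.X ^ p - Polynomial.X : Polynomial (ZMod p)) := minpoly.dvd _ _ h1
  have hne : (Polynomial.X ^ p - Polynomial.X : Polynomial (ZMod p)) ≠ 0 := FiniteField.X_pow_card_sub_X_ne_zero _ hp.out.one_lt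
  have h3 : (Polynomial.X ^ p - Polynomial.X : Polynomial (ZMod p)).Splits := by
    have := FiniteField.splits_X_pow_card_sub_X (K := ZMod p) p
    simpa using this
  have h4 := h3.of_dvd hne h2
  have h5 : (minpoly (ZMod p) f).degree ≠ 0 := (minpoly.degree_pos (Algebra.IsIntegral.isIntegral f)).ne'
  obtain ⟨c, hc⟩ := h4.exists_eval_eq_zero h5
  obtain ⟨v, hv⟩ := (Module.End.hasEigenvalue_of_isRoot hc).exists_hasEigenvector
  exact ⟨c, v, hv.2, Module.End.mem_eigenspace_iff.mp hv.1⟩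

theorem exists_eigen_comm {p : ℕ} [hp : Fact p.Prime] {A : Type*} [CommGroup A] [Finite A] [hnt : Nontrivial A]
    (hexp : ∀ a : A, a ^ p = 1) (φ : MulAut A) (hφ : φ ^ (p - 1) = 1) : ∃ v : A, v ≠ 1 ∧ ∃ k : ℕ, φ v = v ^ k := by
  letI : Module (ZMod p) (Additive A) := AddCommGroup.zmodModule (n := p) (fun a => hexp _)
  haveI : Nontrivial (Additive A) := hnt
  haveI : Finite (Additive A) := inferInstanceAs (Finite A)
  let f : Additive A →ₗ[ZMod p] Additive A := (MonoidHom.toAdditive φ.toMonoidHom).toZModLinearMap p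
  have hfa : ∀ a : A, f (Additive.ofMul a) = Additive.ofMul (φ a) := fun a => rfl
  have hpow : ∀ (n : ℕ) (a : A), ((f : Module.End (ZMod p) (Additive A)) ^ n) (Additive.ofMul a) = Additive.ofMul ((φ ^ n) a) := by
    intro n
    induction n with
    | zero => intro a; rfl
    | succ n ih =>
      intro a
      rw [pow_succ', pow_succ', Module.End.mul_apply, ih]
      rfl
  have hf : (f : Module.End (ZMod p) (Additive A)) ^ (p - 1) = 1 := by
    apply LinearMap.ext
    intro a
    have h1 := hpow (p - 1) (Additive.toMul a)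
    rw [hφ] at h1
    exact h1
  obtain ⟨c, v, hv, he⟩ := exists_eigen f hf
  refine ⟨Additive.toMul v, hv, c.val, ?_⟩
  have h2 : f v = c.val • v := by
    rw [he]
    conv_lhs => rw [← ZMod.natCast_zmod_val c]
    rw [Nat.cast_smul_eq_nsmul]
  exact h2

/-- multiplicative version -/
theorem exists_eigen_mul {p : ℕ} [hp : Fact p.Prime] {G : Type*} [Group G] [Finite G] (N : Subgroup G) (hNne : N ≠ ⊥)
    (hab : ∀ a ∈ N, ∀ b ∈ N, a * b = b * a) (hexp : ∀ a ∈ N, a ^ p = 1) (x : G) (hx : x ∈ normalizer (N : Set G))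
    (hxp : x ^ (p - 1) ∈ centralizer (N : Set G)) : ∃ v ∈ N, v ≠ 1 ∧ ∃ k : ℕ, x * v * x⁻¹ = v ^ k := by
  letI : CommGroup N := commGroupOf N hab
  haveI : Nontrivial N := (Subgroup.nontrivial_iff_ne_bot N).mpr hNne
  let φ : MulAut N := N.normalizerMonoidHom ⟨x, hx⟩
  have hφ : ∀ a : N, ((φ a : N) : G) = x * a * x⁻¹ := fun a => rfl
  have h1 : φ ^ (p - 1) = 1 := by
    apply MulEquiv.ext
    intro a
    apply Subtype.ext
    have h3 : φ ^ (p - 1) = N.normalizerMonoidHom (⟨x, hx⟩ ^ (p - 1)) := (map_pow _ _ _).symm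
    rw [h3]
    show x ^ (p - 1) * (a : G) * (x ^ (p - 1))⁻¹ = a
    have h4 := Subgroup.mem_centralizer_iff.mp hxp _ a.2
    rw [← h4]; group
  obtain ⟨v, hv, k, hk⟩ := exists_eigen_comm (fun a => Subtype.ext (hexp a a.2)) φ h1
  exact ⟨v, v.2, fun h => hv (Subtype.ext h), k, congrArg Subtype.val hk⟩

/-- `C0 p G`: generated by commutators and `(p-1)`-th powers -/
def C0 (p : ℕ) (G : Type*) [Group G] : Subgroup G :=
  commutator G ⊔ closure {y : G | ∃ x : G, y = x ^ (p - 1)}

instance C0_normal (p : ℕ) (G : Type*) [Group G] : (C0 p G).Normal := by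
  have : commutator G ≤ C0 p G := le_sup_left
  refine ⟨fun n hn g => ?_⟩
  have h1 : g * n * g⁻¹ * n⁻¹ ∈ C0 p G := this (Subgroup.commutator_mem_commutator (mem_top g) (mem_top n))
  have h2 := (C0 p G).mul_mem h1 hn
  have e : g * n * g⁻¹ * n⁻¹ * n = g * n * g⁻¹ := by group
  rwa [e] at h2

theorem pow_mem_C0 (p : ℕ) {G : Type*} [Group G] (x : G) : x ^ (p - 1) ∈ C0 p G :=
  (le_sup_right : _ ≤ C0 p G) (subset_closure ⟨x, rfl⟩)

theorem comm_mem_C0 (p : ℕ) {G : Type*} [Group G] (x y : G) : x * y * x⁻¹ * y⁻¹ ∈ C0 p G :=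
  (le_sup_left : _ ≤ C0 p G) (Subgroup.commutator_mem_commutator (mem_top x) (mem_top y))

theorem C0_map_le (p : ℕ) {G H : Type*} [Group G] [Group H] (f : G →* H) : (C0 p G).map f ≤ C0 p H := by
  rw [C0, Subgroup.map_sup, MonoidHom.map_closure]
  refine sup_le ?_ ?_
  · rw [commutator_def, Subgroup.map_commutator]
    exact (Subgroup.commutator_mono le_top le_top).trans le_sup_left
  · rw [closure_le]
    rintro _ ⟨_, ⟨x, rfl⟩, rfl⟩
    rw [map_pow]
    exact pow_mem_C0 p _

theorem C0_map (p : ℕ) {G H : Type*} [Group G] [Group H] (f : G →* H) (hf : Function.Surjective f) : (C0 p G).map f = C0 p H := by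
  refine le_antisymm (C0_map_le p f) ?_
  rw [C0, C0, Subgroup.map_sup, MonoidHom.map_closure]
  refine sup_le_sup ?_ ?_
  · rw [commutator_def, commutator_def, Subgroup.map_commutator, ← MonoidHom.range_eq_map, MonoidHom.range_eq_top.mpr hf]
  · rw [closure_le]
    rintro _ ⟨x, rfl⟩
    obtain ⟨y, rfl⟩ := hf x
    exact subset_closure ⟨y ^ (p - 1), ⟨y, rfl⟩, map_pow _ _ _⟩

theorem C0_exists_pow {p : ℕ} {G A : Type*} [Group G] [CommGroup A] (f : G →* A) {x : G} (hx : x ∈ C0 p G) :
    ∃ a : A, f x = a ^ (p - 1) := by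
  have hx' : f x ∈ (C0 p G).map f := ⟨x, hx, rfl⟩
  have h1 := C0_map_le p f hx'
  have h2 : C0 p A ≤ (powMonoidHom (p - 1) : A →* A).range := by
    refine sup_le ?_ ?_
    · rw [commutator_def, Subgroup.commutator_le]
      intro a _ b _
      have : ⁅a, b⁆ = 1 := commutatorElement_eq_one_iff_mul_comm.mpr (mul_comm a b)
      rw [this]; exact Subgroup.one_mem _
    · rw [closure_le]
      rintro _ ⟨a, rfl⟩
      exact ⟨a, rfl⟩
  obtain ⟨a, ha⟩ := h2 h1
  exact ⟨a, ha.symm⟩

/-- a `p'`-element of `C0` centralizes every cyclic normal `p`-subgroup -/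
theorem C0_centralizes_cyclic {p : ℕ} [hp : Fact p.Prime] {G : Type*} [Group G] [Finite G] {K : Subgroup G} [K.Normal]
    (hKp : IsPGroup p K) (hK : IsCyclic K) {x : G} (hx : x ∈ C0 p G) (hxo : (orderOf x).Coprime p) :
    x ∈ centralizer (K : Set G) := by
  let e := IsCyclic.mulAutMulEquiv K
  let f : G →* (ZMod (Nat.card K))ˣ := e.toMonoidHom.comp (MulAut.conjNormal (H := K))
  obtain ⟨a, ha⟩ := C0_exists_pow f hx
  obtain ⟨k, hk⟩ := IsPGroup.iff_card.mp hKp
  have hcard : Nat.card (ZMod (Nat.card K))ˣ = Nat.totient (Nat.card K) := by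
    haveI : NeZero (Nat.card K) := ⟨Nat.card_pos.ne'⟩
    rw [Nat.card_eq_fintype_card, ZMod.card_units_eq_totient]
  have h1 : f x = 1 := by
    rw [← orderOf_eq_one_iff]
    have h2 : orderOf (f x) ∣ orderOf x := orderOf_map_dvd f x
    have h3 : orderOf (f x) ∣ p ^ k := by
      apply orderOf_dvd_of_pow_eq_one
      rw [ha, ← pow_mul]
      have h4 : Nat.card (ZMod (Nat.card K))ˣ ∣ (p - 1) * p ^ k := by
        rw [hcard, hk]
        rcases Nat.eq_zero_or_pos k with h0 | h0
        · rw [h0]; simp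
        · rw [Nat.totient_prime_pow hp.out h0, mul_comm]
          exact Nat.mul_dvd_mul_left _ (Nat.pow_dvd_pow p (Nat.sub_le k 1))
      obtain ⟨c, hc⟩ := h4
      rw [hc, pow_mul, pow_card_eq_one', one_pow]
    exact Nat.eq_one_of_dvd_coprimes (hxo.pow_right k) h2 h3
  have h5 : (MulAut.conjNormal (H := K)) x = 1 := e.injective (by rw [map_one]; exact h1)
  rw [Subgroup.mem_centralizer_iff]
  intro y hy
  have h6 : ((MulAut.conjNormal (H := K)) x ⟨y, hy⟩ : K) = ⟨y, hy⟩ := by rw [h5]; rfl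
  have h7 : x * y * x⁻¹ = y := congrArg Subtype.val h6
  calc y * x = x * y * x⁻¹ * x := by rw [h7]
    _ = x * y := by group

theorem exists_fixed_of_pow {G : Type*} [Group G] [Finite G] (M : Subgroup G) [hM : M.Normal] (p : ℕ) [hp : Fact p.Prime]
    (S : Subgroup G) (hS : ∀ s ∈ S, ∃ k : ℕ, s ^ p ^ k ∈ centralizer (M : Set G)) (hd : p ∣ Nat.card M) :
    ∃ x ∈ M, x ≠ 1 ∧ S ≤ Subgroup.centralizer ({x} : Set G) := by
  let R : Subgroup (MulAut M) := S.map (MulAut.conjNormal (H := M))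
  have hR : IsPGroup p R := by
    rintro ⟨_, s, hs, rfl⟩
    obtain ⟨k, hk⟩ := hS s hs
    refine ⟨k, Subtype.ext ?_⟩
    show (MulAut.conjNormal (H := M) s) ^ p ^ k = 1
    rw [← map_pow]
    apply MulEquiv.ext
    intro m
    apply Subtype.ext
    rw [MulAut.conjNormal_apply]
    show s ^ p ^ k * (m : G) * (s ^ p ^ k)⁻¹ = m
    have h4 := Subgroup.mem_centralizer_iff.mp hk _ m.2
    rw [← h4]; group
  have h1 : (1 : M) ∈ MulAction.fixedPoints R M := by
    rintro ⟨r, hr⟩
    exact map_one r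
  obtain ⟨b, hb, hb1⟩ := hR.exists_fixed_point_of_prime_dvd_card_of_fixed_point M hd h1
  refine ⟨b, b.2, fun h => hb1 (Subtype.ext h.symm), ?_⟩
  intro g hg
  rw [Subgroup.mem_centralizer_singleton_iff]
  have h2 : (MulAut.conjNormal (H := M) g) b = b := hb ⟨_, g, hg, rfl⟩
  have h3 := congrArg Subtype.val h2
  rw [MulAut.conjNormal_apply] at h3
  calc g * (b : G) = g * b * g⁻¹ * g := by group
    _ = b * g := by rw [h3]

theorem pow_split {G : Type*} [Group G] [Finite G] (p : ℕ) [hp : Fact p.Prime] (x : G) :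
    ∃ k : ℕ, (orderOf (x ^ p ^ k)).Coprime p := by
  obtain ⟨k, m, hm, he⟩ := Nat.exists_eq_pow_mul_and_not_dvd (orderOf_pos x).ne' p hp.out.ne_one
  refine ⟨k, ?_⟩
  rw [orderOf_pow, he, Nat.gcd_eq_right (Dvd.intro _ rfl), Nat.mul_div_cancel_left _ (pow_pos hp.out.pos k)]
  exact ((Nat.Prime.coprime_iff_not_dvd hp.out).mpr hm).symm

theorem exists_prime_normal_of_star {p : ℕ} [hp : Fact p.Prime] {G : Type*} [Group G] [Finite G] (P : Subgroup G) [hPn : P.Normal]
    (hP : IsPGroup p P) (hne : P ≠ ⊥)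
    (hstar : ∀ x ∈ C0 p G, (orderOf x).Coprime p → x ∈ centralizer (P : Set G)) :
    ∃ N : Subgroup G, N.Normal ∧ N ≤ P ∧ Nat.card N = p := by
  obtain ⟨N, hNn, hNP, hNb, hmin⟩ := H1.exists_minimal_normal_le P hne
  have hNp : IsPGroup p N := hP.to_le hNP
  have hdvd : ∀ M : Subgroup G, M ≤ P → M ≠ ⊥ → p ∣ Nat.card M := by
    intro M hM hMb
    obtain ⟨k, hk⟩ := IsPGroup.iff_card.mp (hP.to_le hM)
    rcases Nat.eq_zero_or_pos k with h0 | h0
    · rw [h0, pow_zero] at hk; exact absurd (Subgroup.card_eq_one.mp hk) hMb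
    · rw [hk]; exact dvd_pow_self p h0.ne'
  have hfix : ∀ S : Subgroup G, S.Normal → (∀ s ∈ S, ∃ k : ℕ, s ^ p ^ k ∈ centralizer (N : Set G)) → S ≤ centralizer (N : Set G) := by
    intro S hSn hS
    obtain ⟨x, hx, hx1, hSx⟩ := exists_fixed_of_pow N p S hS (hdvd N hNP hNb)
    have h1 : N ⊓ centralizer (S : Set G) = N := by
      rcases hmin (N ⊓ centralizer (S : Set G)) inferInstance inf_le_left with h | h
      · exfalso
        apply hx1
        have hxc : x ∈ centralizer (S : Set G) := by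
          rw [Subgroup.mem_centralizer_iff]
          intro s hs
          exact Subgroup.mem_centralizer_singleton_iff.mp (hSx hs)
        have : x ∈ N ⊓ centralizer (S : Set G) := ⟨hx, hxc⟩
        rw [h] at this
        exact this
      · exact h
    rw [Subgroup.le_centralizer_iff]
    exact inf_eq_left.mp h1
  have hpk : ∀ x : G, (∀ k, (orderOf (x ^ p ^ k)).Coprime p → x ^ p ^ k ∈ centralizer (N : Set G)) → ∃ k : ℕ, x ^ p ^ k ∈ centralizer (N : Set G) := by
    intro x h
    obtain ⟨k, hk⟩ := pow_split p x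
    exact ⟨k, h k hk⟩
  -- N is abelian
  have hNab : N ≤ centralizer (N : Set G) := by
    refine hfix N hNn fun s hs => ?_
    obtain ⟨k, hk⟩ := hNp ⟨s, hs⟩
    have h1 : s ^ p ^ k = 1 := congrArg Subtype.val hk
    exact ⟨k, by rw [h1]; exact Subgroup.one_mem _⟩
  have hab : ∀ a ∈ N, ∀ b ∈ N, a * b = b * a := fun a ha b hb => (Subgroup.mem_centralizer_iff.mp (hNab ha) b hb).symm
  haveI : IsMulCommutative N := ⟨⟨fun a b => Subtype.ext (hab a a.2 b b.2)⟩⟩
  obtain ⟨q, hq, hexp⟩ := H1.exists_prime_pow_eq_one_of_minimal N hNb hmin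
  have hqp : q = p := by
    obtain ⟨a, ha, ha1⟩ : ∃ a : N, (a : G) ∈ N ∧ (a : G) ≠ 1 :=
      (Subgroup.ne_bot_iff_exists_ne_one.mp hNb).imp fun a h => ⟨a.2, fun h1 => h (Subtype.ext h1)⟩
    haveI := Fact.mk hq
    have h1 : orderOf (a : G) = q := orderOf_eq_prime (hexp a ha) ha1
    obtain ⟨k, hk⟩ := hNp a
    have h2 : (a : G) ^ p ^ k = 1 := congrArg Subtype.val hk
    have h3 := orderOf_dvd_of_pow_eq_one h2
    rw [h1] at h3
    exact (Nat.prime_dvd_prime_iff_eq hq hp.out).mp (hq.dvd_of_dvd_pow h3)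
  rw [hqp] at hexp
  have hC0 : C0 p G ≤ centralizer (N : Set G) := by
    refine hfix (C0 p G) inferInstance fun s hs => hpk s fun k hk => ?_
    exact Subgroup.centralizer_le hNP (hstar _ (Subgroup.pow_mem _ hs _) hk)
  -- each x acts as a power map
  have hpow : ∀ x : G, ∃ k : ℕ, ∀ v ∈ N, x * v * x⁻¹ = v ^ k := by
    intro x
    obtain ⟨v, hv, hv1, k, hk⟩ := exists_eigen_mul (p := p) N hNb hab hexp x (by rw [Subgroup.normalizer_eq_top]; trivial)
      (hC0 (pow_mem_C0 p x))
    refine ⟨k, ?_⟩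
    let W : Subgroup G :=
      { carrier := {v | v ∈ N ∧ x * v * x⁻¹ = v ^ k}
        one_mem' := ⟨N.one_mem, by simp⟩
        mul_mem' := by
          rintro a b ⟨ha, ha2⟩ ⟨hb, hb2⟩
          refine ⟨N.mul_mem ha hb, ?_⟩
          have h1 : Commute a b := hab a ha b hb
          rw [h1.mul_pow, ← ha2, ← hb2]; group
        inv_mem' := by
          rintro a ⟨ha, ha2⟩
          refine ⟨N.inv_mem ha, ?_⟩
          rw [inv_pow, ← ha2]; group }
    have hWN : W ≤ N := fun v hv => hv.1
    have hWn : W.Normal := by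
      refine ⟨fun w hw g => ?_⟩
      refine ⟨hNn.conj_mem w hw.1 g, ?_⟩
      have h1 := hC0 (comm_mem_C0 p g⁻¹ x⁻¹)
      have h2 := Subgroup.mem_centralizer_iff.mp h1 w hw.1
      rw [conj_pow, ← hw.2]
      have hc : g⁻¹ * x⁻¹ * g⁻¹⁻¹ * x⁻¹⁻¹ * w * (g⁻¹ * x⁻¹ * g⁻¹⁻¹ * x⁻¹⁻¹)⁻¹ = w := by
        rw [← h2]; group
      calc x * (g * w * g⁻¹) * x⁻¹ = x * g * w * (x * g)⁻¹ := by group
        _ = x * g * (g⁻¹ * x⁻¹ * g⁻¹⁻¹ * x⁻¹⁻¹ * w * (g⁻¹ * x⁻¹ * g⁻¹⁻¹ * x⁻¹⁻¹)⁻¹) * (x * g)⁻¹ := by rw [hc]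
        _ = g * (x * w * x⁻¹) * g⁻¹ := by group
    rcases hmin W hWn hWN with h | h
    · exfalso
      apply hv1
      have : v ∈ W := ⟨hv, hk⟩
      rw [h] at this
      exact this
    · intro v hv
      have : v ∈ W := by rw [h]; exact hv
      exact this.2
  obtain ⟨a, ha, ha1⟩ : ∃ a : N, (a : G) ∈ N ∧ (a : G) ≠ 1 :=
      (Subgroup.ne_bot_iff_exists_ne_one.mp hNb).imp fun a h => ⟨a.2, fun h1 => h (Subtype.ext h1)⟩
  have hzn : (zpowers (a : G)).Normal := by
    refine ⟨?_⟩
    rintro _ ⟨j, rfl⟩ g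
    obtain ⟨k, hk⟩ := hpow g
    show g * (a : G) ^ j * g⁻¹ ∈ zpowers (a : G)
    rw [← conj_zpow, hk a ha]
    exact Subgroup.zpow_mem _ (Subgroup.pow_mem _ (mem_zpowers _) _) _
  have hzN : zpowers (a : G) ≤ N := by rwa [zpowers_le]
  rcases hmin _ hzn hzN with h | h
  · rw [zpowers_eq_bot] at h; exact absurd h ha1
  · refine ⟨N, hNn, hNP, ?_⟩
    rw [← h, Nat.card_zpowers]
    exact orderOf_eq_prime (hexp a ha) ha1

theorem C0_comm_mem {p : ℕ} [hp : Fact p.Prime] {G : Type*} [Group G] [Finite G] {M T : Subgroup G} [hM : M.Normal] [hT : T.Normal]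
    (hc : IsCyclic (T.map (QuotientGroup.mk' M))) (hTp : IsPGroup p (T.map (QuotientGroup.mk' M)))
    {x : G} (hx : x ∈ C0 p G) (hxo : (orderOf x).Coprime p) {z : G} (hz : z ∈ T) : z⁻¹ * (x * z * x⁻¹) ∈ M := by
  haveI : (T.map (QuotientGroup.mk' M)).Normal := hT.map _ (QuotientGroup.mk'_surjective M)
  have h1 : QuotientGroup.mk' M x ∈ C0 p (G ⧸ M) := C0_map_le p _ ⟨x, hx, rfl⟩
  have h2 := C0_centralizes_cyclic hTp hc h1 (Nat.Coprime.coprime_dvd_left (orderOf_map_dvd _ x) hxo)
  have h3 := Subgroup.mem_centralizer_iff.mp h2 (QuotientGroup.mk' M z) ⟨z, hz, rfl⟩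
  rw [← QuotientGroup.eq_one_iff]
  show QuotientGroup.mk' M (z⁻¹ * (x * z * x⁻¹)) = 1
  rw [map_mul, map_inv, map_mul, map_mul, map_inv, ← h3]
  group

theorem card_map_mk' {G : Type*} [Group G] [Finite G] {M T : Subgroup G} [hM : M.Normal] :
    Nat.card (T.map (QuotientGroup.mk' M)) = M.relIndex T := by
  rw [← Subgroup.relIndex_ker, QuotientGroup.ker_mk']

theorem SChain.of_star {p : ℕ} [hp : Fact p.Prime] : ∀ (n : ℕ) (G : Type u) [Group G] [Finite G], Nat.card G = n →
    ∀ P : Subgroup G, P.Normal → IsPGroup p P →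
      (∀ x ∈ C0 p G, (orderOf x).Coprime p → x ∈ centralizer (P : Set G)) → SChain P := by
  intro n
  induction n using Nat.strong_induction_on with
  | _ n ih =>
  intro G _ _ hn P hPn hP hstar
  by_cases hbot : P = ⊥
  · rw [hbot]; exact SChain.bot
  obtain ⟨N, hNn, hNP, hNc⟩ := exists_prime_normal_of_star P hP hbot hstar
  have hNs : SChain N := by
    haveI : IsCyclic N := isCyclic_of_prime_card hNc
    obtain ⟨g, hg⟩ := (inferInstance : IsCyclic N).exists_generator
    refine SChain.step ⊥ N g SChain.bot hNn ?_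
    rw [bot_sup_eq]
    apply le_antisymm
    · intro x hx
      obtain ⟨k, hk⟩ := Subgroup.mem_zpowers_iff.mp (hg ⟨x, hx⟩)
      exact Subgroup.mem_zpowers_iff.mpr ⟨k, by rw [← Subgroup.coe_zpow, hk]⟩
    · rw [Subgroup.zpowers_le]; exact g.2
  have hlt : Nat.card (G ⧸ N) < n := by
    rw [← hn, Subgroup.card_eq_card_quotient_mul_card_subgroup N, hNc]
    exact lt_mul_of_one_lt_right Nat.card_pos hp.out.one_lt
  have h1 : SChain (P.map (QuotientGroup.mk' N)) := by
    refine ih _ hlt (G ⧸ N) rfl _ (hPn.map _ (QuotientGroup.mk'_surjective N)) (hP.map _) ?_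
    intro y hy hyo
    rw [← C0_map p (QuotientGroup.mk' N) (QuotientGroup.mk'_surjective N)] at hy
    obtain ⟨x, hx, rfl⟩ := hy
    obtain ⟨k, hk⟩ := pow_split p x
    obtain ⟨j, hj⟩ := exists_pow_eq_self_of_coprime (x := QuotientGroup.mk' N x) (n := p ^ k) ((hyo.symm).pow_left k)
    have h2 : (x ^ p ^ k) ^ j ∈ centralizer (P : Set G) := Subgroup.pow_mem _ (hstar _ (Subgroup.pow_mem _ hx _) hk) j
    rw [Subgroup.mem_centralizer_iff]
    rintro _ ⟨z, hz, rfl⟩
    have h3 := congrArg (QuotientGroup.mk' N) (Subgroup.mem_centralizer_iff.mp h2 z hz)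
    rw [map_mul, map_mul, map_pow, map_pow, hj] at h3
    exact h3
  have h2 := SChain.comap_of_ker (QuotientGroup.mk' N) (QuotientGroup.mk'_surjective N) (by rw [QuotientGroup.ker_mk']; exact hNs) h1
  rwa [Subgroup.comap_map_eq_self (by rw [QuotientGroup.ker_mk']; exact hNP)] at h2

theorem star_of_schain {p : ℕ} [hp : Fact p.Prime] {G : Type*} [Group G] [Finite G] {K : Subgroup G} (h : SChain K)
    (hK : IsPGroup p K) {x : G} (hx : x ∈ C0 p G) (hxo : (orderOf x).Coprime p) : x ∈ centralizer (K : Set G) := by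
  induction h with
  | bot => 
    rw [Subgroup.mem_centralizer_iff]
    intro a ha
    rw [SetLike.mem_coe, Subgroup.mem_bot] at ha
    rw [ha, one_mul, mul_one]
  | step H K g h hKn e ih =>
    haveI := h.normal
    have hHK : H ≤ K := by rw [e]; exact le_sup_left
    have h1 := ih (hK.to_le hHK)
    have hcyc : IsCyclic (K.map (QuotientGroup.mk' H)) := by
      have h2 : K.map (QuotientGroup.mk' H) = zpowers (QuotientGroup.mk' H g) := by
        rw [e, Subgroup.map_sup, MonoidHom.map_zpowers]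
        have : H.map (QuotientGroup.mk' H) = ⊥ := by
          rw [Subgroup.map_eq_bot_iff, QuotientGroup.ker_mk']
        rw [this, bot_sup_eq]
      rw [h2]; infer_instance
    have hcomm : ∀ z ∈ K, z⁻¹ * (x * z * x⁻¹) ∈ H := fun z hz => C0_comm_mem hcyc (hK.map _) hx hxo hz
    rw [Subgroup.mem_centralizer_iff]
    intro z hz
    have h3 : Commute x z := by
      refine commute_of_commute_conj hxo ?_ ?_
      · obtain ⟨k, hk⟩ := hK ⟨_, hHK (hcomm z hz)⟩
        exact ⟨k, congrArg Subtype.val hk⟩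
      · exact (Subgroup.mem_centralizer_iff.mp h1 _ (hcomm z hz)).symm
    exact h3.symm.eq

open scoped Pointwise in
/-- the centralizing step -/
theorem centralizes_of_normal_subs {G : Type*} [Group G] [Finite G] {p : ℕ} [hp : Fact p.Prime] {Q : Subgroup G}
    [hQn : Q.Normal] (hQ : IsPGroup p Q) {x : G} (hx0 : x ∈ C0 p G) (hxo : (orderOf x).Coprime p)
    {m : ℕ} (hm : 1 ≤ m) (hQm : p ^ m < Nat.card Q)
    (h : ∀ E : Subgroup G, E ≤ Q → (Nat.card E = p ^ m ∨ (p ^ m = 2 ∧ Nat.card E = 4)) → E.Normal) : x ∈ centralizer (Q : Set G) := by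
  have hx : x ∈ normalizer (Q : Set G) := by rw [Subgroup.normalizer_eq_top]; trivial
  obtain ⟨n, hn⟩ := IsPGroup.iff_card.mp hQ
  have hpp := hp.out
  have hmn : m < n := by rw [hn] at hQm; exact (Nat.pow_lt_pow_iff_right hpp.one_lt).mp hQm
  have hcyc : ∀ E : Subgroup G, IsPGroup p E → IsCyclic E → E.Normal → x ∈ centralizer (E : Set G) := by
    intro E hE hEc hEn
    exact C0_centralizes_cyclic hE hEc hx0 hxo
  have hE : ∀ E : Subgroup G, E ≤ Q → Nat.card E = p ^ m → x ∈ centralizer (E : Set G) := by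
    intro E hEQ hEc
    have hEn := h E hEQ (Or.inl hEc)
    obtain ⟨T0, hT0c, hET0⟩ := Sylow.exists_subgroup_card_pow_prime_le (G := Q) p (n := m) (m := m + 1)
      (by rw [hn]; exact Nat.pow_dvd_pow p hmn) (E.subgroupOf Q) (by
        rw [Nat.card_congr (Subgroup.subgroupOfEquivOfLe hEQ).toEquiv, hEc]) (Nat.le_succ m)
    set T := T0.map Q.subtype with hTdef
    have hTQ : T ≤ Q := Subgroup.map_subtype_le _
    have hTc : Nat.card T = p ^ (m + 1) := by
      rw [hTdef, Subgroup.card_map_of_injective Q.subtype_injective, hT0c]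
    have hET : E ≤ T := by
      intro e he
      exact ⟨⟨e, hEQ he⟩, hET0 he, rfl⟩
    have hTp : IsPGroup p T := hQ.to_le hTQ
    by_cases hc : ∃ t ∈ T, T ≤ zpowers t
    · obtain ⟨t, ht, hTt⟩ := hc
      refine hcyc E (hQ.to_le hEQ) ?_ hEn
      exact isCyclic_of_injective (Subgroup.inclusion (hET.trans hTt)) (Subgroup.inclusion_injective _)
    · replace hc : ∀ t ∈ T, ¬ T ≤ zpowers t := fun t ht h => hc ⟨t, ht, h⟩
      have hMx : ∀ M : Subgroup G, M ≤ T → M.relIndex T = p → Nat.card M = p ^ m := by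
        intro M hMT hMi
        have h1 := Subgroup.card_mul_index (M.subgroupOf T)
        rw [Nat.card_congr (Subgroup.subgroupOfEquivOfLe hMT).toEquiv] at h1
        change Nat.card M * M.relIndex T = _ at h1
        rw [hMi, hTc, pow_succ] at h1
        exact Nat.eq_of_mul_eq_mul_right hpp.pos h1
      have hTn : T.Normal := by
        have hlt : E < T := lt_of_le_of_ne hET (fun he => by
          rw [he, hTc] at hEc
          exact absurd (Nat.pow_right_injective hpp.two_le hEc) (by omega))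
        obtain ⟨t, ht, htE⟩ := SetLike.exists_of_lt hlt
        have h1 := hc t ht
        have h2 : (zpowers t).subgroupOf T ≠ ⊤ := fun he => h1 (Subgroup.subgroupOf_eq_top.mp he)
        obtain ⟨M, hM, hM'⟩ := (eq_top_or_exists_le_coatom ((zpowers t).subgroupOf T)).resolve_left h2
        have hMi := H1.index_of_isCoatom_pgroup hTp hM
        have hsub : (M.map T.subtype).subgroupOf T = M := by
          rw [Subgroup.subgroupOf, Subgroup.comap_map_eq_self_of_injective T.subtype_injective]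
        have hMc := hMx (M.map T.subtype) (Subgroup.map_subtype_le _) (by rw [Subgroup.relIndex, hsub, hMi])
        have hMT : M.map T.subtype ≤ T := Subgroup.map_subtype_le _
        have h3 := h (M.map T.subtype) (hMT.trans hTQ) (Or.inl hMc)
        have htM : t ∈ M.map T.subtype := ⟨⟨t, ht⟩, hM' (mem_zpowers t), rfl⟩
        have hsup : E ⊔ M.map T.subtype = T := by
          apply le_antisymm (sup_le hET hMT)
          have h4 : M < (E ⊔ M.map T.subtype).subgroupOf T := by
            refine lt_of_le_of_ne ?_ ?_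
            · have h40 : (M.map T.subtype).subgroupOf T ≤ (E ⊔ M.map T.subtype).subgroupOf T := Subgroup.comap_mono le_sup_right
              exact hsub.symm.le.trans h40
            · intro he
              have h5 : E ≤ M.map T.subtype := by
                intro e he'
                have h50 : (⟨e, hET he'⟩ : T) ∈ (E ⊔ M.map T.subtype).subgroupOf T := (le_sup_left : E ≤ E ⊔ M.map T.subtype) he'
                rw [← he] at h50
                exact ⟨_, h50, rfl⟩
              have h6 : E = M.map T.subtype := Subgroup.eq_of_le_of_card_ge h5 (by rw [hMc, hEc])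
              exact htE (h6 ▸ htM)
          have h7 := hM.2 _ h4
          exact Subgroup.subgroupOf_eq_top.mp h7
        rw [← hsup]
        haveI := hEn
        haveI := h3
        infer_instance
      have h8 : x ∈ centralizer (T : Set G) := by
        have hAT : zpowers x ≤ normalizer (T : Set G) := by rw [Subgroup.normalizer_eq_top]; exact le_top
        have hcop : (Nat.card (zpowers x)).Coprime (Nat.card T) := by
          rw [Nat.card_zpowers, hTc]; exact hxo.pow_right _
        have hs : Group.IsSolvable (zpowers x) ∨ Group.IsSolvable T := by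
          haveI := hTp.isNilpotent
          exact Or.inr inferInstance
        have h1 : ⁅T, zpowers x⁆ = ⊥ := by
          refine L0.commutator_eq_bot_of_le_frattini hAT hcop hs ?_
          rw [Subgroup.commutator_le]
          rintro z hz _ ⟨k, rfl⟩
          have hmem : (x ^ k) * z⁻¹ * (x ^ k)⁻¹ ∈ T := hTn.conj_mem _ (T.inv_mem hz) _
          have e : ⁅z, x ^ k⁆ = z⁻¹⁻¹ * (x ^ k * z⁻¹ * (x ^ k)⁻¹) := by rw [commutatorElement_def]; group
          show ⁅z, x ^ k⁆ ∈ _
          rw [e]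
          refine mem_frattini_map hTp (T.mul_mem (T.inv_mem (T.inv_mem hz)) hmem) ?_
          intro M hM hMi hMn
          haveI := h M (hM.trans hTQ) (Or.inl (hMx M hM hMi))
          have hc2 : Nat.card (T.map (QuotientGroup.mk' M)) = p := by rw [card_map_mk', hMi]
          refine C0_comm_mem (isCyclic_of_prime_card hc2) (hTp.map _) (Subgroup.zpow_mem _ hx0 k) ?_ (T.inv_mem hz)
          exact Nat.Coprime.coprime_dvd_left (orderOf_dvd_of_mem_zpowers ⟨k, rfl⟩) hxo
        rwa [Subgroup.commutator_comm, Subgroup.commutator_eq_bot_iff_le_centralizer, zpowers_le] at h1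
      exact Subgroup.centralizer_le hET h8
  refine omega_centralizes hxo _ Q rfl hQ hx ?_
  intro a ha hcond
  obtain ⟨i, hi⟩ := IsPGroup.iff_card.mp (hQ.to_le (zpowers_le.mpr ha))
  rcases Nat.lt_or_ge m i with hlt | hge
  · -- p = 2, m = 1, order 4
    rw [Nat.card_zpowers] at hi
    have hnot : ¬ a ^ p = 1 := by
      intro h1
      have h2 := orderOf_dvd_of_pow_eq_one h1
      rw [hi] at h2
      have h3 := Nat.le_of_dvd hpp.pos h2
      have h4 : p ^ 2 ≤ p ^ i := Nat.pow_le_pow_right hpp.pos (by omega)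
      have h5 : p < p ^ 2 := by
        have := Nat.pow_lt_pow_right hpp.one_lt (show 1 < 2 by norm_num)
        simpa using this
      omega
    obtain ⟨h2, h4⟩ := hcond.resolve_left hnot
    have h5 := orderOf_dvd_of_pow_eq_one h4
    rw [hi, h2] at h5
    have h6 : i ≤ 2 := (Nat.pow_dvd_pow_iff_le_right (show 1 < 2 by norm_num)).mp (by simpa using h5)
    have hm1 : m = 1 := by omega
    have hi2 : i = 2 := by omega
    have h7 := h (zpowers a) (zpowers_le.mpr ha) (Or.inr ⟨by rw [hm1, h2]; rfl, by rw [Nat.card_zpowers, hi, h2, hi2]; rfl⟩)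
    have h8 := hcyc (zpowers a) (hQ.to_le (zpowers_le.mpr ha)) inferInstance h7
    exact (Subgroup.mem_centralizer_iff.mp h8 a (mem_zpowers a)).symm
  · obtain ⟨E0, hE0c, hE0⟩ := Sylow.exists_subgroup_card_pow_prime_le (G := Q) p (n := i) (m := m)
      (by rw [hn]; exact Nat.pow_dvd_pow p hmn.le) ((zpowers a).subgroupOf Q) (by
        rw [Nat.card_congr (Subgroup.subgroupOfEquivOfLe (zpowers_le.mpr ha)).toEquiv, hi]) hge
    have h1 := hE (E0.map Q.subtype) (Subgroup.map_subtype_le _) (by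
      rw [Subgroup.card_map_of_injective Q.subtype_injective, hE0c])
    exact (Subgroup.mem_centralizer_iff.mp h1 a ⟨⟨a, ha⟩, hE0 (mem_zpowers a), rfl⟩).symm


end Cfsg.Agent.H3
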