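import Mathlib
import Cfsg.Agent.H1.Prod
import Cfsg.Agent.S0572
import Cfsg.Agent.H3.SSol
import Cfsg.Agent.H3.Perm
set_option autoImplicit false
set_option linter.unusedVariables false
set_option linter.style.haveILetI false
/-! Products of two abelian subgroups. -/
open Subgroup Pointwise

namespace Cfsg.Agent.H3

/-- torsion part of an abelian subgroup -/
def tor {G : Type*} [Group G] (A : Subgroup G) (hab : ∀ a ∈ A, ∀ b ∈ A, a * b = b * a) (u : ℕ) : Subgroup G where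
  carrier := {x | x ∈ A ∧ x ^ u = 1}
  one_mem' := ⟨one_mem A, one_pow _⟩
  mul_mem' := by
    rintro x y ⟨hx, hx1⟩ ⟨hy, hy1⟩
    exact ⟨mul_mem hx hy, by rw [Commute.mul_pow (hab x hx y hy), hx1, hy1, one_mul]⟩
  inv_mem' := by
    rintro x ⟨hx, hx1⟩
    exact ⟨inv_mem hx, by rw [inv_pow, hx1, inv_one]⟩

theorem tor_le {G : Type*} [Group G] (A : Subgroup G) (hab : ∀ a ∈ A, ∀ b ∈ A, a * b = b * a) (u : ℕ) : tor A hab u ≤ A := fun _ h => h.1

theorem tor_split {G : Type*} [Group G] [Finite G] (A : Subgroup G) (hab : ∀ a ∈ A, ∀ b ∈ A, a * b = b * a) {u v : ℕ} (huv : Nat.card A = u * v)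
    (hcop : u.Coprime v) {x : G} (hx : x ∈ A) : ∃ y ∈ tor A hab u, ∃ z ∈ tor A hab v, x = y * z := by
  have hx1 : x ^ (u * v) = 1 := by
    rw [← huv]
    exact congrArg Subtype.val (pow_card_eq_one' (x := (⟨x, hx⟩ : A)))
  have h1 := Nat.gcd_eq_gcd_ab u v
  rw [Nat.Coprime.gcd_eq_one hcop] at h1
  refine ⟨(x ^ v) ^ (Nat.gcdB u v), ⟨Subgroup.zpow_mem _ (Subgroup.pow_mem _ hx _) _, ?_⟩, (x ^ u) ^ (Nat.gcdA u v), ⟨Subgroup.zpow_mem _ (Subgroup.pow_mem _ hx _) _, ?_⟩, ?_⟩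
  · rw [← zpow_natCast, ← zpow_mul, mul_comm, zpow_mul, zpow_natCast, ← pow_mul, mul_comm v u, hx1, one_zpow]
  · rw [← zpow_natCast, ← zpow_mul, mul_comm, zpow_mul, zpow_natCast, ← pow_mul, hx1, one_zpow]
  · calc x = x ^ (1 : ℤ) := by rw [zpow_one]
      _ = x ^ ((v : ℤ) * Nat.gcdB u v + (u : ℤ) * Nat.gcdA u v) := by
        rw [add_comm, ← h1]; rfl
      _ = _ := by rw [zpow_add, zpow_mul, zpow_mul, zpow_natCast, zpow_natCast]

theorem card_tor_coprime {G : Type*} [Group G] [Finite G] (A : Subgroup G) (hab : ∀ a ∈ A, ∀ b ∈ A, a * b = b * a) {u v : ℕ}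
    (hcop : u.Coprime v) : (Nat.card (tor A hab u)).Coprime v := by
  rw [Nat.coprime_iff_gcd_eq_one]
  by_contra hne
  obtain ⟨q, hq, hqd⟩ := Nat.exists_prime_and_dvd hne
  haveI := Fact.mk hq
  obtain ⟨x, hx⟩ := exists_prime_orderOf_dvd_card' (G := tor A hab u) q (hqd.trans (Nat.gcd_dvd_left _ _))
  have h1 : orderOf x ∣ u := by
    apply orderOf_dvd_of_pow_eq_one
    exact Subtype.ext x.2.2
  rw [hx] at h1
  exact hq.one_lt.ne' (Nat.eq_one_of_dvd_coprimes hcop h1 (hqd.trans (Nat.gcd_dvd_right _ _)))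

theorem card_tor {G : Type*} [Group G] [Finite G] (A : Subgroup G) (hab : ∀ a ∈ A, ∀ b ∈ A, a * b = b * a) {u v : ℕ} (huv : Nat.card A = u * v)
    (hcop : u.Coprime v) : Nat.card (tor A hab u) = u := by
  have h1 := card_tor_coprime A hab hcop
  have h2 := card_tor_coprime A hab hcop.symm
  have hd : ∀ w, Nat.card (tor A hab w) ∣ u * v := fun w => by
    rw [← huv]; exact Subgroup.card_dvd_of_le (tor_le A hab w)
  have h3 : Nat.card (tor A hab u) ∣ u := h1.dvd_of_dvd_mul_right (hd u)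
  have h4 : Nat.card (tor A hab v) ∣ v := h2.dvd_of_dvd_mul_left (hd v)
  have h5 : tor A hab u ⊔ tor A hab v = A := by
    apply le_antisymm (sup_le (tor_le _ _ _) (tor_le _ _ _))
    intro x hx
    obtain ⟨y, hy, z, hz, rfl⟩ := tor_split A hab huv hcop hx
    exact Subgroup.mul_mem_sup hy hz
  have h6 : Nat.card ↥(tor A hab u ⊔ tor A hab v) = Nat.card (tor A hab u) * Nat.card (tor A hab v) := by
    apply L0.card_sup_of_normalizes
    · intro y hy
      apply Subgroup.mem_normalizer_fintype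
      intro x hx
      have : y * x * y⁻¹ = x := by rw [hab y hy.1 x hx.1]; group
      rw [this]; exact hx
    · apply L0.inf_eq_bot_of_coprime'
      exact Nat.Coprime.coprime_dvd_right h4 h1
  rw [h5, huv] at h6
  have hu : 0 < u := Nat.pos_of_ne_zero (by rintro rfl; rw [zero_mul] at huv; exact Nat.card_pos.ne' huv)
  have hv : 0 < v := Nat.pos_of_ne_zero (by rintro rfl; rw [mul_zero] at huv; exact Nat.card_pos.ne' huv)
  have h7 := Nat.le_of_dvd hu h3
  have h8 := Nat.le_of_dvd hv h4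
  by_contra hne
  have h9 : Nat.card (tor A hab u) < u := lt_of_le_of_ne h7 hne
  have h10 : Nat.card (tor A hab u) * Nat.card (tor A hab v) < u * v := by
    calc _ ≤ Nat.card (tor A hab u) * v := Nat.mul_le_mul_left _ h8
      _ < u * v := Nat.mul_lt_mul_of_pos_right h9 hv
  omega

theorem prod_hall {G : Type*} [Group G] [Finite G] (hs : Group.IsSolvable G) (A B : Subgroup G) (hA : ∀ a ∈ A, ∀ b ∈ A, a * b = b * a)
    (hB : ∀ a ∈ B, ∀ b ∈ B, a * b = b * a) (hAB : ∀ g : G, ∃ a ∈ A, ∃ b ∈ B, g = a * b) (hi : A ⊓ B = ⊥) {m n : ℕ} (hmn : Nat.card G = m * n)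
    (hcop : m.Coprime n) : ∃ T : Subgroup G, Nat.card T = m ∧ ∀ t ∈ T, ∃ a ∈ tor A hA ((Nat.card A).gcd m), ∃ b ∈ tor B hB ((Nat.card B).gcd m), t = a * b := by
  have hcG : Nat.card A * Nat.card B = Nat.card G := by
    have h1 := H1.card_set_mul A B
    rw [hi, Subgroup.card_bot, mul_one] at h1
    rw [← h1]
    have : ((A : Set G) * (B : Set G) : Set G) = Set.univ := by
      rw [Set.eq_univ_iff_forall]
      intro g
      obtain ⟨a, ha, b, hb, e⟩ := hAB g
      exact ⟨a, ha, b, hb, e.symm⟩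
    rw [this]
    exact Nat.card_congr (Equiv.Set.univ G)
  have hsplit : ∀ k : ℕ, k ∣ m * n → k = k.gcd m * k.gcd n := by
    intro k hk
    rw [← Nat.Coprime.gcd_mul k hcop]
    exact (Nat.gcd_eq_left hk).symm
  have hA1 := hsplit (Nat.card A) (by rw [← hmn, ← hcG]; exact Dvd.intro _ rfl)
  have hB1 := hsplit (Nat.card B) (by rw [← hmn, ← hcG]; exact Dvd.intro_left _ rfl)
  set u1 := (Nat.card A).gcd m
  set v1 := (Nat.card A).gcd n
  set u2 := (Nat.card B).gcd m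
  set v2 := (Nat.card B).gcd n
  have hu1 : u1 ∣ m := Nat.gcd_dvd_right _ _
  have hu2 : u2 ∣ m := Nat.gcd_dvd_right _ _
  have hv1 : v1 ∣ n := Nat.gcd_dvd_right _ _
  have hv2 : v2 ∣ n := Nat.gcd_dvd_right _ _
  have hc1 : u1.Coprime v1 := Nat.Coprime.coprime_dvd_left hu1 (Nat.Coprime.coprime_dvd_right hv1 hcop)
  have hc2 : u2.Coprime v2 := Nat.Coprime.coprime_dvd_left hu2 (Nat.Coprime.coprime_dvd_right hv2 hcop)
  have hcA := card_tor A hA hA1 hc1
  have hcB := card_tor B hB hB1 hc2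
  have hm : u1 * u2 = m := by
    have h1 : u1 * u2 * (v1 * v2) = m * n := by
      rw [← hmn, ← hcG]
      calc u1 * u2 * (v1 * v2) = (u1 * v1) * (u2 * v2) := by ring
        _ = _ := by rw [← hA1, ← hB1]
    have hcu : (u1 * u2).Coprime n := Nat.Coprime.mul_left (Nat.Coprime.coprime_dvd_left hu1 hcop) (Nat.Coprime.coprime_dvd_left hu2 hcop)
    have hcv : m.Coprime (v1 * v2) := Nat.Coprime.mul_right (Nat.Coprime.coprime_dvd_right hv1 hcop) (Nat.Coprime.coprime_dvd_right hv2 hcop)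
    apply Nat.dvd_antisymm
    · exact hcu.dvd_of_dvd_mul_right (h1 ▸ Dvd.intro _ rfl)
    · exact hcv.dvd_of_dvd_mul_right (h1 ▸ Dvd.intro _ rfl)
  obtain ⟨T, hT⟩ := H1.hall_exists hs hmn hcop
  obtain ⟨x, hx⟩ := H1.hall_dominate hs hmn hcop hT (K := tor A hA u1) (by rw [hcA]; exact Nat.Coprime.coprime_dvd_left hu1 hcop)
  obtain ⟨y, hy⟩ := H1.hall_dominate hs hmn hcop hT (K := tor B hB u2) (by rw [hcB]; exact Nat.Coprime.coprime_dvd_left hu2 hcop)
  obtain ⟨a, ha, b, hb, e⟩ := hAB (x * y⁻¹)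
  have hz : a⁻¹ * x = b * y := by
    have : x = a * b * y := by rw [← e]; group
    rw [this]; group
  have h1 : tor A hA u1 ≤ MulAut.conj (a⁻¹ * x) • T := by
    intro t ht
    have h2 := hx ht
    rw [L0.mem_conj_smul] at h2 ⊢
    have e1 : (a⁻¹ * x)⁻¹ * t * (a⁻¹ * x) = x⁻¹ * (a * t * a⁻¹) * x := by group
    have e2 : a * t * a⁻¹ = t := by rw [hA a ha t ht.1]; group
    rw [e1, e2]; exact h2
  have h2 : tor B hB u2 ≤ MulAut.conj (a⁻¹ * x) • T := by
    rw [hz]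
    intro t ht
    have h2 := hy ht
    rw [L0.mem_conj_smul] at h2 ⊢
    have e1 : (b * y)⁻¹ * t * (b * y) = y⁻¹ * (b⁻¹ * t * b) * y := by group
    have e2 : b⁻¹ * t * b = t := by rw [mul_assoc, hB t ht.1 b hb]; group
    rw [e1, e2]; exact h2
  refine ⟨MulAut.conj (a⁻¹ * x) • T, by rw [L0.card_conj_smul, hT], ?_⟩
  have h3 := H1.card_set_mul (tor A hA u1) (tor B hB u2)
  have h4 : tor A hA u1 ⊓ tor B hB u2 = ⊥ := by
    rw [eq_bot_iff, ← hi]; exact inf_le_inf (tor_le _ _ _) (tor_le _ _ _)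
  rw [h4, Subgroup.card_bot, mul_one, hcA, hcB, hm] at h3
  have h5 : ((tor A hA u1 : Set G) * (tor B hB u2 : Set G) : Set G) = ((MulAut.conj (a⁻¹ * x) • T : Subgroup G) : Set G) := by
    apply Set.eq_of_subset_of_ncard_le _ _ (Set.toFinite _)
    · rintro _ ⟨s, hs, t, ht, rfl⟩
      exact mul_mem (h1 hs) (h2 ht)
    · have h6 : Nat.card (MulAut.conj (a⁻¹ * x) • T : Subgroup G) = m := by rw [L0.card_conj_smul, hT]
      have h7 : ((MulAut.conj (a⁻¹ * x) • T : Subgroup G) : Set G).ncard = m := h6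
      have h8 : ((tor A hA u1 : Set G) * (tor B hB u2 : Set G) : Set G).ncard = m := h3
      rw [h7, h8]
  intro t ht
  have ht' : t ∈ ((tor A hA u1 : Set G) * (tor B hB u2 : Set G) : Set G) := by rw [h5]; exact ht
  obtain ⟨s, hs, r, hr, e⟩ := ht'
  exact ⟨s, hs, r, hr, e.symm⟩

end Cfsg.Agent.H3
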