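import Mathlib
import Cfsg.Prelude.Def_OddOrderLocal

set_option autoImplicit false
set_option linter.unusedSectionVars false
set_option linter.unusedSimpArgs false
set_option linter.unusedVariables false
open Cfsg
open scoped commutatorElement
open Subgroup

namespace Cfsg.Agent.H3.Meta

universe u
variable {G : Type u} [Group G]

theorem subgroup (hmc : IsMetacyclic G) (L : Subgroup G) : IsMetacyclic ↥L := by
  obtain ⟨N, hN, hc, hq⟩ := hmc
  set f : ↥L →* G ⧸ N := (QuotientGroup.mk' N).comp L.subtype with hf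
  refine ⟨f.ker, inferInstance, ?_, ?_⟩
  · have hle : ∀ x : ↥L, x ∈ f.ker → (x : G) ∈ N := by
      intro x hx
      rw [MonoidHom.mem_ker] at hx
      exact (QuotientGroup.eq_one_iff _).1 hx
    let g : ↥f.ker →* ↥N :=
      { toFun := fun x => ⟨((x : ↥L) : G), hle x x.2⟩
        map_one' := rfl
        map_mul' := fun x y => rfl }
    have hg : Function.Injective g := by
      intro x y h
      exact Subtype.ext (Subtype.ext (congrArg (fun z : ↥N => (z : G)) h))
    exact isCyclic_of_injective g hg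
  · exact isCyclic_of_injective (QuotientGroup.kerLift f) (QuotientGroup.kerLift_injective f)

theorem gens (hmc : IsMetacyclic G) : ∃ a b : G, (zpowers a).Normal ∧
    (∀ g : G, ∃ i j : ℤ, g = b ^ i * a ^ j) ∧ commutator G ≤ zpowers a := by
  obtain ⟨N, hN, hc, hq⟩ := hmc
  obtain ⟨⟨a, ha⟩, haN⟩ := hc.exists_generator
  obtain ⟨b', hb⟩ := hq.exists_generator
  obtain ⟨b, rfl⟩ := QuotientGroup.mk_surjective b'
  have hNa : N = zpowers a := by
    apply le_antisymm
    · intro x hx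
      obtain ⟨k, hk⟩ := haN ⟨x, hx⟩
      exact ⟨k, congrArg Subtype.val hk⟩
    · rw [zpowers_le]; exact ha
  refine ⟨a, b, hNa ▸ hN, ?_, ?_⟩
  · intro g
    obtain ⟨i, hi⟩ := hb (g : G ⧸ N)
    have hi : (b : G ⧸ N) ^ i = g := hi
    have h1 : (b ^ i)⁻¹ * g ∈ N := by
      rw [← QuotientGroup.eq, QuotientGroup.mk_zpow]; exact hi
    rw [hNa] at h1
    obtain ⟨j, hj⟩ := h1
    have hj : a ^ j = (b ^ i)⁻¹ * g := hj
    exact ⟨i, j, by rw [hj]; group⟩
  · rw [← hNa]
    have : IsMulCommutative (G ⧸ N) := hq.isMulCommutative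
    rw [_root_.commutator_def, Subgroup.commutator_le]
    intro x _ y _
    rw [← QuotientGroup.eq_one_iff, commutatorElement_def]
    simp only [QuotientGroup.mk_mul, QuotientGroup.mk_inv]
    rw [mul_comm' (x : G ⧸ N) (y : G ⧸ N)]; group

/-- the derived subgroup is cyclic -/
theorem derived_cyclic (hmc : IsMetacyclic G) : IsCyclic ↥(commutator G) := by
  obtain ⟨a, b, h1, h2, h3⟩ := gens hmc
  exact Subgroup.isCyclic_of_le h3

theorem derived_comm (hmc : IsMetacyclic G) {x y : G} (hx : x ∈ commutator G) (hy : y ∈ commutator G) :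
    x * y = y * x := by
  have := (derived_cyclic hmc).isMulCommutative
  exact congrArg Subtype.val (mul_comm' (⟨x, hx⟩ : ↥(commutator G)) ⟨y, hy⟩)

/-- subgroups of a cyclic normal subgroup are normal -/
theorem zpowers_normal_of_mem {a c : G} (ha : (zpowers a).Normal) (hc : c ∈ zpowers a) : (zpowers c).Normal := by
  obtain ⟨k, rfl⟩ := hc
  refine ⟨fun x hx g => ?_⟩
  obtain ⟨m, rfl⟩ := hx
  obtain ⟨r, hr⟩ := ha.conj_mem a (mem_zpowers a) g
  refine ⟨r * m, ?_⟩
  have hr : a ^ r = g * a * g⁻¹ := hr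
  show (a ^ k) ^ (r * m) = g * (a ^ k) ^ m * g⁻¹
  rw [← conj_zpow, ← conj_zpow, ← hr, ← zpow_mul, ← zpow_mul, ← zpow_mul]
  congr 1; ring

theorem derived_eq {a b : G} (ha : (zpowers a).Normal) (hg : ∀ g : G, ∃ i j : ℤ, g = b ^ i * a ^ j) :
    commutator G = zpowers ⁅b, a⁆ := by
  have hca : ⁅b, a⁆ ∈ zpowers a := by
    rw [commutatorElement_def]
    exact mul_mem (ha.conj_mem a (mem_zpowers a) b) (inv_mem (mem_zpowers a))
  have hn := zpowers_normal_of_mem ha hca
  apply le_antisymm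
  · -- G / ⟨c⟩ is abelian
    have key : ∀ (c : G) (hn : (zpowers c).Normal), ⁅b, a⁆ = c → commutator G ≤ zpowers c := by
      intro c hn hc
      have hab : Commute (b : G ⧸ zpowers c) (a : G ⧸ zpowers c) := by
        have : ((⁅b, a⁆ : G) : G ⧸ zpowers c) = 1 := (QuotientGroup.eq_one_iff _).2 (hc ▸ mem_zpowers _)
        rw [commutatorElement_def] at this
        simp only [QuotientGroup.mk_mul, QuotientGroup.mk_inv] at this
        show (b : G ⧸ zpowers c) * a = a * b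
        have h2 : (b : G ⧸ zpowers c) * a = ((b : G ⧸ zpowers c) * a * (b : G ⧸ zpowers c)⁻¹ * (a : G ⧸ zpowers c)⁻¹) * (a * b) := by
          group
        rw [h2, this, one_mul]
      rw [_root_.commutator_def, Subgroup.commutator_le]
      intro x _ y _
      rw [← QuotientGroup.eq_one_iff, commutatorElement_def]
      obtain ⟨i, j, rfl⟩ := hg x
      obtain ⟨k, l, rfl⟩ := hg y
      simp only [QuotientGroup.mk_mul, QuotientGroup.mk_inv, QuotientGroup.mk_zpow]
      have hcomm : Commute ((b : G ⧸ zpowers c) ^ i * (a : G ⧸ zpowers c) ^ j) ((b : G ⧸ zpowers c) ^ k * (a : G ⧸ zpowers c) ^ l) := by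
        apply Commute.mul_left <;> apply Commute.mul_right
        · exact (Commute.refl _).zpow_zpow _ _
        · exact hab.zpow_zpow _ _
        · exact hab.symm.zpow_zpow _ _
        · exact (Commute.refl _).zpow_zpow _ _
      rw [hcomm.eq]; group
    exact key _ hn rfl
  · rw [zpowers_le]
    exact commutator_mem_commutator (mem_top _) (mem_top _)

variable [Finite G] {p : ℕ} [hp : Fact p.Prime]

/-- the number-theoretic lemma -/
theorem pow_dvd_geom (hp2 : p ≠ 2) (r m j k : ℕ) (hr : 0 < r) :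
    p ^ m ∣ (∑ i ∈ Finset.range j, (1 + p * r) ^ i) * k ↔ p ^ m ∣ j * k := by
  rcases Nat.eq_zero_or_pos j with rfl | hj
  · simp
  rcases Nat.eq_zero_or_pos k with rfl | hk
  · simp
  have hodd : Odd p := hp.out.odd_of_ne_two hp2
  have hs : (1 + p * r) - 1 = p * r := by omega
  have hppos := hp.out.pos
  have hpr : 0 < p * r := Nat.mul_pos hppos hr
  have h1 := padicValNat.pow_sub_pow (x := 1 + p * r) (y := 1) (p := p) hodd (by omega) (by rw [hs]; exact dvd_mul_right _ _)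
    (by
      intro h
      have : p ∣ 1 := (Nat.dvd_add_left (dvd_mul_right p r)).1 h
      exact hp.out.one_lt.ne' (Nat.dvd_one.1 this)) (n := j) hj.ne'
  have h2 : (∑ i ∈ Finset.range j, (1 + p * r) ^ i) * ((1 + p * r) - 1) = (1 + p * r) ^ j - 1 := by
    have := Nat.geomSum_eq (m := 1 + p * r) (by omega) j
    rw [this]
    apply Nat.div_mul_cancel
    simpa using Nat.sub_one_dvd_pow_sub_one (1 + p * r) j
  have hne : (∑ i ∈ Finset.range j, (1 + p * r) ^ i) ≠ 0 := by
    have : 0 < ∑ i ∈ Finset.range j, (1 + p * r) ^ i :=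
      Finset.sum_pos (fun i _ => by positivity) ⟨0, by simpa using hj⟩
    omega
  rw [one_pow, ← h2, padicValNat.mul hne (by omega)] at h1
  have h3 : padicValNat p (∑ i ∈ Finset.range j, (1 + p * r) ^ i) = padicValNat p j := by omega
  rw [padicValNat_dvd_iff_le (by exact Nat.mul_ne_zero hne hk.ne'), padicValNat_dvd_iff_le (Nat.mul_ne_zero hj.ne' hk.ne'),
    padicValNat.mul hne hk.ne', padicValNat.mul hj.ne' hk.ne', h3]

/-- each element acts on the derived subgroup by a power `≡ 1 mod p` -/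
theorem act (hG : IsPGroup p G) (hmc : IsMetacyclic G) (x : G) : ∃ r : ℕ, 0 < r ∧
    ∀ d ∈ commutator G, x * d * x⁻¹ = d ^ (1 + p * r) := by
  obtain ⟨⟨c, hc⟩, hgen⟩ := (derived_cyclic hmc).exists_generator
  have hgen' : ∀ d ∈ commutator G, ∃ k : ℤ, c ^ k = d := by
    intro d hd
    obtain ⟨k, hk⟩ := hgen ⟨d, hd⟩
    exact ⟨k, congrArg Subtype.val hk⟩
  have hcn : (commutator G).Normal := inferInstance
  obtain ⟨s, hs⟩ := hgen' _ (hcn.conj_mem c hc x)
  -- natural exponent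
  obtain ⟨t, ht⟩ : ∃ t : ℕ, c ^ t = x * c * x⁻¹ := by
    have : x * c * x⁻¹ ∈ zpowers c := ⟨s, hs⟩
    obtain ⟨t, ht⟩ := (mem_powers_iff_mem_zpowers).2 this
    exact ⟨t, ht⟩
  have hall : ∀ t : ℕ, c ^ t = x * c * x⁻¹ → ∀ d ∈ commutator G, x * d * x⁻¹ = d ^ t := by
    intro t ht d hd
    obtain ⟨k, rfl⟩ := hgen' d hd
    rw [← conj_zpow, ← ht, ← zpow_natCast, ← zpow_natCast, ← zpow_mul, ← zpow_mul, mul_comm]
  obtain ⟨m, hm⟩ := hG.exists_card_eq
  have hpos : ∀ n : ℕ, x ^ n * c * (x ^ n)⁻¹ = c ^ (t ^ n) := by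
    intro n
    induction n with
    | zero => simp
    | succ n ih =>
      have e : x ^ (n + 1) * c * (x ^ (n + 1))⁻¹ = x * (x ^ n * c * (x ^ n)⁻¹) * x⁻¹ := by
        rw [pow_succ' x n]; group
      rw [e, ih, ← conj_pow, ← ht, ← pow_mul, ← pow_succ']
  have h1 := hpos (p ^ m)
  rw [← hm, pow_card_eq_one', one_mul, inv_one, mul_one] at h1
  by_cases hc1 : c = 1
  · refine ⟨1, one_pos, hall _ ?_⟩
    rw [hc1]; simp
  have hpc : p ∣ orderOf c := by
    obtain ⟨k, hk⟩ := (IsPGroup.iff_orderOf.1 hG) c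
    rw [hk]
    refine dvd_pow_self p ?_
    rintro rfl
    exact hc1 (by rwa [pow_zero, orderOf_eq_one_iff] at hk)
  have h2 : (t ^ (Nat.card G)) ≡ 1 [MOD orderOf c] := by
    rw [← pow_eq_pow_iff_modEq, pow_one]; exact h1.symm
  have h3 : (t ^ (Nat.card G)) ≡ 1 [MOD p] := h2.of_dvd hpc
  have h4 : (t : ZMod p) = 1 := by
    have h5 : ((t ^ Nat.card G : ℕ) : ZMod p) = ((1 : ℕ) : ZMod p) := (ZMod.natCast_eq_natCast_iff _ _ _).2 h3
    rw [Nat.cast_pow, hm, ZMod.pow_card_pow] at h5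
    simpa using h5
  have h6 : t ≡ 1 [MOD p] := by
    rw [← ZMod.natCast_eq_natCast_iff]; simpa using h4
  -- choose the exponent t + orderOf c * p  (> 1)
  have ho : 0 < orderOf c := orderOf_pos c
  have hge : 1 ≤ t + orderOf c * p := by have := Nat.mul_pos ho hp.out.pos; omega
  have h7 : t + orderOf c * p ≡ 1 [MOD p] := by
    have : orderOf c * p ≡ 0 [MOD p] := (Nat.modEq_zero_iff_dvd).2 (dvd_mul_left _ _)
    simpa using h6.add this
  obtain ⟨r, hr⟩ := (Nat.modEq_iff_dvd' hge).1 h7.symm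
  have hrpos : 0 < r := by
    rcases Nat.eq_zero_or_pos r with rfl | h
    · exfalso
      have h8 : 2 ≤ orderOf c * p := Nat.le_trans hp.out.two_le (Nat.le_mul_of_pos_left p ho)
      omega
    · exact h
  refine ⟨r, hrpos, hall _ ?_⟩
  have e : 1 + p * r = t + orderOf c * p := by omega
  rw [e, pow_add, pow_mul, pow_orderOf_eq_one, one_pow, mul_one, ht]

theorem comm_mem (x y : G) : ⁅x, y⁆ ∈ commutator G := commutator_mem_commutator (mem_top _) (mem_top _)

/-- power-commutator property -/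
theorem pck_nat (hp2 : p ≠ 2) (hG : IsPGroup p G) (hmc : IsMetacyclic G) (x y : G) (j k : ℕ) :
    ⁅x ^ j, y⁆ ^ k = 1 ↔ ⁅x, y⁆ ^ (j * k) = 1 := by
  obtain ⟨r, hr, hact⟩ := act hG hmc x
  have h1 : ∀ j : ℕ, ⁅x ^ j, y⁆ = ⁅x, y⁆ ^ (∑ i ∈ Finset.range j, (1 + p * r) ^ i) := by
    intro j
    induction j with
    | zero => simp
    | succ j ih =>
      have e : ⁅x ^ (j + 1), y⁆ = (x * ⁅x ^ j, y⁆ * x⁻¹) * ⁅x, y⁆ := by
        rw [commutatorElement_def, commutatorElement_def, commutatorElement_def, pow_succ' x j]; group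
      rw [e, hact _ (comm_mem _ _), ih, geom_sum_succ, pow_succ, ← pow_mul, mul_comm]
  rw [h1 j, ← pow_mul]
  obtain ⟨m, hm⟩ := (IsPGroup.iff_orderOf.1 hG) ⁅x, y⁆
  rw [← orderOf_dvd_iff_pow_eq_one, ← orderOf_dvd_iff_pow_eq_one, hm]
  exact pow_dvd_geom hp2 r m j k hr

theorem pck (hp2 : p ≠ 2) (hG : IsPGroup p G) (hmc : IsMetacyclic G) (x y : G) (j : ℤ) (k : ℕ) :
    ⁅x ^ j, y⁆ ^ k = 1 ↔ ⁅x, y⁆ ^ (j * k) = 1 := by
  have ho : 0 < orderOf x := orderOf_pos x
  -- reduce to a natural exponent, modulo orderOf x (|G|)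
  obtain ⟨n, hn⟩ : ∃ n : ℕ, (n : ℤ) ≡ j [ZMOD (Nat.card G : ℤ)] := by
    refine ⟨(j % (Nat.card G : ℤ)).toNat, ?_⟩
    have hne : (Nat.card G : ℤ) ≠ 0 := by exact_mod_cast Nat.card_pos.ne'
    rw [Int.toNat_of_nonneg (Int.emod_nonneg _ hne)]
    exact Int.mod_modEq _ _
  have h1 : ∀ g : G, g ^ j = g ^ (n : ℤ) := by
    intro g
    rw [zpow_eq_zpow_iff_modEq]
    exact (hn.symm).of_dvd (by exact_mod_cast _root_.orderOf_dvd_natCard g)
  rw [h1 x, zpow_natCast, pck_nat hp2 hG hmc x y n k, zpow_mul, h1, ← zpow_mul]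
  norm_cast

end Cfsg.Agent.H3.Meta
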