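import Cfsg.Agent.H3.Meta

set_option autoImplicit false
set_option linter.unusedSectionVars false
set_option linter.unusedSimpArgs false
set_option linter.unusedVariables false
open Cfsg
open scoped commutatorElement
open Subgroup

namespace Cfsg.Agent.H3.Meta

universe u
variable {G : Type u} [Group G]

theorem sw (x y : G) (k : ℤ) : ⁅x, y⁆ ^ k = 1 ↔ ⁅y, x⁆ ^ k = 1 := by
  rw [← commutatorElement_inv x y, inv_zpow, inv_eq_one]

/-- `E k`: elements whose commutators have order dividing `p^k` -/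
def E (hmc : IsMetacyclic G) (q : ℕ) : Subgroup G where
  carrier := {g | ∀ y : G, ⁅g, y⁆ ^ q = 1}
  one_mem' := by intro y; simp
  mul_mem' := by
    intro g h hg hh y
    have e : ⁅g * h, y⁆ = (g * ⁅h, y⁆ * g⁻¹) * ⁅g, y⁆ := by
      rw [commutatorElement_def, commutatorElement_def, commutatorElement_def]; group
    have hn : (commutator G).Normal := inferInstance
    have hc : Commute (g * ⁅h, y⁆ * g⁻¹) ⁅g, y⁆ := derived_comm hmc
      (hn.conj_mem _ (commutator_mem_commutator (mem_top _) (mem_top _)) g) (commutator_mem_commutator (mem_top _) (mem_top _))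
    rw [e, hc.mul_pow, hg y, conj_pow, hh y]; group
  inv_mem' := by
    intro g hg y
    have e : ⁅g⁻¹, y⁆ = g⁻¹ * ⁅g, y⁆⁻¹ * g⁻¹⁻¹ := by
      rw [commutatorElement_def, commutatorElement_def]; group
    rw [e, conj_pow, inv_pow, hg y]; group

theorem mem_E (hmc : IsMetacyclic G) (q : ℕ) (g : G) : g ∈ E hmc q ↔ ∀ y : G, ⁅g, y⁆ ^ q = 1 := Iff.rfl

instance E_normal (hmc : IsMetacyclic G) (q : ℕ) : (E hmc q).Normal := by
  refine ⟨fun g hg z y => ?_⟩
  have e : ⁅z * g * z⁻¹, y⁆ = z * ⁅g, z⁻¹ * y * z⁆ * z⁻¹ := by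
    rw [commutatorElement_def, commutatorElement_def]; group
  rw [e, conj_pow, hg]; group

theorem E_one (hmc : IsMetacyclic G) : E hmc 1 = center G := by
  ext g
  rw [mem_E, mem_center_iff]
  refine forall_congr' fun y => ?_
  rw [pow_one, commutatorElement_eq_one_iff_mul_comm]
  exact eq_comm

variable [Finite G] {p : ℕ} [hp : Fact p.Prime]

theorem pck' (hp2 : p ≠ 2) (hG : IsPGroup p G) (hmc : IsMetacyclic G) (x y : G) (j : ℤ) (k : ℕ) :
    ⁅x, y ^ j⁆ ^ k = 1 ↔ ⁅x, y⁆ ^ (j * k) = 1 := by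
  rw [← zpow_natCast, sw, zpow_natCast, pck hp2 hG hmc, sw]

theorem pow_mem_E (hp2 : p ≠ 2) (hG : IsPGroup p G) (hmc : IsMetacyclic G) (x : G) (j q : ℕ) :
    x ^ j ∈ E hmc q ↔ x ∈ E hmc (j * q) := by
  rw [mem_E, mem_E]
  refine forall_congr' fun y => ?_
  exact pck_nat hp2 hG hmc x y j q

theorem mem_E_gens (hp2 : p ≠ 2) (hG : IsPGroup p G) (hmc : IsMetacyclic G) {a b : G}
    (hg : ∀ g : G, ∃ i j : ℤ, g = b ^ i * a ^ j) (q : ℕ) (x : G) (h1 : ⁅x, a⁆ ^ q = 1) (h2 : ⁅x, b⁆ ^ q = 1) :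
    x ∈ E hmc q := by
  rw [mem_E]
  intro y
  obtain ⟨i, j, rfl⟩ := hg y
  have e : ⁅x, b ^ i * a ^ j⁆ = ⁅x, b ^ i⁆ * (b ^ i * ⁅x, a ^ j⁆ * (b ^ i)⁻¹) := by
    rw [commutatorElement_def, commutatorElement_def, commutatorElement_def]; group
  have hn : (commutator G).Normal := inferInstance
  have hc : Commute ⁅x, b ^ i⁆ (b ^ i * ⁅x, a ^ j⁆ * (b ^ i)⁻¹) := derived_comm hmc
    (commutator_mem_commutator (mem_top _) (mem_top _)) (hn.conj_mem _ (commutator_mem_commutator (mem_top _) (mem_top _)) _)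
  have h3 : ⁅x, b ^ i⁆ ^ q = 1 := by
    rw [pck' hp2 hG hmc, mul_comm, zpow_mul, zpow_natCast, h2, one_zpow]
  have h4 : ⁅x, a ^ j⁆ ^ q = 1 := by
    rw [pck' hp2 hG hmc, mul_comm, zpow_mul, zpow_natCast, h1, one_zpow]
  rw [e, hc.mul_pow, h3, conj_pow, h4]; group

theorem mem_E_iff (hp2 : p ≠ 2) (hG : IsPGroup p G) (hmc : IsMetacyclic G) {a b : G}
    (ha : (zpowers a).Normal) (hg : ∀ g : G, ∃ i j : ℤ, g = b ^ i * a ^ j) {n k : ℕ}
    (hn : Nat.card ↥(commutator G) = p ^ n) (hk : k ≤ n) (i j : ℤ) :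
    b ^ i * a ^ j ∈ E hmc (p ^ k) ↔ ((p ^ (n - k) : ℕ) : ℤ) ∣ i ∧ ((p ^ (n - k) : ℕ) : ℤ) ∣ j := by
  have hord : orderOf ⁅b, a⁆ = p ^ n := by
    rw [← Nat.card_zpowers, ← derived_eq ha hg, hn]
  have hdvd : ∀ i : ℤ, ⁅b, a⁆ ^ (i * (p ^ k : ℕ)) = 1 ↔ ((p ^ (n - k) : ℕ) : ℤ) ∣ i := by
    intro i
    rw [← orderOf_dvd_iff_zpow_eq_one, hord]
    have e : p ^ n = p ^ (n - k) * p ^ k := by rw [← pow_add]; congr 1; omega
    rw [e, Nat.cast_mul]
    exact mul_dvd_mul_iff_right (by exact_mod_cast (pow_pos hp.out.pos k).ne')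
  have hb : ((p ^ (n - k) : ℕ) : ℤ) ∣ i → b ^ i ∈ E hmc (p ^ k) := by
    intro h
    apply mem_E_gens hp2 hG hmc hg
    · rw [pck hp2 hG hmc]; exact (hdvd i).2 h
    · rw [pck hp2 hG hmc]; simp
  have haj : a ^ j ∈ E hmc (p ^ k) ↔ ((p ^ (n - k) : ℕ) : ℤ) ∣ j := by
    constructor
    · intro h
      have := h b
      rw [pck hp2 hG hmc, sw, hdvd] at this
      exact this
    · intro h
      apply mem_E_gens hp2 hG hmc hg
      · rw [pck hp2 hG hmc]; simp
      · rw [pck hp2 hG hmc, sw, hdvd]; exact h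
  constructor
  · intro h
    have h1 := h a
    have e : ⁅b ^ i * a ^ j, a⁆ = ⁅b ^ i, a⁆ := by
      rw [commutatorElement_def, commutatorElement_def]; group
    rw [e, pck hp2 hG hmc, hdvd] at h1
    refine ⟨h1, haj.1 ?_⟩
    have := mul_mem (inv_mem (hb h1)) h
    simpa using this
  · rintro ⟨h1, h2⟩
    exact mul_mem (hb h1) (haj.2 h2)

theorem index_E (hp2 : p ≠ 2) (hG : IsPGroup p G) (hmc : IsMetacyclic G) {n k : ℕ}
    (hn : Nat.card ↥(commutator G) = p ^ n) (hk : k ≤ n) : (E hmc (p ^ k)).index = (p ^ (n - k)) ^ 2 := by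
  obtain ⟨a, b, ha, hg, -⟩ := gens hmc
  set q := p ^ (n - k) with hq
  have hq0 : 0 < q := pow_pos hp.out.pos _
  have crit : ∀ i j i' j' : ℤ, (b ^ i * a ^ j)⁻¹ * (b ^ i' * a ^ j') ∈ E hmc (p ^ k) ↔ (q : ℤ) ∣ i' - i ∧ (q : ℤ) ∣ j' - j := by
    intro i j i' j'
    rw [← mem_E_iff hp2 hG hmc ha hg hn hk]
    have e : b ^ (i' - i) * a ^ (j' - j) = a ^ j * ((b ^ i * a ^ j)⁻¹ * (b ^ i' * a ^ j')) * (a ^ j)⁻¹ := by
      rw [sub_eq_neg_add i' i, zpow_add, zpow_sub, zpow_neg]; group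
    rw [e]
    constructor
    · intro h; exact (E_normal hmc _).conj_mem _ h _
    · intro h
      have := (E_normal hmc (p ^ k)).conj_mem _ h (a ^ j)⁻¹
      have e2 : (a ^ j)⁻¹ * (a ^ j * ((b ^ i * a ^ j)⁻¹ * (b ^ i' * a ^ j')) * (a ^ j)⁻¹) * (a ^ j)⁻¹⁻¹ = ((b ^ i * a ^ j)⁻¹ * (b ^ i' * a ^ j')) := by
        group
      rwa [e2] at this
  let f : Fin q × Fin q → G ⧸ E hmc (p ^ k) := fun t => ((b ^ ((t.1 : ℕ) : ℤ) * a ^ ((t.2 : ℕ) : ℤ) : G) : G ⧸ E hmc (p ^ k))
  have hf : Function.Bijective f := by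
    constructor
    · rintro ⟨i, j⟩ ⟨i', j'⟩ h
      have h1 : (b ^ ((i : ℕ) : ℤ) * a ^ ((j : ℕ) : ℤ))⁻¹ * (b ^ ((i' : ℕ) : ℤ) * a ^ ((j' : ℕ) : ℤ)) ∈ E hmc (p ^ k) := QuotientGroup.eq.1 h
      rw [crit] at h1
      obtain ⟨h2, h3⟩ := h1
      have h4 : (i : ℕ) = (i' : ℕ) := by
        have h5 : (i : ℕ) ≡ (i' : ℕ) [MOD q] := (Nat.modEq_iff_dvd).2 h2
        have := Nat.ModEq.eq_of_lt_of_lt h5 i.2 i'.2
        exact this
      have h4' : (j : ℕ) = (j' : ℕ) := by
        have h5 : (j : ℕ) ≡ (j' : ℕ) [MOD q] := (Nat.modEq_iff_dvd).2 h3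
        exact Nat.ModEq.eq_of_lt_of_lt h5 j.2 j'.2
      exact Prod.ext (Fin.ext h4) (Fin.ext h4')
    · intro x
      obtain ⟨g, rfl⟩ := QuotientGroup.mk_surjective x
      obtain ⟨i, j, rfl⟩ := hg g
      have hqz : (0 : ℤ) < q := by exact_mod_cast hq0
      refine ⟨(⟨(i % q).toNat, ?_⟩, ⟨(j % q).toNat, ?_⟩), ?_⟩
      · have := Int.emod_lt_of_pos i hqz
        have := Int.emod_nonneg i hqz.ne'
        omega
      · have := Int.emod_lt_of_pos j hqz
        have := Int.emod_nonneg j hqz.ne'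
        omega
      · apply QuotientGroup.eq.2
        rw [crit]
        simp only
        rw [Int.toNat_of_nonneg (Int.emod_nonneg i hqz.ne'), Int.toNat_of_nonneg (Int.emod_nonneg j hqz.ne')]
        exact ⟨Int.dvd_self_sub_emod, Int.dvd_self_sub_emod⟩
  rw [index_eq_card, ← Nat.card_congr (Equiv.ofBijective f hf)]
  simp [sq]

/-- `|G : Z(G)| = |G'|²` -/
theorem index_center (hp2 : p ≠ 2) (hG : IsPGroup p G) (hmc : IsMetacyclic G) :
    (center G).index = Nat.card ↥(commutator G) ^ 2 := by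
  obtain ⟨n, hn⟩ := (hG.to_subgroup (commutator G)).exists_card_eq
  have := index_E hp2 hG hmc hn (Nat.zero_le n)
  rw [pow_zero, E_one, Nat.sub_zero] at this
  rw [this, hn]

/-! ### steps of index `p` -/

theorem relIndex_card {R S : Subgroup G} (h : R ≤ S) : R.relIndex S * Nat.card ↥R = Nat.card ↥S := by
  have := (R.subgroupOf S).index_mul_card
  rw [Nat.card_congr (Subgroup.subgroupOfEquivOfLe h).toEquiv] at this
  exact this

theorem relIndex_pos {R S : Subgroup G} (h : R ≤ S) : 0 < R.relIndex S := by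
  have h1 := relIndex_card h
  have h2 := Nat.card_pos (α := ↥S)
  rcases Nat.eq_zero_or_pos (R.relIndex S) with h3 | h3
  · rw [h3, zero_mul] at h1; omega
  · exact h3

theorem step (hG : IsPGroup p G) {R S : Subgroup G} (h : R < S) :
    ∃ R1 : Subgroup G, R1 ≤ S ∧ R ≤ R1 ∧ Nat.card ↥R1 = p * Nat.card ↥R := by
  obtain ⟨n, hn⟩ := (hG.to_subgroup R).exists_card_eq
  obtain ⟨m, hm⟩ := (hG.to_subgroup S).exists_card_eq
  have hlt : Nat.card ↥R < Nat.card ↥S := by
    by_contra hcon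
    exact h.ne (Subgroup.eq_of_le_of_card_ge h.le (not_lt.1 hcon))
  rw [hn, hm] at hlt
  have hnm : n < m := (Nat.pow_lt_pow_iff_right hp.out.one_lt).1 hlt
  have h1 : Nat.card ↥(R.subgroupOf S) = p ^ n := by
    rw [Nat.card_congr (Subgroup.subgroupOfEquivOfLe h.le).toEquiv, hn]
  obtain ⟨K, hK, hle⟩ := Sylow.exists_subgroup_card_pow_succ (G := ↥S) (p := p) (n := n)
    (by rw [hm]; exact pow_dvd_pow p hnm) h1
  refine ⟨K.map S.subtype, Subgroup.map_subtype_le K, ?_, ?_⟩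
  · have := Subgroup.map_mono (f := S.subtype) hle
    rwa [Subgroup.subgroupOf_map_subtype, inf_eq_left.2 h.le] at this
  · rw [Subgroup.card_map_of_injective S.subtype_injective, hK, hn, pow_succ, mul_comm]

theorem step2 (hG : IsPGroup p G) {R R1 : Subgroup G} (hle : R ≤ R1) (hc : Nat.card ↥R1 = p * Nat.card ↥R) :
    ∃ x ∈ R1, x ∉ R ∧ x ^ p ∈ R ∧ R1 = R ⊔ zpowers x := by
  have hri : R.relIndex R1 = p := by
    have h1 := relIndex_card hle
    rw [hc] at h1
    exact Nat.eq_of_mul_eq_mul_right Nat.card_pos h1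
  have hidx : (R.subgroupOf R1).index = p := hri
  have hn : (R.subgroupOf R1).Normal := by
    obtain ⟨m, hm⟩ := (hG.to_subgroup R1).exists_card_eq
    apply Subgroup.normal_of_index_eq_minFac_card
    have hm0 : m ≠ 0 := by
      rintro rfl
      rw [pow_zero] at hm
      rw [hm] at hc
      have := hp.out.two_le
      have := Nat.card_pos (α := ↥R)
      nlinarith
    rw [hidx, hm, hp.out.pow_minFac hm0]
  obtain ⟨x, hx1, hx2⟩ : ∃ x ∈ R1, x ∉ R := by
    by_contra hcon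
    push_neg at hcon
    have : R1 = R := le_antisymm hcon hle
    rw [this, Subgroup.relIndex_self] at hri
    exact hp.out.one_lt.ne hri
  refine ⟨x, hx1, hx2, ?_, ?_⟩
  · have := Subgroup.pow_index_mem (R.subgroupOf R1) (⟨x, hx1⟩ : ↥R1)
    rw [hidx] at this
    exact this
  · have hle2 : R ⊔ zpowers x ≤ R1 := sup_le hle (by rw [zpowers_le]; exact hx1)
    have h3 : R.relIndex (R ⊔ zpowers x) * (R ⊔ zpowers x).relIndex R1 = p := by
      rw [Subgroup.relIndex_mul_relIndex _ _ _ le_sup_left hle2, hri]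
    rcases (Nat.dvd_prime hp.out).1 (Dvd.intro _ h3) with h4 | h4
    · exfalso
      rw [Subgroup.relIndex_eq_one] at h4
      exact hx2 (h4 (mem_sup_right (mem_zpowers x)))
    · rw [h4] at h3
      have h5 : (R ⊔ zpowers x).relIndex R1 = 1 := by
        have := hp.out.pos
        exact Nat.eq_of_mul_eq_mul_left this (by rw [h3, mul_one])
      rw [Subgroup.relIndex_eq_one] at h5
      exact le_antisymm h5 hle2

theorem cent_step (hp2 : p ≠ 2) (hG : IsPGroup p G) (hmc : IsMetacyclic G) {R : Subgroup G} {x : G} (hx : x ^ p ∈ R) :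
    Nat.card ↥(centralizer (R : Set G)) ≤ p * Nat.card ↥(centralizer ((R ⊔ zpowers x : Subgroup G) : Set G)) := by
  set C0 := centralizer (R : Set G) with hC0
  set C1 := centralizer ((R ⊔ zpowers x : Subgroup G) : Set G) with hC1
  have hle : C1 ≤ C0 := Subgroup.centralizer_le (SetLike.coe_subset_coe.2 le_sup_left)
  have hcard := relIndex_card hle
  rw [← hcard]
  apply Nat.mul_le_mul_right
  have hcyc := derived_cyclic hmc
  -- the target
  let T := {d : ↥(commutator G) // d ^ p = 1}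
  have hT : Nat.card T ≤ p := by
    classical
    haveI : Fintype ↥(commutator G) := Fintype.ofFinite _
    have := IsCyclic.card_pow_eq_one_le (α := ↥(commutator G)) hp.out.pos
    rw [Nat.card_eq_fintype_card, Fintype.card_subtype]
    exact this
  refine le_trans ?_ hT
  rw [Subgroup.relIndex, index_eq_card]
  have hmemC1 : ∀ y : G, y ∈ C0 → x * y = y * x → y ∈ C1 := by
    intro y hy hxy
    have h1 : (R ⊔ zpowers x) ≤ centralizer ({y} : Set G) := by
      rw [sup_le_iff, zpowers_le]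
      constructor
      · intro r hr
        rw [mem_centralizer_singleton_iff]
        exact (mem_centralizer_iff.1 hy r hr)
      · rw [mem_centralizer_singleton_iff]
        exact hxy
    rw [hC1, mem_centralizer_iff]
    intro r hr
    exact (mem_centralizer_singleton_iff.1 (h1 hr))
  refine Nat.card_le_card_of_injective (fun q : ↥C0 ⧸ (C1.subgroupOf C0) =>
    (⟨⟨⁅x, ((q.out : ↥C0) : G)⁆, comm_mem _ _⟩, ?_⟩ : T)) ?_
  · apply Subtype.ext
    show ⁅x, ((q.out : ↥C0) : G)⁆ ^ p = 1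
    have h1 := (pck_nat hp2 hG hmc x ((q.out : ↥C0) : G) p 1)
    rw [mul_one, pow_one] at h1
    apply h1.1
    rw [commutatorElement_eq_one_iff_mul_comm]
    exact (mem_centralizer_iff.1 (q.out : ↥C0).2 _ hx)
  · intro q q' h
    have h1 : ⁅x, ((q.out : ↥C0) : G)⁆ = ⁅x, ((q'.out : ↥C0) : G)⁆ := congrArg (fun z : T => ((z : ↥(commutator G)) : G)) h
    rw [← QuotientGroup.out_eq' q, ← QuotientGroup.out_eq' q']
    apply QuotientGroup.eq.2
    rw [mem_subgroupOf]
    apply hmemC1 _ (SetLike.coe_mem _)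
    set y := ((q.out : ↥C0) : G) with hy
    set y' := ((q'.out : ↥C0) : G) with hy'
    show x * (y⁻¹ * y') = (y⁻¹ * y') * x
    rw [commutatorElement_def, commutatorElement_def] at h1
    -- x y x⁻¹ y⁻¹ = x y' x⁻¹ y'⁻¹
    have h2 : y * x⁻¹ * y⁻¹ = y' * x⁻¹ * y'⁻¹ := by
      have : x * (y * x⁻¹ * y⁻¹) = x * (y' * x⁻¹ * y'⁻¹) := by
        rw [← mul_assoc, ← mul_assoc, ← mul_assoc, ← mul_assoc, h1]
      exact mul_left_cancel this
    have h3 : y * x * y⁻¹ = y' * x * y'⁻¹ := by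
      have := congrArg (fun z : G => z⁻¹) h2
      simpa [mul_assoc] using this
    calc x * (y⁻¹ * y') = y⁻¹ * (y * x * y⁻¹) * y' := by group
      _ = y⁻¹ * (y' * x * y'⁻¹) * y' := by rw [h3]
      _ = (y⁻¹ * y') * x := by group

theorem cent_le (hp2 : p ≠ 2) (hG : IsPGroup p G) (hmc : IsMetacyclic G) : ∀ (m : ℕ) (R S : Subgroup G), R ≤ S →
    R.relIndex S ≤ m → Nat.card ↥(centralizer (R : Set G)) * Nat.card ↥R ≤ Nat.card ↥S * Nat.card ↥(centralizer (S : Set G)) := by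
  intro m
  induction m with
  | zero =>
    intro R S h1 h2
    exact absurd (Nat.le_zero.1 h2) (relIndex_pos h1).ne'
  | succ m ih =>
    intro R S hRS hm
    rcases hRS.eq_or_lt with rfl | hlt
    · rw [mul_comm]
    · obtain ⟨R1, h1, h2, h3⟩ := step hG hlt
      obtain ⟨x, hx1, hx2, hx3, hx4⟩ := step2 hG h2 h3
      have h4 : R1.relIndex S ≤ m := by
        have h5 := Subgroup.relIndex_mul_relIndex R R1 S h2 h1
        have h6 : R.relIndex R1 = p := by
          have h1 := relIndex_card h2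
          rw [h3] at h1
          exact Nat.eq_of_mul_eq_mul_right Nat.card_pos h1
        have h7 : 0 < R1.relIndex S := relIndex_pos h1
        rw [h6] at h5
        have := hp.out.two_le
        nlinarith
      have h5 := ih R1 S h1 h4
      have h6 := cent_step hp2 hG hmc hx3
      rw [← hx4] at h6
      calc Nat.card ↥(centralizer (R : Set G)) * Nat.card ↥R ≤ (p * Nat.card ↥(centralizer (R1 : Set G))) * Nat.card ↥R := Nat.mul_le_mul_right _ h6
        _ = Nat.card ↥(centralizer (R1 : Set G)) * Nat.card ↥R1 := by rw [h3]; ring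
        _ ≤ _ := h5

/-- duality -/
theorem duality (hp2 : p ≠ 2) (hG : IsPGroup p G) (hmc : IsMetacyclic G) {R : Subgroup G} (hZ : center G ≤ R) :
    Nat.card ↥R * Nat.card ↥(centralizer (R : Set G)) = Nat.card G * Nat.card ↥(center G) := by
  have h1 := cent_le hp2 hG hmc _ R ⊤ le_top le_rfl
  have h2 := cent_le hp2 hG hmc _ (center G) R hZ le_rfl
  rw [Subgroup.card_top, coe_top, centralizer_univ] at h1
  have h3 : centralizer ((center G : Subgroup G) : Set G) = ⊤ := by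
    rw [eq_top_iff]
    intro g _
    rw [mem_centralizer_iff]
    intro h hh
    exact (mem_center_iff.1 hh g).symm
  rw [h3, Subgroup.card_top] at h2
  apply le_antisymm
  · rw [mul_comm]; exact h1
  · exact h2

end Cfsg.Agent.H3.Meta
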