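import Mathlib
import Cfsg.Agent.L0.Core
import Cfsg.Agent.H1.Hall

set_option autoImplicit false

namespace Cfsg.Agent.H3

open Subgroup

/-- characteristic subgroups of a minimal normal subgroup are trivial or everything -/
theorem char_of_minimal {G : Type*} [Group G] (N : Subgroup G) [N.Normal]
    (hmin : ∀ L : Subgroup G, L.Normal → L ≤ N → L = ⊥ ∨ L = N) (K : Subgroup N) [K.Characteristic] :
    K = ⊥ ∨ K = ⊤ := by
  have h1 : (K.map N.subtype).Normal := inferInstance
  rcases hmin _ h1 (Subgroup.map_subtype_le K) with h | h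
  · left
    rwa [Subgroup.map_eq_bot_iff_of_injective _ N.subtype_injective] at h
  · right
    rw [eq_top_iff]
    intro x _
    have : (x : G) ∈ K.map N.subtype := by rw [h]; exact x.2
    obtain ⟨y, hy, hyx⟩ := this
    have : y = x := Subtype.ext hyx
    rwa [← this]

theorem pCore_eq_bot_of_minimal {G : Type*} [Group G] [Finite G] (N : Subgroup G) [N.Normal]
    (hmin : ∀ L : Subgroup G, L.Normal → L ≤ N → L = ⊥ ∨ L = N) (hab : ¬ IsMulCommutative N)
    (p : ℕ) [Fact p.Prime] : pCore p N = ⊥ := by
  rcases char_of_minimal N hmin (pCore p N) with h | h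
  · exact h
  · exfalso
    have hp : IsPGroup p N := by
      have := L0.pCore_isPGroup p N
      rw [h] at this
      exact this.of_equiv Subgroup.topEquiv
    apply hab
    by_cases hN : Nontrivial N
    swap
    · rw [not_nontrivial_iff_subsingleton] at hN
      exact ⟨⟨fun a b => Subsingleton.elim _ _⟩⟩
    haveI := hp.center_nontrivial
    rcases char_of_minimal N hmin (Subgroup.center N) with h2 | h2
    · exact absurd h2 (Subgroup.nontrivial_iff_ne_bot _ |>.mp inferInstance)
    · refine ⟨⟨fun a b => ?_⟩⟩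
      have hb : b ∈ Subgroup.center N := by rw [h2]; trivial
      exact Subgroup.mem_center_iff.mp hb a

/-- a normal `p`-subgroup of a nonabelian minimal normal subgroup is trivial -/
theorem pgroup_eq_bot_of_minimal {G : Type*} [Group G] [Finite G] (N : Subgroup G) [N.Normal]
    (hmin : ∀ L : Subgroup G, L.Normal → L ≤ N → L = ⊥ ∨ L = N) (hab : ¬ IsMulCommutative N)
    (p : ℕ) [Fact p.Prime] (T : Subgroup N) [T.Normal] (hT : IsPGroup p T) : T = ⊥ := by
  have := L0.le_pCore hT
  rw [pCore_eq_bot_of_minimal N hmin hab p] at this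
  exact le_bot_iff.mp this

/-- an abelian normal subgroup of a nonabelian minimal normal subgroup is trivial -/
theorem abelian_eq_bot_of_minimal {G : Type*} [Group G] [Finite G] (N : Subgroup G) [N.Normal]
    (hmin : ∀ L : Subgroup G, L.Normal → L ≤ N → L = ⊥ ∨ L = N) (hab : ¬ IsMulCommutative N)
    (T : Subgroup N) [hTn : T.Normal] (hT : ∀ x ∈ T, ∀ y ∈ T, x * y = y * x) : T = ⊥ := by
  by_contra hne
  have h1 : Nat.card T ≠ 1 := fun h => hne (Subgroup.card_eq_one.mp h)
  obtain ⟨r, hr, hrT⟩ := Nat.exists_prime_and_dvd h1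
  haveI : Fact r.Prime := ⟨hr⟩
  -- the r-torsion
  let K : Subgroup N :=
    { carrier := {x | x ∈ T ∧ x ^ r = 1}
      one_mem' := ⟨T.one_mem, one_pow r⟩
      mul_mem' := by
        rintro a b ⟨ha, ha1⟩ ⟨hb, hb1⟩
        refine ⟨mul_mem ha hb, ?_⟩
        have : Commute a b := hT a ha b hb
        rw [this.mul_pow, ha1, hb1, one_mul]
      inv_mem' := by
        rintro a ⟨ha, ha1⟩
        exact ⟨inv_mem ha, by rw [inv_pow, ha1, inv_one]⟩ }
  have hKn : K.Normal := by
    refine ⟨fun x hx g => ?_⟩
    refine ⟨hTn.conj_mem x hx.1 g, ?_⟩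
    rw [conj_pow, hx.2]; group
  have hKp : IsPGroup r K := fun x => ⟨1, by rw [pow_one]; exact Subtype.ext x.2.2⟩
  have hKb := pgroup_eq_bot_of_minimal N hmin hab r K hKp
  obtain ⟨x, hx⟩ := exists_prime_orderOf_dvd_card' r hrT
  have hxK : (x : N) ∈ K := by
    refine ⟨x.2, ?_⟩
    rw [← hx, ← Subgroup.orderOf_coe]
    exact pow_orderOf_eq_one _
  rw [hKb, Subgroup.mem_bot] at hxK
  have : orderOf x = 1 := by
    rw [orderOf_eq_one_iff]; exact Subtype.ext hxK
  rw [hx] at this
  exact hr.one_lt.ne' this

/-- A nonabelian minimal normal subgroup `N` of a finite group is simple or `N = T × C_N(T)` for a proper nontrivial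
minimal normal subgroup `T` of `N`. -/
theorem simple_or_split {G : Type*} [Group G] [Finite G] (N : Subgroup G) [hN : N.Normal] (hNb : N ≠ ⊥)
    (hmin : ∀ L : Subgroup G, L.Normal → L ≤ N → L = ⊥ ∨ L = N) (hab : ¬ IsMulCommutative N) :
    IsSimpleGroup N ∨ ∃ T : Subgroup N, T.Normal ∧ T ≠ ⊥ ∧ T ≠ ⊤ ∧
      T ⊓ Subgroup.centralizer (T : Set N) = ⊥ ∧ T ⊔ Subgroup.centralizer (T : Set N) = ⊤ ∧
      (∀ L : Subgroup N, L.Normal → L ≤ T → L = ⊥ ∨ L = T) := by
  haveI : Nontrivial N := (Subgroup.nontrivial_iff_ne_bot N).mpr hNb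
  obtain ⟨T, hTn, hTb, hTmin⟩ := H1.exists_minimal_normal (G := N)
  by_cases hTt : T = ⊤
  · left
    refine ⟨fun L hL => ?_⟩
    have := hTmin L hL (by rw [hTt]; exact le_top)
    rw [hTt] at this
    exact this
  right
  have hCn : (Subgroup.centralizer (T : Set N)).Normal := Subgroup.normal_centralizer
  refine ⟨T, hTn, hTb, hTt, ?_, ?_, hTmin⟩
  · have hinf : (T ⊓ Subgroup.centralizer (T : Set N)).Normal := Subgroup.normal_inf_normal _ _
    apply abelian_eq_bot_of_minimal N hmin hab
    intro x hx y hy
    exact (Subgroup.mem_centralizer_iff.mp hy.2 x hx.1)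
  · -- the conjugates of T
    set D : Subgroup N := T ⊔ Subgroup.centralizer (T : Set N) with hD
    have hconj : ∀ g : G, ∀ t ∈ T, MulAut.conjNormal g t ∈ D := by
      intro g
      let T' : Subgroup N := T.map (MulAut.conjNormal (H := N) g).toMonoidHom
      have hT'n : T'.Normal := hTn.map _ (MulAut.conjNormal (H := N) g).surjective
      have hT'c : Nat.card T' = Nat.card T := Subgroup.card_map_of_injective (MulAut.conjNormal (H := N) g).injective
      have hi : (T' ⊓ T).Normal := Subgroup.normal_inf_normal _ _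
      rcases hTmin (T' ⊓ T) hi inf_le_right with h | h
      · intro t ht
        apply Subgroup.mem_sup_right
        rw [Subgroup.mem_centralizer_iff]
        intro s hs
        have hs' : s ∈ T := hs
        have ht' : MulAut.conjNormal g t ∈ T' := Subgroup.mem_map_of_mem _ ht
        have hd : Disjoint T' T := disjoint_iff.mpr h
        exact (Subgroup.commute_of_normal_of_disjoint T' T hT'n hTn hd _ _ ht' hs').symm
      · have h2 : T ≤ T' := by rw [← h]; exact inf_le_left
        have h3 : T = T' := Subgroup.eq_of_le_of_card_ge h2 hT'c.le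
        intro t ht
        apply Subgroup.mem_sup_left
        rw [h3]
        exact Subgroup.mem_map_of_mem _ ht
    -- normal closure
    let J : Subgroup G := Subgroup.normalClosure ((T.map N.subtype : Subgroup G) : Set G)
    have hJn : J.Normal := Subgroup.normalClosure_normal
    have hJN : J ≤ D.map N.subtype := by
      show Subgroup.closure _ ≤ _
      rw [Subgroup.closure_le]
      intro y hy
      rw [Group.mem_conjugatesOfSet_iff] at hy
      obtain ⟨a, ha, hay⟩ := hy
      obtain ⟨t, ht, rfl⟩ := ha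
      obtain ⟨g, hg⟩ := isConj_iff.mp hay
      refine ⟨MulAut.conjNormal g t, hconj g t ht, ?_⟩
      rw [← hg]
      simp
    have hTJ : T.map N.subtype ≤ J := Subgroup.subset_normalClosure
    have hJb : J ≠ ⊥ := by
      intro h
      rw [h, le_bot_iff, Subgroup.map_eq_bot_iff_of_injective _ N.subtype_injective] at hTJ
      exact hTb hTJ
    rcases hmin J hJn (hJN.trans (Subgroup.map_subtype_le _)) with h | h
    · exact absurd h hJb
    · rw [eq_top_iff]
      intro x _
      have h1 : (x : G) ∈ J := by rw [h]; exact x.2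
      obtain ⟨y, hy, hyx⟩ := hJN h1
      have : y = x := Subtype.ext hyx
      rwa [← this]

end Cfsg.Agent.H3
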