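import Mathlib
import Cfsg.Prelude
import Cfsg.Agent.H1.Hall
import Cfsg.Agent.H6.NpA
import Cfsg.Agent.H2.ActStab

set_option autoImplicit false
set_option linter.all false
open Cfsg

namespace Cfsg.Agent.H3

open Subgroup commutatorElement Pointwise
open Cfsg.Agent.H1
universe u

theorem phall_aux {p : ℕ} [hpF : Fact p.Prime] (n : ℕ) : ∀ (G : Type u) [Group G] [Finite G], Nat.card G = n → IsPSolvable p G →
    ∀ a b : ℕ, Nat.card G = a * b → a.Coprime b → a.Coprime p → (∃ j, b = p ^ j) →
    (∃ H : Subgroup G, Nat.card H = a) ∧
    ∀ H K : Subgroup G, Nat.card H = a → (Nat.card K).Coprime b → ∃ g : G, K ≤ MulAut.conj g • H := by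
  induction n using Nat.strong_induction_on with
  | _ n ih =>
    intro G _ _ hn hsol a b hab hcop hap hbp
    have hp := hpF.out
    have ha0 : a ≠ 0 := by rintro rfl; simp at hab; exact absurd hab Nat.card_pos.ne'
    have hb0 : b ≠ 0 := by rintro rfl; simp at hab; exact absurd hab Nat.card_pos.ne'
    rcases subsingleton_or_nontrivial G with hG | hG
    · have h1 : Nat.card G = 1 := Nat.card_unique
      rw [h1] at hab
      have ha : a = 1 := Nat.eq_one_of_mul_eq_one_right hab.symm
      refine ⟨⟨⊥, by rw [ha]; exact Subgroup.card_bot⟩, fun H K hH hK => ⟨1, fun x _ => ?_⟩⟩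
      rw [Subsingleton.elim x 1]; exact Subgroup.one_mem _
    · have htop : (⊤ : Subgroup G) ≠ ⊥ := fun h => by
        have h1 : Nat.card (⊤ : Subgroup G) = 1 := by rw [h]; exact Subgroup.card_bot
        rw [Subgroup.card_top] at h1
        exact (Finite.one_lt_card (α := G)).ne' h1
      obtain ⟨N, hN, hNb, hNpp⟩ := H6.psolv_exists_normal hsol htop
      have hcard : Nat.card G = Nat.card N * Nat.card (G ⧸ N) := by
        rw [Subgroup.card_eq_card_quotient_mul_card_subgroup N, mul_comm]
      have hN1 : 1 < Nat.card N := by
        have := Nat.card_pos (α := N)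
        have h2 : Nat.card N ≠ 1 := fun h => hNb (Subgroup.card_eq_one.mp h)
        omega
      have hlt : Nat.card (G ⧸ N) < n := by
        rw [← hn, hcard]
        exact lt_mul_of_one_lt_left Nat.card_pos hN1
      have hsolq : IsPSolvable p (G ⧸ N) := H2.psolvable_surj hsol (QuotientGroup.mk' N) (QuotientGroup.mk'_surjective N)
      have hNab : Nat.card N ∣ a * b := by rw [← hab, hcard]; exact Dvd.intro _ rfl
      rcases hNpp.symm with hNp' | hNpg
      · -- |N| divides a
        have hNb' : (Nat.card N).Coprime b := by
          obtain ⟨j, rfl⟩ := hbp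
          exact hNp'.pow_right j
        have hNa : Nat.card N ∣ a := hNb'.dvd_of_dvd_mul_right hNab
        obtain ⟨a', ha'⟩ := hNa
        have hcq : Nat.card (G ⧸ N) = a' * b := by
          have : Nat.card N * Nat.card (G ⧸ N) = Nat.card N * (a' * b) := by
            rw [← hcard, hab, ha', mul_assoc]
          exact Nat.eq_of_mul_eq_mul_left Nat.card_pos this
        have hcop' : a'.Coprime b := Nat.Coprime.coprime_dvd_left (ha' ▸ Dvd.intro_left _ rfl) hcop
        obtain ⟨⟨Hbar, hHbar⟩, hD⟩ := ih _ hlt (G ⧸ N) rfl hsolq a' b hcq hcop' (Nat.Coprime.coprime_dvd_left (ha' ▸ Dvd.intro_left _ rfl) hap) hbp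
        refine ⟨⟨Hbar.comap (QuotientGroup.mk' N), ?_⟩, ?_⟩
        · rw [Cfsg.Agent.L0.card_comap_mk', hHbar, ha']
        · intro H K hH hK
          -- N ≤ H
          have hNH : N ≤ H := by
            have h1 : Nat.card ↥(N ⊔ H) ∣ Nat.card N * Nat.card H := Cfsg.Agent.L0.card_sup_dvd_of_normal_left N H
            have h2 : (Nat.card ↥(N ⊔ H)).Coprime b :=
              Nat.Coprime.coprime_dvd_left h1 (Nat.Coprime.mul_left hNb' (hH ▸ hcop))
            have h3 : Nat.card ↥(N ⊔ H) ∣ a := by
              apply h2.dvd_of_dvd_mul_right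
              rw [← hab]; exact Subgroup.card_subgroup_dvd_card _
            have h4 : H = N ⊔ H := by
              apply Subgroup.eq_of_le_of_card_ge le_sup_right
              rw [hH]; exact Nat.le_of_dvd (Nat.pos_of_ne_zero ha0) h3
            rw [h4]; exact le_sup_left
          have hHm : Nat.card (H.map (QuotientGroup.mk' N)) = a' := by
            have h5 := Subgroup.relIndex_ker H (QuotientGroup.mk' N)
            rw [QuotientGroup.ker_mk'] at h5
            have h6 := Subgroup.relIndex_mul_relIndex ⊥ N H bot_le hNH
            rw [Subgroup.relIndex_bot_left, Subgroup.relIndex_bot_left, h5, hH, ha'] at h6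
            exact Nat.eq_of_mul_eq_mul_left Nat.card_pos h6
          have hKm : (Nat.card (K.map (QuotientGroup.mk' N))).Coprime b :=
            Nat.Coprime.coprime_dvd_left (Subgroup.card_map_dvd K _) hK
          obtain ⟨gbar, hg⟩ := hD _ _ hHm hKm
          obtain ⟨g, rfl⟩ := QuotientGroup.mk'_surjective N gbar
          refine ⟨g, ?_⟩
          have h7 := le_conj_smul_of_map_le g hg
          have h8 : N ≤ MulAut.conj g • H := by
            intro x hx
            rw [mem_conj_smul]
            apply hNH
            have := hN.conj_mem x hx g⁻¹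
            simpa using this
          rwa [sup_eq_right.mpr h8] at h7
      · -- |N| divides b
        obtain ⟨k, hk⟩ := IsPGroup.iff_card.mp hNpg
        haveI hNnil : Group.IsNilpotent N := hNpg.isNilpotent
        have hNa' : (Nat.card N).Coprime a := by
          rw [hk]; exact Nat.Coprime.pow_left k hap.symm
        have hNbd : Nat.card N ∣ b := hNa'.dvd_of_dvd_mul_left hNab
        obtain ⟨b', hb'⟩ := hNbd
        have hcq : Nat.card (G ⧸ N) = a * b' := by
          have : Nat.card N * Nat.card (G ⧸ N) = Nat.card N * (a * b') := by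
            rw [← hcard, hab, hb']; ring
          exact Nat.eq_of_mul_eq_mul_left Nat.card_pos this
        have hcop' : a.Coprime b' := Nat.Coprime.coprime_dvd_right (hb' ▸ Dvd.intro_left _ rfl) hcop
        obtain ⟨⟨Hbar, hHbar⟩, hD⟩ := ih _ hlt (G ⧸ N) rfl hsolq a b' hcq hcop' hap (by
          obtain ⟨j, hj⟩ := hbp
          obtain ⟨i, -, hi⟩ := (Nat.dvd_prime_pow hp).1 (show b' ∣ p ^ j from hj ▸ hb' ▸ Dvd.intro_left _ rfl)
          exact ⟨i, hi⟩)
        refine ⟨?_, ?_⟩
        · -- existence
          set L := Hbar.comap (QuotientGroup.mk' N) with hL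
          have hLc : Nat.card L = Nat.card N * a := by rw [hL, Cfsg.Agent.L0.card_comap_mk', hHbar]
          have hNL : N ≤ L := by
            intro x hx
            rw [hL, Subgroup.mem_comap]
            have : (QuotientGroup.mk' N) x = 1 := by simpa using hx
            rw [this]; exact Subgroup.one_mem _
          have hc1 : Nat.card (N.subgroupOf L) = Nat.card N := Cfsg.Agent.L0.card_subgroupOf_of_le hNL
          have hidx : (N.subgroupOf L).index = a := by
            have := Subgroup.card_mul_index (N.subgroupOf L)
            rw [hc1, hLc] at this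
            exact Nat.eq_of_mul_eq_mul_left Nat.card_pos this
          obtain ⟨C, hC⟩ := Subgroup.exists_right_complement'_of_coprime (N := N.subgroupOf L) (by
            rw [hc1, hidx]; exact hNa')
          refine ⟨C.map L.subtype, ?_⟩
          rw [Cfsg.Agent.L0.card_map_subtype, ← hC.symm.index_eq_card, hidx]
        · intro H K hH hK
          have hdis : ∀ H : Subgroup G, (Nat.card H).Coprime b → N ⊓ H = ⊥ := fun H h =>
            Subgroup.inf_eq_bot_of_coprime (Nat.Coprime.coprime_dvd_left ⟨b', hb'⟩ h.symm)
          have hHm : Nat.card (H.map (QuotientGroup.mk' N)) = a := by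
            rw [← Cfsg.Agent.L0.relIndex_eq_card_map, Cfsg.Agent.L0.relIndex_eq_card_of_inf_eq_bot (hdis H (hH ▸ hcop)), hH]
          have hKm : (Nat.card (K.map (QuotientGroup.mk' N))).Coprime b' :=
            Nat.Coprime.coprime_dvd_left (Subgroup.card_map_dvd K _) (Nat.Coprime.coprime_dvd_right (hb' ▸ Dvd.intro_left _ rfl) hK)
          obtain ⟨gbar, hg⟩ := hD _ _ hHm hKm
          obtain ⟨g, rfl⟩ := QuotientGroup.mk'_surjective N gbar
          have h7 := le_conj_smul_of_map_le g hg
          set H' := MulAut.conj g • H with hH'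
          have hH'c : Nat.card H' = a := by rw [hH', Cfsg.Agent.L0.card_conj_smul, hH]
          -- A = (N ⊔ K) ⊓ H'
          set A := (N ⊔ K) ⊓ H' with hA
          have hAN : N ⊔ A = N ⊔ K := by
            apply le_antisymm
            · exact sup_le le_sup_left inf_le_left
            · apply sup_le le_sup_left
              intro x hx
              have h8 := h7 hx
              rw [Subgroup.mem_sup_of_normal_left] at h8
              obtain ⟨y, hy, z, hz, rfl⟩ := h8
              apply Subgroup.mul_mem _ (Subgroup.mem_sup_left hy)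
              apply Subgroup.mem_sup_right
              refine ⟨?_, hz⟩
              have h9 : z = y⁻¹ * (y * z) := by group
              rw [h9]
              exact Subgroup.mul_mem _ (Subgroup.inv_mem _ (Subgroup.mem_sup_left hy)) (Subgroup.mem_sup_right hx)
          have hAc : (Nat.card A).Coprime b := Nat.Coprime.coprime_dvd_left (Subgroup.card_dvd_of_le inf_le_right) (hH'c ▸ hcop)
          have hAK : Nat.card A = Nat.card K := by
            have e1 := card_sup_of_inf_bot_normal (hdis A hAc)
            have e2 := card_sup_of_inf_bot_normal (hdis K hK)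
            rw [hAN, e2] at e1
            exact Nat.eq_of_mul_eq_mul_left Nat.card_pos e1.symm
          obtain ⟨m, hm, hmA⟩ := Cfsg.Agent.L0.exists_conj_eq_of_le_sup (M := N) (A := A) (B := K)
            (by rw [Subgroup.normalizer_eq_top]; exact le_top)
            (Nat.Coprime.coprime_dvd_right ⟨b', hb'⟩ hAc) (Or.inr inferInstance)
            (by rw [hAN]; exact le_sup_right) hAK.symm
          refine ⟨m * g, ?_⟩
          rw [← hmA, map_mul, mul_smul, ← hH']
          exact Subgroup.pointwise_smul_le_pointwise_smul_iff.mpr inf_le_right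


end Cfsg.Agent.H3
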