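import Mathlib
import Cfsg.Agent.H3.LStar

set_option autoImplicit false

namespace Cfsg.Agent.H3

open Subgroup MulAction
open scoped Pointwise
universe u

theorem partB {G : Type u} [Group G] [Finite G] {Ω : Type*} [Finite Ω] [Nontrivial Ω] [MulAction G Ω] [FaithfulSMul G Ω]
    (hprim : IsPreprimitive G Ω) (ω : Ω)
    (hep : ∀ α : Ω, IsPreprimitive (stabilizer G ω) (orbit (stabilizer G ω) α))
    (T D : Subgroup G)
    (b1 : D ≤ stabilizer G ω) (b1' : ∀ h ∈ stabilizer G ω, ∀ x ∈ D, h * x * h⁻¹ ∈ D)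
    (b2 : ∀ x ∈ D, ∃ u ∈ T, ∀ s ∈ T, x * s * x⁻¹ = u * s * u⁻¹)
    (b3 : ∀ u ∈ T, ∃ x ∈ D, ∀ s ∈ T, x * s * x⁻¹ = u * s * u⁻¹)
    (b4 : ∀ s ∈ T, s • ω = ω → s = 1)
    (b5 : IsSimpleGroup T) (b5' : ¬ IsMulCommutative T)
    (b6 : ∀ h ∈ stabilizer G ω, (∀ s ∈ T, h * s * h⁻¹ ∈ T) ∨
      (∀ s ∈ T, ∀ s' ∈ T, s * (h * s' * h⁻¹) = (h * s' * h⁻¹) * s)) : False := by
  haveI := hprim
  haveI := b5
  set H := stabilizer G ω with hH
  -- centre of T
  have hcT : ∀ u ∈ T, (∀ s ∈ T, u * s = s * u) → u = 1 := by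
    intro u hu hc
    have h1 : (⟨u, hu⟩ : T) ∈ Subgroup.center T := by
      rw [Subgroup.mem_center_iff]
      intro g
      exact Subtype.ext (hc g g.2).symm
    rcases b5.eq_bot_or_eq_top_of_normal (Subgroup.center T) inferInstance with h | h
    · rw [h, Subgroup.mem_bot] at h1
      exact congrArg Subtype.val h1
    · exfalso
      apply b5'
      refine ⟨⟨fun a b => ?_⟩⟩
      have hb : b ∈ Subgroup.center T := by rw [h]; trivial
      exact Subgroup.mem_center_iff.mp hb a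
  have act : ∀ x ∈ H, ∀ s : G, x • s • ω = (x * s * x⁻¹) • ω := by
    intro x hx s
    have h1 : x⁻¹ • ω = ω := by
      have : x⁻¹ ∈ H := inv_mem hx
      exact this
    rw [mul_smul, mul_smul, h1]
  have uniq : ∀ s ∈ T, ∀ s' ∈ T, s • ω = s' • ω → s = s' := by
    intro s hs s' hs' h
    have h1 : (s⁻¹ * s') • ω = ω := by rw [mul_smul, ← h, inv_smul_smul]
    have := b4 _ (mul_mem (inv_mem hs) hs') h1
    have h2 : s' = s * (s⁻¹ * s') := by group
    rw [h2, this, mul_one]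
  -- the normal subgroup D of H
  let D' : Subgroup H := D.subgroupOf H
  haveI hD'n : D'.Normal := by
    refine ⟨fun x hx g => ?_⟩
    exact b1' g g.2 x hx
  -- a point t • ω is moved by D
  have moved : ∀ t ∈ T, t ≠ 1 → ∃ x : D', ((x : H) : G) • t • ω ≠ t • ω := by
    intro t ht ht1
    have : ∃ u ∈ T, u * t ≠ t * u := by
      by_contra hcon
      push Not at hcon
      exact ht1 (hcT t ht (fun s hs => (hcon s hs).symm))
    obtain ⟨u, hu, hut⟩ := this
    obtain ⟨x, hx, hxu⟩ := b3 u hu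
    refine ⟨⟨⟨x, b1 hx⟩, hx⟩, ?_⟩
    show x • t • ω ≠ t • ω
    rw [act x (b1 hx), hxu t ht]
    intro h
    apply hut
    have := uniq _ (mul_mem (mul_mem hu ht) (inv_mem hu)) _ ht h
    calc u * t = (u * t * u⁻¹) * u := by group
      _ = t * u := by rw [this]
  have B1 : ∀ t ∈ T, ∀ h ∈ H, ∃ u ∈ T, h • t • ω = (u * t * u⁻¹) • ω := by
    intro t ht h hh
    by_cases ht1 : t = 1
    · refine ⟨1, one_mem _, ?_⟩
      rw [ht1, act h hh]; simp
    haveI := hep (t • ω)
    have hfix : fixedPoints D' (orbit H (t • ω)) ≠ Set.univ := by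
      intro hfx
      obtain ⟨x, hx⟩ := moved t ht ht1
      apply hx
      have h1 : (⟨t • ω, mem_orbit_self _⟩ : orbit H (t • ω)) ∈ fixedPoints D' (orbit H (t • ω)) := by
        rw [hfx]; trivial
      exact congrArg Subtype.val (h1 x)
    have htr : IsPretransitive D' (orbit H (t • ω)) := IsQuasiPreprimitive.isPretransitive_of_normal hfix
    obtain ⟨x, hx⟩ := exists_smul_eq D' (⟨t • ω, mem_orbit_self _⟩ : orbit H (t • ω))
      ⟨h • t • ω, ⟨⟨h, hh⟩, rfl⟩⟩
    have hx' : ((x : H) : G) • t • ω = h • t • ω := congrArg Subtype.val hx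
    obtain ⟨u, hu, hxu⟩ := b2 _ x.2
    refine ⟨u, hu, ?_⟩
    have hxu' : ((x : H) : G) * t * ((x : H) : G)⁻¹ = u * t * u⁻¹ := hxu t ht
    rw [← hx', act _ (x : H).2, hxu']
  -- T is transitive
  have hTH : ¬ T ≤ H := by
    intro hle
    obtain ⟨s, hs⟩ := exists_ne (1 : T)
    apply hs
    exact Subtype.ext (b4 s s.2 (hle s.2))
  have B2 : ∀ β : Ω, ∃ s ∈ T, s • ω = β := by
    let Y : Set Ω := {β | ∃ s ∈ T, s • ω = β}
    have hHY : ∀ h ∈ H, ∀ β ∈ Y, h • β ∈ Y := by
      rintro h hh _ ⟨s, hs, rfl⟩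
      obtain ⟨u, hu, hsu⟩ := B1 s hs h hh
      exact ⟨u * s * u⁻¹, mul_mem (mul_mem hu hs) (inv_mem hu), hsu.symm⟩
    have hTY : ∀ h ∈ T, ∀ β ∈ Y, h • β ∈ Y := by
      rintro h hh _ ⟨s, hs, rfl⟩
      exact ⟨h * s, mul_mem hh hs, mul_smul _ _ _⟩
    have hstab : ∀ (L : Subgroup G), (∀ h ∈ L, ∀ β ∈ Y, h • β ∈ Y) → L ≤ stabilizer G Y := by
      intro L hL h hh
      rw [mem_stabilizer_iff]
      apply Set.Subset.antisymm
      · rintro _ ⟨β, hβ, rfl⟩
        exact hL h hh β hβ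
      · intro β hβ
        refine ⟨h⁻¹ • β, hL _ (inv_mem hh) β hβ, ?_⟩
        show h • h⁻¹ • β = β
        rw [smul_inv_smul]
    have hcoat : IsCoatom H := (isCoatom_stabilizer_iff_preprimitive G ω).mpr hprim
    have htop : stabilizer G Y = ⊤ := by
      apply hcoat.2
      refine lt_of_le_of_ne (hstab H hHY) ?_
      intro h
      apply hTH
      rw [h]
      exact hstab T hTY
    intro β
    obtain ⟨g, rfl⟩ := exists_smul_eq G ω β
    have hg : g ∈ stabilizer G Y := by rw [htop]; trivial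
    rw [mem_stabilizer_iff] at hg
    have : g • ω ∈ g • Y := Set.smul_mem_smul_set ⟨1, one_mem _, one_smul _ _⟩
    rw [hg] at this
    exact this
  -- the isomorphism
  choose u huT hu using fun x : D' => b2 ((x : H) : G) x.2
  have uu : ∀ (x : D') (v : G), v ∈ T → (∀ s ∈ T, ((x : H) : G) * s * ((x : H) : G)⁻¹ = v * s * v⁻¹) → u x = v := by
    intro x v hv h
    have h1 : v⁻¹ * u x = 1 := by
      apply hcT _ (mul_mem (inv_mem hv) (huT x))
      intro s hs
      have h2 : u x * s * (u x)⁻¹ = v * s * v⁻¹ := by rw [← hu x s hs, h s hs]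
      calc v⁻¹ * u x * s = v⁻¹ * (u x * s * (u x)⁻¹) * u x := by group
        _ = v⁻¹ * (v * s * v⁻¹) * u x := by rw [h2]
        _ = s * (v⁻¹ * u x) := by group
    calc u x = v * (v⁻¹ * u x) := by group
      _ = v := by rw [h1, mul_one]
  have umul : ∀ x y : D', u (x * y) = u x * u y := by
    intro x y
    apply uu _ _ (mul_mem (huT x) (huT y))
    intro s hs
    have e1 : (((x * y : D') : H) : G) = ((x : H) : G) * ((y : H) : G) := rfl
    rw [e1]
    calc ((x : H) : G) * ((y : H) : G) * s * (((x : H) : G) * ((y : H) : G))⁻¹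
        = ((x : H) : G) * (((y : H) : G) * s * ((y : H) : G)⁻¹) * ((x : H) : G)⁻¹ := by group
      _ = ((x : H) : G) * (u y * s * (u y)⁻¹) * ((x : H) : G)⁻¹ := by rw [hu y s hs]
      _ = u x * (u y * s * (u y)⁻¹) * (u x)⁻¹ := hu x _ (mul_mem (mul_mem (huT y) hs) (inv_mem (huT y)))
      _ = _ := by group
  let ρ : D' →* T := MonoidHom.mk' (fun x => ⟨u x, huT x⟩) (fun x y => Subtype.ext (umul x y))
  have ρinj : Function.Injective ρ := by
    rw [injective_iff_map_eq_one]
    intro x hx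
    have hux : u x = 1 := congrArg Subtype.val hx
    have hc : ∀ s ∈ T, ((x : H) : G) * s = s * ((x : H) : G) := by
      intro s hs
      have := hu x s hs
      rw [hux] at this
      have h2 : ((x : H) : G) * s = ((x : H) : G) * s * ((x : H) : G)⁻¹ * ((x : H) : G) := by group
      rw [h2, this]; group
    have : ((x : H) : G) = 1 := by
      apply eq_of_smul_eq_smul (α := Ω)
      intro β
      obtain ⟨s, hs, rfl⟩ := B2 β
      rw [one_smul, ← mul_smul, hc s hs, mul_smul]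
      have h3 : ((x : H) : G) • ω = ω := (x : H).2
      rw [h3]
    exact Subtype.ext (Subtype.ext this)
  have ρsurj : Function.Surjective ρ := by
    rintro ⟨v, hv⟩
    obtain ⟨x, hx, hxv⟩ := b3 v hv
    refine ⟨⟨⟨x, b1 hx⟩, hx⟩, ?_⟩
    exact Subtype.ext (uu _ _ hv hxv)
  let e : D' ≃* T := MulEquiv.ofBijective ρ ⟨ρinj, ρsurj⟩
  have hD's : IsSimpleGroup D' := (MulEquiv.isSimpleGroup_congr e).mpr b5
  have hD'c : ¬ IsMulCommutative D' := by
    intro hc
    apply b5'
    refine ⟨⟨fun a b => ?_⟩⟩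
    obtain ⟨x, rfl⟩ := ρsurj a
    obtain ⟨y, rfl⟩ := ρsurj b
    rw [← map_mul, ← map_mul, mul_comm' x y]
  have hu1 : ∀ x : D', x ≠ 1 → u x ≠ 1 := by
    intro x hx h
    apply hx
    apply ρinj
    rw [map_one]
    exact Subtype.ext h
  have upow : ∀ (x : D') (m : ℕ), u (x ^ m) = u x ^ m := by
    intro x m
    have := map_pow ρ x m
    exact congrArg Subtype.val this
  refine lstar D' hD's hD'c (fun x => stabilizer H (u x • ω)) ?_ ?_ ?_
  · -- coatom
    intro x hx
    show IsCoatom (stabilizer H (u x • ω))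
    haveI := hep (u x • ω)
    haveI : Nontrivial (orbit H (u x • ω)) := by
      obtain ⟨y, hy⟩ := moved (u x) (huT x) (hu1 x hx)
      refine ⟨⟨⟨u x • ω, mem_orbit_self _⟩, ⟨((y : H) : G) • u x • ω, ⟨(y : H), rfl⟩⟩, ?_⟩⟩
      intro h
      exact hy (congrArg Subtype.val h).symm
    have h1 := (isCoatom_stabilizer_iff_preprimitive H (⟨u x • ω, mem_orbit_self _⟩ : orbit H (u x • ω))).mpr (hep (u x • ω))
    have h2 : stabilizer H (⟨u x • ω, mem_orbit_self _⟩ : orbit H (u x • ω)) = stabilizer H (u x • ω) := by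
      ext h
      rw [mem_stabilizer_iff, mem_stabilizer_iff, Subtype.ext_iff]
      rfl
    rw [h2] at h1
    exact h1
  · intro x hx y
    show (y : H) ∈ stabilizer H (u x • ω) ↔ _
    rw [mem_stabilizer_iff]
    have h1 : (y : H) • u x • ω = (u y * u x * (u y)⁻¹) • ω := by
      show ((y : H) : G) • u x • ω = _
      rw [act _ (y : H).2, hu y _ (huT x)]
    rw [h1]
    have h2 : u (y * x * y⁻¹) = u y * u x * (u y)⁻¹ := by
      have : ρ (y * x * y⁻¹) = ρ y * ρ x * (ρ y)⁻¹ := by rw [map_mul, map_mul, map_inv]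
      exact congrArg Subtype.val this
    rw [← h2]
    constructor
    · intro h
      have h3 := uniq _ (huT _) _ (huT _) h
      have h4 : ρ (y * x * y⁻¹) = ρ x := Subtype.ext h3
      have h5 := ρinj h4
      calc y * x = (y * x * y⁻¹) * y := by group
        _ = x * y := by rw [h5]
    · intro h
      rw [h, mul_inv_cancel_right]
  · intro x m _ h hh
    show h ∈ stabilizer H (u (x ^ m) • ω)
    have hh' : (h : G) • u x • ω = u x • ω := hh
    rw [mem_stabilizer_iff]
    show (h : G) • u (x ^ m) • ω = u (x ^ m) • ω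
    rw [upow, act _ h.2]
    rw [act _ h.2] at hh'
    have h1 : (h : G) * u x ^ m * (h : G)⁻¹ = ((h : G) * u x * (h : G)⁻¹) ^ m := by rw [conj_pow]
    rw [h1]
    set s' := (h : G) * u x * (h : G)⁻¹ with hs'
    rcases b6 h h.2 with hb | hb
    · have := uniq _ (hb _ (huT x)) _ (huT x) hh'
      rw [← hs'] at this
      rw [this]
    · have hc : Commute (u x) s' := hb _ (huT x) _ (huT x)
      have h2 : ((u x)⁻¹ * s') • ω = ω := by rw [mul_smul, hh', inv_smul_smul]
      have h3 : ((u x)⁻¹ * s') ^ m ∈ H := pow_mem (show (u x)⁻¹ * s' ∈ H from h2) m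
      rw [hc.inv_left.mul_pow, inv_pow] at h3
      have h4 : ((u x ^ m)⁻¹ * s' ^ m) • ω = ω := h3
      rw [mul_smul, inv_smul_eq_iff] at h4
      exact h4

end Cfsg.Agent.H3
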