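import Mathlib
import Cfsg.Prelude
import Cfsg.Agent.L0.Coprime
import Cfsg.Agent.H1.Basic
import Cfsg.Agent.H3.Basic

set_option autoImplicit false
set_option linter.all false
open Cfsg
open Subgroup

namespace Cfsg.Agent.H3
universe u

theorem pi_split (π : Set ℕ) (n : ℕ) (hn : n ≠ 0) : ∃ a b : ℕ, n = a * b ∧ (∀ q : ℕ, q.Prime → q ∣ a → q ∈ π) ∧
    (∀ q : ℕ, q.Prime → q ∣ b → q ∉ π) := by
  classical
  induction n using Nat.strong_induction_on with
  | _ n ih =>
  by_cases h1 : n = 1
  · refine ⟨1, 1, by rw [h1], ?_, ?_⟩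
    · intro q hq hd; exact absurd (Nat.dvd_one.1 hd) hq.ne_one
    · intro q hq hd; exact absurd (Nat.dvd_one.1 hd) hq.ne_one
  · obtain ⟨p, hp, m, hm⟩ := Nat.exists_prime_and_dvd h1
    have hm0 : m ≠ 0 := by rintro rfl; rw [mul_zero] at hm; exact hn hm
    have hlt : m < n := by
      rw [hm]
      have := hp.two_le
      have : 0 < m := Nat.pos_of_ne_zero hm0
      nlinarith
    obtain ⟨a, b, hab, ha, hb⟩ := ih m hlt hm0
    by_cases hpπ : p ∈ π
    · refine ⟨p * a, b, by rw [hm, hab, mul_assoc], ?_, hb⟩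
      intro q hq hd
      rcases (hq.dvd_mul).1 hd with h | h
      · rw [(Nat.prime_dvd_prime_iff_eq hq hp).1 h]; exact hpπ
      · exact ha q hq h
    · refine ⟨a, p * b, by rw [hm, hab]; ring, ha, ?_⟩
      intro q hq hd
      rcases (hq.dvd_mul).1 hd with h | h
      · rw [(Nat.prime_dvd_prime_iff_eq hq hp).1 h]; exact hpπ
      · exact hb q hq h

theorem coprime_of_pi {π : Set ℕ} {a b : ℕ} (ha : ∀ q : ℕ, q.Prime → q ∣ a → q ∈ π) (hb : ∀ q : ℕ, q.Prime → q ∣ b → q ∉ π) :
    a.Coprime b := by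
  apply Nat.coprime_of_dvd
  intro q hq h1 h2
  exact hb q hq h2 (ha q hq h1)

theorem exists_pi_pow (π : Set ℕ) {G : Type*} [Group G] [Finite G] (x : G) :
    ∃ k : ℕ, (∀ q : ℕ, q.Prime → q ∣ orderOf (x ^ k) → q ∈ π) ∧
      ∀ {H : Type u} [Group H] (f : G →* H), (∀ q : ℕ, q.Prime → q ∣ orderOf (f x) → q ∈ π) → f (x ^ k) = f x := by
  obtain ⟨a, b, hab, ha, hb⟩ := pi_split π (orderOf x) (orderOf_pos x).ne'
  have hcop := coprime_of_pi ha hb
  obtain ⟨k, hk1, hk0⟩ := Nat.chineseRemainder hcop 1 0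
  have hbk : b ∣ k := (Nat.modEq_zero_iff_dvd).1 hk0
  refine ⟨k, ?_, ?_⟩
  · intro q hq hd
    apply ha q hq
    refine hd.trans (orderOf_dvd_of_pow_eq_one ?_)
    obtain ⟨m, hm⟩ := hbk
    rw [← pow_mul, hm]
    have : b * m * a = orderOf x * m := by rw [hab]; ring
    rw [this, pow_mul, pow_orderOf_eq_one, one_pow]
  · intro H _ f hf
    have h1 : orderOf (f x) ∣ a := by
      have h2 : orderOf (f x) ∣ a * b := hab ▸ orderOf_map_dvd f x
      exact (coprime_of_pi hf hb).dvd_of_dvd_mul_right h2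
    rw [map_pow]
    have h3 : k ≡ 1 [MOD orderOf (f x)] := hk1.of_dvd h1
    conv_rhs => rw [← pow_one (f x)]
    exact pow_eq_pow_iff_modEq.2 h3

theorem pi_closed_core (π : Set ℕ) (n : ℕ) : ∀ (G : Type u) [Group G] [Finite G], Nat.card G = n →
    (∀ N : Subgroup G, N.Normal → N ≠ ⊤ → ∃ M : Subgroup G, M.Normal ∧ N < M ∧
      ((∀ q : ℕ, q.Prime → q ∣ N.relIndex M → q ∈ π) ∨ (∀ q : ℕ, q.Prime → q ∣ N.relIndex M → q ∉ π))) →
    (∀ r : ℕ, r.Prime → r ∉ π → ∀ R : Subgroup G, IsPGroup r R → ∀ x ∈ normalizer (R : Set G),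
      (∀ q : ℕ, q.Prime → q ∣ orderOf x → q ∈ π) → x ∈ centralizer (R : Set G)) →
    ∃ K : Subgroup G, ∀ x : G, x ∈ K ↔ ∀ q : ℕ, q.Prime → q ∣ orderOf x → q ∈ π := by
  classical
  induction n using Nat.strong_induction_on with
  | _ n ih =>
  intro G _ _ hn hsep hB
  by_cases htb : (⊥ : Subgroup G) = ⊤
  · refine ⟨⊤, fun x => ⟨fun _ q hq hd => ?_, fun _ => trivial⟩⟩
    have : x ∈ (⊥ : Subgroup G) := by rw [htb]; trivial
    rw [mem_bot] at this
    rw [this, orderOf_one] at hd
    exact absurd (Nat.dvd_one.1 hd) hq.ne_one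
  obtain ⟨M, hM, hMlt, hMπ⟩ := hsep ⊥ inferInstance htb
  rw [Subgroup.relIndex_bot_left] at hMπ
  have hMb : M ≠ ⊥ := hMlt.ne'
  have hlt : Nat.card (G ⧸ M) < n := by
    rw [← hn, Subgroup.card_eq_card_quotient_mul_card_subgroup M]
    have h1 : 1 < Nat.card M := (Subgroup.one_lt_card_iff_ne_bot M).2 hMb
    have h2 : 0 < Nat.card (G ⧸ M) := Nat.card_pos
    nlinarith
  obtain ⟨Kb, hKb⟩ := ih _ hlt (G ⧸ M) rfl (by
    intro N hN hNt
    have h1 : N.comap (QuotientGroup.mk' M) ≠ ⊤ := by
      intro h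
      apply hNt
      rw [← Subgroup.map_comap_eq_self_of_surjective (QuotientGroup.mk'_surjective M) N, h,
        Subgroup.map_top_of_surjective _ (QuotientGroup.mk'_surjective M)]
    obtain ⟨L, hL, hNL, hLπ⟩ := hsep _ (hN.comap _) h1
    have hker : M ≤ N.comap (QuotientGroup.mk' M) := by
      intro x hx
      rw [mem_comap, (QuotientGroup.mk'_apply M x), (QuotientGroup.eq_one_iff x).2 hx]; exact one_mem _
    have e1 : (L.map (QuotientGroup.mk' M)).comap (QuotientGroup.mk' M) = L :=
      Subgroup.comap_map_eq_self (by rw [QuotientGroup.ker_mk']; exact hker.trans hNL.le)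
    have hrel : N.relIndex (L.map (QuotientGroup.mk' M)) = (N.comap (QuotientGroup.mk' M)).relIndex L := by
      have h3 := Subgroup.relIndex_comap N (QuotientGroup.mk' M) L
      exact h3.symm
    refine ⟨L.map (QuotientGroup.mk' M), hL.map _ (QuotientGroup.mk'_surjective M), ?_, ?_⟩
    · refine lt_of_le_of_ne ?_ ?_
      · rw [← Subgroup.map_comap_eq_self_of_surjective (QuotientGroup.mk'_surjective M) N]
        exact Subgroup.map_mono hNL.le
      · intro h
        apply hNL.ne
        rw [h, e1]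
    · rw [hrel]; exact hLπ) (by
    intro r hr hrπ R hR x hx hxπ
    haveI : Fact r.Prime := ⟨hr⟩
    set H := R.comap (QuotientGroup.mk' M) with hH
    have hMH : M ≤ H := by
      intro y hy
      rw [hH, mem_comap, (QuotientGroup.mk'_apply M y), (QuotientGroup.eq_one_iff y).2 hy]; exact one_mem _
    obtain ⟨y, rfl⟩ := QuotientGroup.mk'_surjective M x
    have hyH : ∀ z, z ∈ H → y * z * y⁻¹ ∈ H := by
      intro z hz
      rw [hH, mem_comap] at hz ⊢
      rw [map_mul, map_mul, map_inv]
      exact (mem_normalizer_iff.1 hx _).1 hz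
    -- Frattini
    obtain ⟨S⟩ : Nonempty (Sylow r H) := inferInstance
    set S' := (S : Subgroup H).map H.subtype with hS'
    have hS'H : S' ≤ H := map_subtype_le _
    have hyS : ∃ h ∈ H, ∀ z ∈ S', (h * y) * z * (h * y)⁻¹ ∈ S' := by
      -- the automorphism of H
      have hyN : y ∈ normalizer (H : Set G) := H1.mem_normalizer_of_conj_mem hyH
      let φ : H ≃* H := Subgroup.normalizerMonoidHom H ⟨y, hyN⟩
      have hφ : ∀ z : H, ((φ z : H) : G) = y * z * y⁻¹ := fun z => rfl
      have hT : IsPGroup r ((S : Subgroup H).map φ.toMonoidHom) := S.2.map _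
      obtain ⟨T, hT'⟩ := hT.exists_le_sylow
      obtain ⟨h, hh⟩ := MulAction.exists_smul_eq H T S
      refine ⟨h, h.2, ?_⟩
      rintro _ ⟨z, hz, rfl⟩
      have h1 : φ z ∈ (T : Subgroup H) := hT' ⟨z, hz, rfl⟩
      have h2 : h * φ z * h⁻¹ ∈ (S : Subgroup H) := by
        rw [← hh]
        rw [mem_smul_sylow_iff]
        have : h⁻¹ * (h * φ z * h⁻¹) * h = φ z := by group
        rw [this]; exact h1
      refine ⟨_, h2, ?_⟩
      show ((h * φ z * h⁻¹ : H) : G) = _
      rw [Subgroup.coe_mul, Subgroup.coe_mul, hφ]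
      simp only [InvMemClass.coe_inv, Subgroup.coe_subtype]
      group
    obtain ⟨h, hhH, hhS⟩ := hyS
    have hmap : S'.map (QuotientGroup.mk' M) = R := by
      apply le_antisymm
      · rintro _ ⟨z, hz, rfl⟩
        exact hS'H hz
      · -- index argument
        have h1 : (M.subgroupOf H) ⊔ (S : Subgroup H) = ⊤ := by
          rw [← Subgroup.index_eq_one]
          by_contra hne1
          obtain ⟨q, hq, hqd⟩ := Nat.exists_prime_and_dvd hne1
          have h2 : q ∣ (M.subgroupOf H).index := hqd.trans (Subgroup.index_dvd_of_le le_sup_left)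
          have h3 : (M.subgroupOf H).index = Nat.card R := by
            have h4 : M.relIndex H = Nat.card (H.map (QuotientGroup.mk' M)) := L0.relIndex_eq_card_map M H
            have h5 : H.map (QuotientGroup.mk' M) = R := Subgroup.map_comap_eq_self_of_surjective (QuotientGroup.mk'_surjective M) R
            rw [h5] at h4
            exact h4
          obtain ⟨j, hj⟩ := IsPGroup.iff_card.mp hR
          rw [h3, hj] at h2
          have h6 : q = r := (Nat.prime_dvd_prime_iff_eq hq hr).1 (hq.dvd_of_dvd_pow h2)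
          subst h6
          exact S.not_dvd_index (hqd.trans (Subgroup.index_dvd_of_le le_sup_right))
        intro z hz
        obtain ⟨w, rfl⟩ := QuotientGroup.mk'_surjective M z
        have hw : w ∈ H := hz
        have h2 : (⟨w, hw⟩ : H) ∈ (M.subgroupOf H) ⊔ (S : Subgroup H) := by rw [h1]; trivial
        rw [mem_sup_of_normal_left] at h2
        obtain ⟨m, hm, s, hs, hms⟩ := h2
        refine ⟨(s : G), ⟨s, hs, rfl⟩, ?_⟩
        have h3 : (m : G) * (s : G) = w := congrArg Subtype.val hms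
        rw [← h3, map_mul, (QuotientGroup.mk'_apply M (m : G)), (QuotientGroup.eq_one_iff (m : G)).2 hm, one_mul]
    -- write h * y = ..., mod R it acts as x times an element of R
    have hhR : QuotientGroup.mk' M h ∈ R := hhH
    rw [← hmap] at hhR
    obtain ⟨s, hs, hsh⟩ := hhR
    -- y1 = s⁻¹ h y normalizes S', and is congruent to y mod M
    set y1 := s⁻¹ * (h * y) with hy1
    have hy1S : y1 ∈ normalizer (S' : Set G) := by
      apply H1.mem_normalizer_of_conj_mem
      intro z hz
      have e : y1 * z * y1⁻¹ = s⁻¹ * ((h * y) * z * (h * y)⁻¹) * s := by rw [hy1]; group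
      rw [e]
      exact mul_mem (mul_mem (inv_mem hs) (hhS z hz)) hs
    have hy1q : QuotientGroup.mk' M y1 = QuotientGroup.mk' M y := by
      rw [hy1, map_mul, map_mul, map_inv, hsh]; group
    obtain ⟨k, hk1, hk2⟩ := exists_pi_pow.{u} π y1
    have h2 := hk2 (QuotientGroup.mk' M) (by rw [hy1q]; exact hxπ)
    have h3 : y1 ^ k ∈ centralizer (S' : Set G) :=
      hB r hr hrπ S' (S.2.map _) _ (pow_mem hy1S k) hk1
    rw [mem_centralizer_iff] at h3 ⊢
    intro z hz
    rw [SetLike.mem_coe, ← hmap] at hz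
    obtain ⟨w, hw, rfl⟩ := hz
    rw [← hy1q, ← h2, ← map_mul, ← map_mul, h3 w hw])
  have hpiK : ∀ q : ℕ, q.Prime → q ∣ Nat.card Kb → q ∈ π := by
    intro q hq hqd
    haveI : Fact q.Prime := ⟨hq⟩
    obtain ⟨z, hz⟩ := exists_prime_orderOf_dvd_card' (G := Kb) q hqd
    exact (hKb z).1 z.2 q hq (by rw [Subgroup.orderOf_coe, hz])
  rcases hMπ with hMπ | hMπ
  · refine ⟨Kb.comap (QuotientGroup.mk' M), fun x => ?_⟩
    rw [mem_comap, hKb]
    constructor
    · intro h q hq hqd
      have h1 : orderOf x ∣ orderOf (QuotientGroup.mk' M x) * Nat.card M := by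
        apply orderOf_dvd_of_pow_eq_one
        rw [pow_mul]
        have h2 : x ^ orderOf (QuotientGroup.mk' M x) ∈ M := by
          rw [← QuotientGroup.eq_one_iff, QuotientGroup.mk_pow]
          exact pow_orderOf_eq_one _
        have h3 : (⟨_, h2⟩ : M) ^ Nat.card M = 1 := pow_card_eq_one'
        exact congrArg Subtype.val h3
      rcases (hq.dvd_mul).1 (hqd.trans h1) with h2 | h2
      · exact h q hq h2
      · exact hMπ q hq h2
    · intro h q hq hqd
      exact h q hq (hqd.trans (orderOf_map_dvd _ x))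
  · -- M is a π'-group
    have hcent : ∀ x : G, (∀ q : ℕ, q.Prime → q ∣ orderOf x → q ∈ π) → ∀ m ∈ M, x * m = m * x := by
      intro x hx
      have hcop : (Nat.card (zpowers x)).Coprime (Nat.card M) := by
        rw [Nat.card_zpowers]; exact coprime_of_pi hx hMπ
      have hAM : zpowers x ≤ normalizer (M : Set G) := by rw [Subgroup.normalizer_eq_top]; exact le_top
      have key : ((centralizer ({x} : Set G)).subgroupOf M) = ⊤ := by
        apply H1.eq_top_of_forall_sylow_le
        intro r hr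
        obtain ⟨P, hPs, hAP⟩ := L0.exists_invariant_sylow (p := r) hAM hcop (Or.inl inferInstance)
        obtain ⟨Q, hQ⟩ := hPs
        refine ⟨Q, ?_⟩
        intro z hz
        rw [mem_subgroupOf, mem_centralizer_singleton_iff]
        have hzP : (z : G) ∈ P := by rw [← hQ]; exact ⟨z, hz, rfl⟩
        by_cases hrπ : r ∈ π
        · -- P trivial
          have h1 : (z : M) = 1 := by
            by_contra hne
            obtain ⟨j, hj⟩ := (IsPGroup.iff_orderOf.mp Q.2) ⟨z, hz⟩
            rw [Subgroup.orderOf_mk] at hj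
            rcases Nat.eq_zero_or_pos j with rfl | hj0
            · rw [pow_zero, orderOf_eq_one_iff] at hj; exact hne hj
            · have h2 : r ∣ Nat.card M := (dvd_pow_self r hj0.ne').trans (hj ▸ _root_.orderOf_dvd_natCard z)
              exact hMπ r hr.out h2 hrπ
          rw [h1]; simp
        · have hPp : IsPGroup r P := by rw [← hQ]; exact Q.2.map _
          have h1 := hB r hr.out hrπ P hPp x (hAP (mem_zpowers x)) hx
          rw [mem_centralizer_iff] at h1
          exact h1 _ hzP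
      intro m hm
      have h1 : (⟨m, hm⟩ : M) ∈ ((centralizer ({x} : Set G)).subgroupOf M) := by rw [key]; trivial
      rw [mem_subgroupOf, mem_centralizer_singleton_iff] at h1
      exact h1.symm
    set L := Kb.comap (QuotientGroup.mk' M) with hL
    have hML : M ≤ L := by
      intro y hy
      rw [hL, mem_comap, (QuotientGroup.mk'_apply M y), (QuotientGroup.eq_one_iff y).2 hy]; exact one_mem _
    have hLc : Nat.card L = Nat.card M * Nat.card Kb := by rw [hL, L0.card_comap_mk']
    have hc1 : Nat.card (M.subgroupOf L) = Nat.card M := L0.card_subgroupOf_of_le hML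
    have hidx : (M.subgroupOf L).index = Nat.card Kb := by
      have := Subgroup.card_mul_index (M.subgroupOf L)
      rw [hc1, hLc] at this
      exact Nat.eq_of_mul_eq_mul_left Nat.card_pos this
    obtain ⟨C, hC⟩ := Subgroup.exists_right_complement'_of_coprime (N := M.subgroupOf L) (by
      rw [hc1, hidx]; exact (coprime_of_pi hpiK hMπ).symm)
    have hCc : Nat.card C = Nat.card Kb := by rw [← hC.symm.index_eq_card, hidx]
    refine ⟨C.map L.subtype, fun x => ⟨?_, ?_⟩⟩
    · rintro ⟨c, hc, rfl⟩ q hq hqd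
      apply hpiK q hq
      rw [← hCc]
      have h1 : orderOf (c : G) = orderOf (⟨c, hc⟩ : C) := by
        rw [Subgroup.orderOf_mk, Subgroup.orderOf_coe]
      refine hqd.trans ?_
      show orderOf (c : G) ∣ _
      rw [h1]
      exact _root_.orderOf_dvd_natCard _
    · intro hx
      have hxL : x ∈ L := by
        rw [hL, mem_comap, hKb]
        intro q hq hqd
        exact hx q hq (hqd.trans (orderOf_map_dvd _ x))
      have h1 : (⟨x, hxL⟩ : L) ∈ (M.subgroupOf L) ⊔ C := by rw [hC.sup_eq_top]; trivial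
      rw [mem_sup_of_normal_left] at h1
      obtain ⟨m, hm, c, hc, hmc⟩ := h1
      have hmM : (m : G) ∈ M := hm
      have hmc' : (m : G) * (c : G) = x := congrArg Subtype.val hmc
      have hcπ : ∀ q : ℕ, q.Prime → q ∣ orderOf (c : G) → q ∈ π := by
        intro q hq hqd
        apply hpiK q hq
        rw [← hCc]
        have h1 : orderOf (c : G) = orderOf (⟨c, hc⟩ : C) := by
          rw [Subgroup.orderOf_mk, Subgroup.orderOf_coe]
        rw [h1] at hqd
        exact hqd.trans (_root_.orderOf_dvd_natCard _)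
      have hcomm : (c : G) * (m : G) = m * c := hcent _ hcπ _ hmM
      have hxc : Commute x (c : G)⁻¹ := by
        apply Commute.inv_right
        show x * c = c * x
        rw [← hmc']
        calc (m : G) * c * c = (c * m) * c := by rw [hcomm]
          _ = c * (m * c) := by group
      have hm1 : (m : G) = 1 := by
        rw [← orderOf_eq_one_iff]
        by_contra hne
        obtain ⟨q, hq, hqd⟩ := Nat.exists_prime_and_dvd hne
        have h2 : (m : G) = x * (c : G)⁻¹ := by rw [← hmc']; group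
        have h3 : q ∣ orderOf x * orderOf (c : G)⁻¹ := by
          rw [h2] at hqd
          exact hqd.trans hxc.orderOf_mul_dvd_mul_orderOf
        have h4 : q ∈ π := by
          rcases (hq.dvd_mul).1 h3 with h5 | h5
          · exact hx q hq h5
          · rw [orderOf_inv] at h5; exact hcπ q hq h5
        apply hMπ q hq _ h4
        have h5 : orderOf (m : G) = orderOf (⟨m, hmM⟩ : M) := by rw [Subgroup.orderOf_mk]
        rw [h5] at hqd
        exact hqd.trans (_root_.orderOf_dvd_natCard _)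
      refine ⟨c, hc, ?_⟩
      show (c : G) = x
      rw [← hmc', hm1, one_mul]

/-- from the index form of homogeneity to the element form -/
theorem hom_elt {G : Type u} [Group G] [Finite G] (π : Set ℕ)
    (hhom : ∀ H : Subgroup G, H ≠ ⊥ → (∀ p : ℕ, p.Prime → p ∣ Nat.card ↥H → p ∉ π) →
        ∀ p : ℕ, p.Prime → p ∣ (Subgroup.centralizer (H : Set G)).relIndex (Subgroup.normalizer (H : Set G)) → p ∉ π) :
    (∀ r : ℕ, r.Prime → r ∉ π → ∀ R : Subgroup G, IsPGroup r R → ∀ x ∈ normalizer (R : Set G),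
      (∀ q : ℕ, q.Prime → q ∣ orderOf x → q ∈ π) → x ∈ centralizer (R : Set G)) := by
  intro r hr hrπ R hR x hx hxπ
  haveI : Fact r.Prime := ⟨hr⟩
  by_cases hRb : R = ⊥
  · rw [hRb, mem_centralizer_iff]
    intro y hy
    rw [SetLike.mem_coe, mem_bot] at hy
    rw [hy]; simp
  have h1 := hhom R hRb (by
    intro p hp hd
    obtain ⟨j, hj⟩ := IsPGroup.iff_card.mp hR
    rw [hj] at hd
    rw [(Nat.prime_dvd_prime_iff_eq hp hr).1 (hp.dvd_of_dvd_pow hd)]
    exact hrπ)
  haveI hn : ((centralizer (R : Set G)).subgroupOf (normalizer (R : Set G))).Normal := by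
    constructor
    rintro ⟨c, hcN⟩ hc ⟨g, hg⟩
    rw [mem_subgroupOf] at hc ⊢
    rw [mem_centralizer_iff] at hc ⊢
    intro y hy
    show y * (g * c * g⁻¹) = g * c * g⁻¹ * y
    have h2 : g⁻¹ * y * g ∈ R := by
      have := (mem_normalizer_iff.1 (inv_mem hg) y).1 hy
      simpa using this
    have h3 : (g⁻¹ * y * g) * c = c * (g⁻¹ * y * g) := hc _ h2
    calc y * (g * c * g⁻¹) = g * ((g⁻¹ * y * g) * c) * g⁻¹ := by group
      _ = g * (c * (g⁻¹ * y * g)) * g⁻¹ := by rw [h3]
      _ = g * c * g⁻¹ * y := by group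
  have h2 : ((⟨x, hx⟩ : normalizer (R : Set G)) : normalizer (R : Set G) ⧸ (centralizer (R : Set G)).subgroupOf (normalizer (R : Set G))) = 1 := by
    rw [← orderOf_eq_one_iff]
    by_contra hne
    obtain ⟨q, hq, hqd⟩ := Nat.exists_prime_and_dvd hne
    have h3 : q ∈ π := by
      apply hxπ q hq
      have h4 := orderOf_map_dvd (QuotientGroup.mk' ((centralizer (R : Set G)).subgroupOf (normalizer (R : Set G)))) ⟨x, hx⟩
      rw [Subgroup.orderOf_mk] at h4
      exact hqd.trans h4
    apply h1 q hq _ h3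
    exact hqd.trans (_root_.orderOf_dvd_natCard _)
  rw [QuotientGroup.eq_one_iff, mem_subgroupOf] at h2
  exact h2

/-- one step of the separable chain -/
theorem sep_step {G : Type u} [Group G] [Finite G] (S : Set ℕ) (N A B : Subgroup G) (hN : N.Normal) (hA : A.Normal)
    (hBN : B ≤ N) (hBA : B ≤ A) (hAN : ¬ A ≤ N) (h : ∀ q : ℕ, q.Prime → q ∣ B.relIndex A → q ∈ S) :
    ∃ M : Subgroup G, M.Normal ∧ N < M ∧ ∀ q : ℕ, q.Prime → q ∣ N.relIndex M → q ∈ S := by
  refine ⟨N ⊔ A, inferInstance, ?_, ?_⟩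
  · refine lt_of_le_of_ne le_sup_left ?_
    intro h
    exact hAN (h ▸ le_sup_right)
  · intro q hq hqd
    apply h q hq
    rw [L0.relIndex_sup_of_normalizes (by rw [Subgroup.normalizer_eq_top]; exact le_top)] at hqd
    refine hqd.trans ?_
    exact Subgroup.relIndex_dvd_of_le_left A hBN

theorem pi_sub_props (π : Set ℕ) {X : Type u} [Group X] [Finite X] (L : Subgroup X)
    (hL : ∀ x : X, x ∈ L ↔ ∀ q : ℕ, q.Prime → q ∣ orderOf x → q ∈ π) :
    L.Normal ∧ (∀ q : ℕ, q.Prime → q ∣ Nat.card L → q ∈ π) ∧ (∀ q : ℕ, q.Prime → q ∣ L.index → q ∉ π) := by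
  refine ⟨?_, ?_, ?_⟩
  · constructor
    intro x hx g
    rw [hL] at hx ⊢
    intro q hq hd
    apply hx q hq
    have : orderOf (g * x * g⁻¹) = orderOf x := by
      have := orderOf_injective (MulAut.conj g).toMonoidHom (MulAut.conj g).injective x
      simpa using this
    rwa [this] at hd
  · intro q hq hqd
    haveI : Fact q.Prime := ⟨hq⟩
    obtain ⟨z, hz⟩ := exists_prime_orderOf_dvd_card' (G := L) q hqd
    exact (hL z).1 z.2 q hq (by rw [Subgroup.orderOf_coe, hz])
  · intro q hq hqd hqπ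
    haveI : Fact q.Prime := ⟨hq⟩
    obtain ⟨P⟩ : Nonempty (Sylow q X) := inferInstance
    have hPL : (P : Subgroup X) ≤ L := by
      intro x hx
      rw [hL]
      intro r hr hrd
      obtain ⟨j, hj⟩ := (IsPGroup.iff_orderOf.mp P.2) ⟨x, hx⟩
      rw [Subgroup.orderOf_mk] at hj
      rw [hj] at hrd
      rw [(Nat.prime_dvd_prime_iff_eq hr hq).1 (hr.dvd_of_dvd_pow hrd)]
      exact hqπ
    exact P.not_dvd_index (hqd.trans (Subgroup.index_dvd_of_le hPL))

end Cfsg.Agent.H3
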