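import Mathlib
import Cfsg.Agent.H3.SSol
import Cfsg.Agent.S0524
import Cfsg.Agent.S0526
import Cfsg.Agent.S0527
import Cfsg.Agent.S0528
set_option autoImplicit false
set_option linter.unusedVariables false
set_option linter.style.haveILetI false
/-! Supersolvable groups: Huppert's theorem. -/
open Subgroup
open scoped commutatorElement Pointwise

namespace Cfsg.Agent.H3

open H1 (SChain isSupersolvable_iff)

universe u

theorem SChain.inf {G : Type*} [Group G] {K : Subgroup G} (h : SChain K) (P : Subgroup G) [hP : P.Normal] : SChain (K ⊓ P) := by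
  induction h with
  | bot => rw [bot_inf_eq]; exact SChain.bot
  | step H K g h hK e ih =>
    haveI := h.normal
    have hHK : H ≤ K := by rw [e]; exact le_sup_left
    obtain ⟨l, hl, hL⟩ := H1.exists_zpowers_sup (A := H) (L := H ⊔ (K ⊓ P)) (g := g) le_sup_left
      (by rw [← e]; exact sup_le hHK inf_le_left)
    obtain ⟨y, hy, k, hk, he⟩ := Subgroup.mem_sup_of_normal_left.mp hl
    refine SChain.step (H ⊓ P) (K ⊓ P) k ih inferInstance ?_
    apply le_antisymm
    · intro z hz
      have h1 : z ∈ H ⊔ (K ⊓ P) := (le_sup_right : K ⊓ P ≤ _) hz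
      have h2 : H ⊔ zpowers l ≤ H ⊔ zpowers k := by
        refine sup_le le_sup_left ?_
        rw [zpowers_le, ← he]
        exact Subgroup.mul_mem _ (Subgroup.mem_sup_left hy) (Subgroup.mem_sup_right (mem_zpowers k))
      rw [hL] at h1
      obtain ⟨a, ha, b, hb, hab⟩ := Subgroup.mem_sup_of_normal_left.mp (h2 h1)
      have hbk : b ∈ K ⊓ P := (zpowers_le.mpr hk) hb
      have haP : a ∈ P := by
        have : a = z * b⁻¹ := by rw [← hab]; group
        rw [this]; exact P.mul_mem hz.2 (P.inv_mem hbk.2)
      rw [← hab]
      exact Subgroup.mul_mem _ (Subgroup.mem_sup_left ⟨ha, haP⟩) (Subgroup.mem_sup_right hb)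
    · exact sup_le (inf_le_inf_right P hHK) (zpowers_le.mpr hk)

theorem SChain.of_ss {G : Type*} [Group G] (h : IsSupersolvable G) (P : Subgroup G) [hP : P.Normal] : SChain P := by
  have := SChain.inf (isSupersolvable_iff.mp h) P
  rwa [top_inf_eq] at this

theorem solvable_of_ss {G : Type*} [Group G] [Finite G] (h : IsSupersolvable G) : Group.IsSolvable G := by
  have h1 : Group.IsNilpotent (commutator G) := S0526.result h
  haveI : Group.IsSolvable (commutator G) := inferInstance
  haveI : Group.IsSolvable (G ⧸ commutator G) := Group.isSolvable_of_comm (fun a b => mul_comm (G := Abelianization G) a b)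
  refine Group.isSolvable_of_ker_le_range (commutator G).subtype (QuotientGroup.mk' (commutator G)) ?_
  rw [QuotientGroup.ker_mk', Subgroup.range_subtype]

/-- star condition for normal `p`-subgroups in supersolvable groups -/
theorem star_of_ss {p : ℕ} [hp : Fact p.Prime] {G : Type*} [Group G] [Finite G] (h : IsSupersolvable G) {P : Subgroup G}
    [hPn : P.Normal] (hP : IsPGroup p P) {x : G} (hx : x ∈ C0 p G) (hxo : (orderOf x).Coprime p) :
    x ∈ centralizer (P : Set G) := star_of_schain (SChain.of_ss h P) hP hx hxo

theorem ss_of_subsingleton {G : Type*} [Group G] [Subsingleton G] : IsSupersolvable G := by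
  rw [isSupersolvable_iff]
  have : (⊤ : Subgroup G) = ⊥ := Subsingleton.elim _ _
  rw [this]; exact SChain.bot

theorem ss_of_schain {G : Type*} [Group G] [Finite G] {P : Subgroup G} [P.Normal] (h : SChain P) (h2 : IsSupersolvable (G ⧸ P)) :
    IsSupersolvable G := by
  rw [isSupersolvable_iff] at h2 ⊢
  have h3 := SChain.comap_of_ker (QuotientGroup.mk' P) (QuotientGroup.mk'_surjective P) (by rw [QuotientGroup.ker_mk']; exact h) h2
  rwa [Subgroup.comap_top] at h3

theorem ss_of_surjective {G H : Type*} [Group G] [Group H] [Finite G] (f : G →* H) (hf : Function.Surjective f)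
    (h : IsSupersolvable G) : IsSupersolvable H := by
  rw [isSupersolvable_iff] at h ⊢
  have := SChain.map f hf h
  rwa [Subgroup.map_top_of_surjective f hf] at this

/-- Huppert -/
theorem huppert (n : ℕ) : ∀ (G : Type u) [Group G] [Finite G], Nat.card G = n →
    (∀ M : Subgroup G, IsCoatom M → M.index.Prime) → IsSupersolvable G := by
  induction n using Nat.strong_induction_on with
  | _ n ih =>
  intro G _ _ hn hM
  have hquot : ∀ N : Subgroup G, N.Normal → N ≠ ⊥ → ∀ [N.Normal], IsSupersolvable (G ⧸ N) := by
    intro N hN hNb _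
    have hlt : Nat.card (G ⧸ N) < n := by
      rw [← hn, Subgroup.card_eq_card_quotient_mul_card_subgroup N]
      exact lt_mul_of_one_lt_right Nat.card_pos (by
        rcases Nat.lt_or_ge 1 (Nat.card N) with h | h
        · exact h
        · exact absurd (Subgroup.card_eq_one.mp (le_antisymm h Nat.card_pos)) hNb)
    refine ih _ hlt (G ⧸ N) rfl ?_
    intro M hMc
    have h1 := isCoatom_comap_of_surjective (QuotientGroup.mk'_surjective N) hMc
    have h2 := hM _ h1
    rwa [Subgroup.index_comap_of_surjective _ (QuotientGroup.mk'_surjective N)] at h2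
  rcases subsingleton_or_nontrivial G with hs | hnt
  · exact ss_of_subsingleton
  -- largest prime
  have hG1 : Nat.card G ≠ 1 := Finite.one_lt_card.ne'
  obtain ⟨p, hpm⟩ : ∃ p, IsGreatest {q : ℕ | q.Prime ∧ q ∣ Nat.card G} p := by
    have hfin : {q : ℕ | q.Prime ∧ q ∣ Nat.card G}.Finite :=
      Set.Finite.subset (Set.finite_Iic (Nat.card G)) (fun q hq => Nat.le_of_dvd Nat.card_pos hq.2)
    obtain ⟨q, hq, hqd⟩ := Nat.exists_prime_and_dvd hG1
    exact hfin.exists_maximal ⟨q, hq, hqd⟩ |>.imp fun a ha => ⟨ha.prop, fun b hb => by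
      rcases le_total a b with h | h
      · exact ha.le_of_ge hb h
      · exact h⟩
  obtain ⟨⟨hpp, hpd⟩, hmax⟩ := hpm
  haveI hp : Fact p.Prime := ⟨hpp⟩
  obtain ⟨P⟩ : Nonempty (Sylow p G) := inferInstance
  have hPb : (P : Subgroup G) ≠ ⊥ := by
    intro h
    exact P.ne_bot_of_dvd_card hpd h
  -- P is normal
  have hPn : (P : Subgroup G).Normal := by
    rw [← Subgroup.normalizer_eq_top_iff]
    by_contra hne
    obtain ⟨M, hMc, hMle⟩ := (eq_top_or_exists_le_coatom (normalizer ((P : Subgroup G) : Set G))).resolve_left hne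
    have hq := hM M hMc
    have h1 : (normalizer ((P : Subgroup G) : Set G)).index ≡ 1 [MOD p] := by
      have h0 : Nat.card (Sylow p G) = (normalizer ((P : Subgroup G) : Set G)).index := P.card_eq_index_normalizer
      rw [← h0]; exact card_sylow_modEq_one p G
    have hPM : (P : Subgroup G) ≤ M := Subgroup.le_normalizer.trans hMle
    have h2 : (normalizer ((P : Subgroup G) : Set G)).relIndex M ≡ 1 [MOD p] := by
      let P' : Sylow p M := P.subtype hPM
      have h3 := card_sylow_modEq_one p M
      have h0 : Nat.card (Sylow p M) = (normalizer ((P' : Subgroup M) : Set M)).index := P'.card_eq_index_normalizer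
      rw [h0] at h3
      have h4 : (normalizer ((P : Subgroup G) : Set G)).subgroupOf M = normalizer ((P' : Subgroup M) : Set M) := 
        Subgroup.subgroupOf_normalizer_eq hPM
      rw [Subgroup.relIndex, h4]; exact h3
    have h5 := Subgroup.relIndex_mul_index hMle
    have h6 : M.index ≡ 1 [MOD p] := by
      have h7 : (normalizer ((P : Subgroup G) : Set G)).relIndex M * M.index ≡ 1 * M.index [MOD p] := h2.mul_right _
      rw [h5, one_mul] at h7
      exact h7.symm.trans h1
    have h8 : M.index ≤ p := hmax ⟨hq, Subgroup.index_dvd_card M⟩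
    have h9 : M.index = p ∨ M.index < p := by omega
    rcases h9 with h9 | h9
    · rw [h9] at h6
      have : p ∣ 1 := (Nat.modEq_zero_iff_dvd.mp ((show 1 ≡ p [MOD p] from h6.symm).trans (by simp [Nat.ModEq])))
      exact hpp.one_lt.ne' (Nat.dvd_one.mp this)
    · have := Nat.ModEq.eq_of_lt_of_lt h6 h9 hpp.one_lt
      exact hq.one_lt.ne' this
  -- minimal normal subgroup in P
  obtain ⟨N, hNn, hNP, hNb, hmin⟩ := H1.exists_minimal_normal_le (P : Subgroup G) hPb
  have hNp : IsPGroup p N := P.2.to_le hNP
  have hGN := hquot N hNn hNb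
  have hGP := hquot (P : Subgroup G) hPn hPb
  haveI hsolv : Group.IsSolvable G := by
    haveI := solvable_of_ss hGN
    haveI := hNp.isNilpotent
    haveI : Group.IsSolvable N := inferInstance
    refine Group.isSolvable_of_ker_le_range N.subtype (QuotientGroup.mk' N) ?_
    rw [QuotientGroup.ker_mk', Subgroup.range_subtype]
  obtain ⟨kk, hPk⟩ := IsPGroup.iff_card.mp P.2
  -- N central in P
  have hNPc : N ≤ centralizer ((P : Subgroup G) : Set G) := by
    obtain ⟨j, hj⟩ := IsPGroup.iff_card.mp hNp
    have hd : p ∣ Nat.card N := by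
      rcases Nat.eq_zero_or_pos j with h0 | h0
      · rw [h0, pow_zero] at hj; exact absurd (Subgroup.card_eq_one.mp hj) hNb
      · rw [hj]; exact dvd_pow_self p h0.ne'
    obtain ⟨x, hx, hx1, hSx⟩ := exists_fixed_of_dvd N p (P : Subgroup G) P.2 hd
    have h1 : N ⊓ centralizer ((P : Subgroup G) : Set G) = N := by
      rcases hmin (N ⊓ centralizer ((P : Subgroup G) : Set G)) inferInstance inf_le_left with h | h
      · exfalso
        apply hx1
        have hxc : x ∈ centralizer ((P : Subgroup G) : Set G) := by
          rw [Subgroup.mem_centralizer_iff]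
          intro s hs
          exact Subgroup.mem_centralizer_singleton_iff.mp (hSx hs)
        have : x ∈ N ⊓ centralizer ((P : Subgroup G) : Set G) := ⟨hx, hxc⟩
        rw [h] at this
        exact this
      · exact h
    exact inf_eq_left.mp h1
  by_cases hfr : ∃ M : Subgroup G, IsCoatom M ∧ ¬ N ≤ M
  · obtain ⟨M, hMc, hNM⟩ := hfr
    have hsup : M ⊔ N = ⊤ := hMc.2 _ (lt_of_le_of_ne le_sup_left (fun h => hNM (by rw [h]; exact le_sup_right)))
    have hMN : M ⊓ N = ⊥ := by
      have hn1 : (M ⊓ N).Normal := by
        rw [← Subgroup.normalizer_eq_top_iff, eq_top_iff, ← hsup]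
        refine sup_le ?_ ?_
        · intro m hm
          apply Subgroup.mem_normalizer_fintype
          intro y hy
          exact ⟨M.mul_mem (M.mul_mem hm hy.1) (M.inv_mem hm), hNn.conj_mem y hy.2 m⟩
        · intro m hm
          apply Subgroup.mem_normalizer_fintype
          intro y hy
          have h1 := Subgroup.mem_centralizer_iff.mp (hNPc hm) y (hNP hy.2)
          have h2 : m * y * m⁻¹ = y := by rw [← h1]; group
          rw [h2]; exact hy
      rcases hmin _ hn1 inf_le_right with h | h
      · exact h
      · exact absurd (inf_eq_right.mp h) hNM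
    have hNc : Nat.card N = M.index := by
      have h2 : Nat.card M = N.index := by
        have h3 : N.relIndex (M ⊔ N) = N.relIndex M := by rw [sup_comm]; exact Subgroup.relIndex_sup_left M N
        rw [hsup, Subgroup.relIndex_top_right] at h3
        rw [h3, ← Subgroup.inf_relIndex_left, hMN, Subgroup.relIndex_bot_left]
      have h4 := Subgroup.card_mul_index N
      have h5 := Subgroup.card_mul_index M
      rw [← h2] at h4
      rw [← h4, mul_comm] at h5
      exact (Nat.eq_of_mul_eq_mul_right Nat.card_pos h5).symm
    have hpr := hM M hMc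
    rw [← hNc] at hpr
    haveI := Fact.mk hpr
    haveI : IsCyclic N := isCyclic_of_prime_card rfl
    exact S0528.result N hGN
  · have hfr' : ∀ M : Subgroup G, IsCoatom M → N ≤ M := fun M hM => by
      by_contra h; exact hfr ⟨M, hM, h⟩
    -- Hall complement
    obtain ⟨K, hKc⟩ := H1.hall_exists hsolv (a := (P : Subgroup G).index) (b := Nat.card (P : Subgroup G))
      (by rw [mul_comm]; exact (Subgroup.card_mul_index _).symm) (by
        rw [hPk]; exact (((Nat.Prime.coprime_iff_not_dvd hpp).mpr P.not_dvd_index).symm).pow_right kk)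
    have hcop : (Nat.card K).Coprime p := by
      rw [hKc]; exact ((Nat.Prime.coprime_iff_not_dvd hpp).mpr P.not_dvd_index).symm
    set K0 := C0 p G ⊓ K with hK0
    have hK0c : (Nat.card K0).Coprime p := Nat.Coprime.coprime_dvd_left (Subgroup.card_dvd_of_le inf_le_right) hcop
    have hcop' : (Nat.card K0).Coprime (Nat.card (P : Subgroup G)) := by rw [hPk]; exact hK0c.pow_right kk
    have hK0P : K0 ≤ normalizer ((P : Subgroup G) : Set G) := by rw [Subgroup.normalizer_eq_top]; exact le_top
    have hs : Group.IsSolvable K0 ∨ Group.IsSolvable (P : Subgroup G) := Or.inl inferInstance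
    have hPN : ⁅(P : Subgroup G), K0⁆ ≤ N := by
      rw [Subgroup.commutator_le]
      intro z hz x hx
      have hxo : (orderOf x).Coprime p := Nat.Coprime.coprime_dvd_left (by
        rw [← Subgroup.orderOf_mk x hx]; exact orderOf_dvd_natCard _) hK0c
      haveI : ((P : Subgroup G).map (QuotientGroup.mk' N)).Normal := hPn.map _ (QuotientGroup.mk'_surjective N)
      have h1 : QuotientGroup.mk' N x ∈ C0 p (G ⧸ N) := C0_map_le p _ ⟨x, hx.1, rfl⟩
      have h2 := star_of_ss hGN (P := (P : Subgroup G).map (QuotientGroup.mk' N)) (P.2.map _) h1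
        (Nat.Coprime.coprime_dvd_left (orderOf_map_dvd _ x) hxo)
      have h3 := Subgroup.mem_centralizer_iff.mp h2 (QuotientGroup.mk' N z) ⟨z, hz, rfl⟩
      rw [← QuotientGroup.eq_one_iff]
      show QuotientGroup.mk' N (z * x * z⁻¹ * x⁻¹) = 1
      rw [map_mul, map_mul, map_mul, map_inv, map_inv, h3]
      group
    have hK0C : ⁅(P : Subgroup G), K0⁆ = ⊥ := by
      by_contra hne
      have hnorm : K ≤ normalizer (K0 : Set G) := by
        intro k hk
        apply Subgroup.mem_normalizer_fintype
        intro y hy
        exact ⟨(C0_normal p G).conj_mem y hy.1 k, K.mul_mem (K.mul_mem hk hy.2) (K.inv_mem hk)⟩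
      set L := (P : Subgroup G) ⊓ centralizer (K0 : Set G) with hL
      have hKL : K ≤ normalizer (L : Set G) := by
        intro k hk
        apply Subgroup.mem_normalizer_fintype
        intro y hy
        refine ⟨hPn.conj_mem y hy.1 k, ?_⟩
        show k * y * k⁻¹ ∈ centralizer (K0 : Set G)
        rw [Subgroup.mem_centralizer_iff]
        intro z hz
        have h1 : k⁻¹ * z * k ∈ K0 := by
          have := (Subgroup.mem_normalizer_iff.mp (hnorm (K.inv_mem hk)) z).mp hz
          simpa using this
        have h2 := Subgroup.mem_centralizer_iff.mp hy.2 _ h1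
        calc z * (k * y * k⁻¹) = k * ((k⁻¹ * z * k) * y) * k⁻¹ := by group
          _ = k * (y * (k⁻¹ * z * k)) * k⁻¹ := by rw [h2]
          _ = _ := by group
      have hPL : (P : Subgroup G) = N ⊔ L := by
        apply le_antisymm
        · have h1 := L0.commutator_sup_centralizer hK0P hcop' hs
          conv_lhs => rw [← h1]
          exact sup_le_sup_right hPN _
        · exact sup_le hNP inf_le_left
      have hPK : (P : Subgroup G) ⊔ K = ⊤ := by
        rw [← Subgroup.index_eq_one]
        have h1 : (Nat.card (P : Subgroup G)).Coprime (P : Subgroup G).index := by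
          rw [hPk]; exact (((Nat.Prime.coprime_iff_not_dvd hpp).mpr P.not_dvd_index)).pow_left kk
        have h2 : K.index = Nat.card (P : Subgroup G) := by
          have h3 := Subgroup.card_mul_index K
          have h4 := Subgroup.card_mul_index (P : Subgroup G)
          rw [hKc, ← h4, mul_comm] at h3
          exact Nat.eq_of_mul_eq_mul_right (Nat.pos_of_ne_zero Subgroup.index_ne_zero_of_finite) h3
        refine Nat.eq_one_of_dvd_coprimes h1 ?_ (Subgroup.index_dvd_of_le le_sup_left)
        rw [← h2]; exact Subgroup.index_dvd_of_le le_sup_right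
      have hLK : L ⊔ K ≠ ⊤ := by
        intro htop
        -- N ⊓ (L K) = ⊥
        have h1 : N ≤ L := by
          intro y hy
          have hy' : y ∈ L ⊔ K := by rw [htop]; trivial
          obtain ⟨a, ha, b, hb, rfl⟩ := (L0.mem_sup_of_normalizes hKL).mp hy'
          have hbP : b ∈ (P : Subgroup G) := by
            have : b = a⁻¹ * (a * b) := by group
            rw [this]; exact (P : Subgroup G).mul_mem ((P : Subgroup G).inv_mem ha.1) (hNP hy)
          have hb1 : b ∈ (P : Subgroup G) ⊓ K := ⟨hbP, hb⟩
          have h2 : (P : Subgroup G) ⊓ K = ⊥ := by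
            apply disjoint_iff.mp
            apply Subgroup.disjoint_of_coprime_natCard
            rw [hPk]; exact (hcop.pow_right kk).symm
          rw [h2, mem_bot] at hb1
          rw [hb1, mul_one]; exact ha
        apply hne
        rw [Subgroup.commutator_eq_bot_iff_le_centralizer]
        conv_lhs => rw [hPL]
        exact sup_le (h1.trans inf_le_right) inf_le_right
      obtain ⟨M, hMc, hLM⟩ := (eq_top_or_exists_le_coatom (L ⊔ K)).resolve_left hLK
      apply hMc.1
      rw [eq_top_iff, ← hPK]
      refine sup_le ?_ (le_sup_right.trans hLM)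
      rw [hPL]
      exact sup_le (hfr' M hMc) (le_sup_left.trans hLM)
    refine ss_of_schain (P := (P : Subgroup G)) (SChain.of_star (p := p) _ G rfl _ hPn P.2 ?_) hGP
    intro x hx hxo
    obtain ⟨g, hg⟩ := H1.hall_dominate hsolv (a := (P : Subgroup G).index) (b := Nat.card (P : Subgroup G))
      (by rw [mul_comm]; exact (Subgroup.card_mul_index _).symm) (by
        rw [hPk]; exact (((Nat.Prime.coprime_iff_not_dvd hpp).mpr P.not_dvd_index).symm).pow_right kk) (H := K) (K := zpowers x) hKc (by
        rw [Nat.card_zpowers, hPk]; exact hxo.pow_right kk)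
    have h1 : x ∈ MulAut.conj g • K := hg (mem_zpowers x)
    obtain ⟨y, hy, he⟩ := h1
    have he' : g * y * g⁻¹ = x := he
    have hyK0 : y ∈ K0 := by
      refine ⟨?_, hy⟩
      have : y = g⁻¹ * x * g⁻¹⁻¹ := by rw [← he']; group
      rw [this]; exact (C0_normal p G).conj_mem x hx g⁻¹
    have h2 : y ∈ centralizer ((P : Subgroup G) : Set G) := by
      rw [Subgroup.commutator_comm, Subgroup.commutator_eq_bot_iff_le_centralizer] at hK0C
      exact hK0C hyK0
    rw [← he']
    exact (inferInstance : (centralizer ((P : Subgroup G) : Set G)).Normal).conj_mem y h2 g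

end Cfsg.Agent.H3
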