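import Mathlib
import Cfsg.Agent.H3.SSol2
set_option autoImplicit false
set_option linter.unusedVariables false
set_option linter.style.haveILetI false
/-! Supersolvable groups, part 3: largest prime, converse of Lagrange. -/
open Subgroup
open scoped commutatorElement Pointwise

namespace Cfsg.Agent.H3

open H1 (SChain isSupersolvable_iff)

universe u

theorem exists_largest_prime {n : ℕ} (hn : n ≠ 1) (hn0 : n ≠ 0) : ∃ p : ℕ, p.Prime ∧ p ∣ n ∧ ∀ q : ℕ, q.Prime → q ∣ n → q ≤ p := by
  have hfin : {q : ℕ | q.Prime ∧ q ∣ n}.Finite :=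
    Set.Finite.subset (Set.finite_Iic n) (fun q hq => Nat.le_of_dvd (Nat.pos_of_ne_zero hn0) hq.2)
  obtain ⟨q, hq, hqd⟩ := Nat.exists_prime_and_dvd hn
  obtain ⟨p, hp⟩ := hfin.exists_maximal ⟨q, hq, hqd⟩
  refine ⟨p, hp.prop.1, hp.prop.2, fun b hb hb2 => ?_⟩
  rcases le_total p b with h | h
  · exact hp.le_of_ge ⟨hb, hb2⟩ h
  · exact h

theorem sylow_normal_of_coatom_prime {G : Type*} [Group G] [Finite G] (hM : ∀ M : Subgroup G, IsCoatom M → M.index.Prime)
    {p : ℕ} [hp : Fact p.Prime] (hmax : ∀ q : ℕ, q.Prime → q ∣ Nat.card G → q ≤ p) (P : Sylow p G) : (P : Subgroup G).Normal := by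
  have hpp := hp.out
  rw [← Subgroup.normalizer_eq_top_iff]
  by_contra hne
  obtain ⟨M, hMc, hMle⟩ := (eq_top_or_exists_le_coatom (normalizer ((P : Subgroup G) : Set G))).resolve_left hne
  have hq := hM M hMc
  have h1 : (normalizer ((P : Subgroup G) : Set G)).index ≡ 1 [MOD p] := by
    have h0 : Nat.card (Sylow p G) = (normalizer ((P : Subgroup G) : Set G)).index := P.card_eq_index_normalizer
    rw [← h0]; exact card_sylow_modEq_one p G
  have hPM : (P : Subgroup G) ≤ M := Subgroup.le_normalizer.trans hMle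
  have h2 : (normalizer ((P : Subgroup G) : Set G)).relIndex M ≡ 1 [MOD p] := by
    let P' : Sylow p M := P.subtype hPM
    have h3 := card_sylow_modEq_one p M
    have h0 : Nat.card (Sylow p M) = (normalizer ((P' : Subgroup M) : Set M)).index := P'.card_eq_index_normalizer
    rw [h0] at h3
    have h4 : (normalizer ((P : Subgroup G) : Set G)).subgroupOf M = normalizer ((P' : Subgroup M) : Set M) := 
      Subgroup.subgroupOf_normalizer_eq hPM
    rw [Subgroup.relIndex, h4]; exact h3
  have h5 := Subgroup.relIndex_mul_index hMle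
  have h6 : M.index ≡ 1 [MOD p] := by
    have h7 : (normalizer ((P : Subgroup G) : Set G)).relIndex M * M.index ≡ 1 * M.index [MOD p] := h2.mul_right _
    rw [h5, one_mul] at h7
    exact h7.symm.trans h1
  have h8 : M.index ≤ p := hmax _ hq (Subgroup.index_dvd_card M)
  have h9 : M.index = p ∨ M.index < p := by omega
  rcases h9 with h9 | h9
  · rw [h9] at h6
    have : p ∣ 1 := (Nat.modEq_zero_iff_dvd.mp ((show 1 ≡ p [MOD p] from h6.symm).trans (by simp [Nat.ModEq])))
    exact hpp.one_lt.ne' (Nat.dvd_one.mp this)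
  · have := Nat.ModEq.eq_of_lt_of_lt h6 h9 hpp.one_lt
    exact hq.one_lt.ne' this

theorem sylow_normal_of_ss {G : Type*} [Group G] [Finite G] (h : IsSupersolvable G)
    {p : ℕ} [hp : Fact p.Prime] (hmax : ∀ q : ℕ, q.Prime → q ∣ Nat.card G → q ≤ p) (P : Sylow p G) : (P : Subgroup G).Normal :=
  sylow_normal_of_coatom_prime (fun M hM => S0527.result h M hM) hmax P

theorem exists_normal_largest {G : Type*} [Group G] [Finite G] [Nontrivial G] (h : IsSupersolvable G) :
    ∃ (p : ℕ) (N : Subgroup G), p.Prime ∧ N.Normal ∧ Nat.card N = p ∧ ∀ q : ℕ, q.Prime → q ∣ Nat.card G → q ≤ p := by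
  obtain ⟨p, hpp, hpd, hmax⟩ := exists_largest_prime (n := Nat.card G) Finite.one_lt_card.ne' Nat.card_pos.ne'
  haveI := Fact.mk hpp
  obtain ⟨P⟩ : Nonempty (Sylow p G) := inferInstance
  haveI hPn := sylow_normal_of_ss h hmax P
  obtain ⟨N, hNn, hNP, hNb, hmin⟩ := H1.exists_minimal_normal_le (P : Subgroup G) (P.ne_bot_of_dvd_card hpd)
  have h1 := H1.SChain.prime_of_minimal (isSupersolvable_iff.mp h) N hNb hmin le_top
  refine ⟨p, N, hpp, hNn, ?_, hmax⟩
  obtain ⟨k, hk⟩ := IsPGroup.iff_card.mp (P.2.to_le hNP)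
  rw [hk] at h1
  have h2 : (p ^ k).Prime := h1
  have h3 : k = 1 := by
    by_contra hne
    exact Nat.Prime.not_prime_pow' hne h2
  rw [hk, h3, pow_one]

theorem ss_of_pgroup {p : ℕ} [hp : Fact p.Prime] {G : Type u} [Group G] [Finite G] (h : IsPGroup p G) : IsSupersolvable G := by
  rw [isSupersolvable_iff]
  refine SChain.of_star (p := p) _ G rfl ⊤ inferInstance (h.to_subgroup _) ?_
  intro x hx hxo
  have h1 : x = 1 := by
    obtain ⟨k, hk⟩ := h x
    rw [← orderOf_eq_one_iff]
    exact Nat.eq_one_of_dvd_coprimes (hxo.pow_right k) dvd_rfl (orderOf_dvd_of_pow_eq_one hk)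
  rw [h1]; exact Subgroup.one_mem _

/-- converse of Lagrange -/
theorem clt_of_ss (n : ℕ) : ∀ (G : Type u) [Group G] [Finite G], Nat.card G = n → IsSupersolvable G →
    ∀ d : ℕ, d ∣ Nat.card G → ∃ H : Subgroup G, Nat.card H = d := by
  induction n using Nat.strong_induction_on with
  | _ n ih =>
  intro G _ _ hn hG d hd
  rcases subsingleton_or_nontrivial G with hs | hnt
  · have : Nat.card G = 1 := Nat.card_unique
    rw [this, Nat.dvd_one] at hd
    exact ⟨⊥, by rw [hd, Subgroup.card_bot]⟩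
  obtain ⟨p, N, hpp, hNn, hNc, hmax⟩ := exists_normal_largest hG
  haveI := hNn
  have hcard := Subgroup.card_eq_card_quotient_mul_card_subgroup N
  rw [hNc] at hcard
  have hlt : Nat.card (G ⧸ N) < n := by
    rw [← hn, hcard]
    exact lt_mul_of_one_lt_right Nat.card_pos hpp.one_lt
  have hq := (S0524.result hG ⊤ N).2
  have hcomap : ∀ H : Subgroup (G ⧸ N), Nat.card (H.comap (QuotientGroup.mk' N)) = Nat.card H * p := by
    intro H
    have h1 := Subgroup.card_mul_index (H.comap (QuotientGroup.mk' N))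
    rw [Subgroup.index_comap_of_surjective _ (QuotientGroup.mk'_surjective N), hcard, ← Subgroup.card_mul_index H] at h1
    have h2 : 0 < H.index := Nat.pos_of_ne_zero Subgroup.index_ne_zero_of_finite
    apply Nat.eq_of_mul_eq_mul_right h2
    rw [h1]; ring
  by_cases hpd : p ∣ d
  · obtain ⟨e, rfl⟩ := hpd
    have h1 : e ∣ Nat.card (G ⧸ N) := by
      rw [hcard, mul_comm] at hd
      exact Nat.dvd_of_mul_dvd_mul_right hpp.pos hd
    obtain ⟨H, hH⟩ := ih _ hlt (G ⧸ N) rfl hq e h1
    exact ⟨H.comap (QuotientGroup.mk' N), by rw [hcomap, hH, mul_comm]⟩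
  · have hcop : d.Coprime p := ((Nat.Prime.coprime_iff_not_dvd hpp).mpr hpd).symm
    have h1 : d ∣ Nat.card (G ⧸ N) := by
      rw [hcard] at hd
      exact hcop.dvd_of_dvd_mul_right hd
    obtain ⟨H, hH⟩ := ih _ hlt (G ⧸ N) rfl hq d h1
    -- complement
    set L := H.comap (QuotientGroup.mk' N) with hL
    have hLc : Nat.card L = d * p := by rw [hcomap, hH]
    have hNL : N ≤ L := by
      intro x hx
      show QuotientGroup.mk' N x ∈ H
      have : QuotientGroup.mk' N x = 1 := (QuotientGroup.eq_one_iff x).mpr hx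
      rw [this]; exact H.one_mem
    have hNLc : Nat.card (N.subgroupOf L) = p := by
      rw [Nat.card_congr (Subgroup.subgroupOfEquivOfLe hNL).toEquiv, hNc]
    have hidx : (N.subgroupOf L).index = d := by
      have h2 := Subgroup.card_mul_index (N.subgroupOf L)
      rw [hNLc, hLc, mul_comm] at h2
      exact Nat.eq_of_mul_eq_mul_right hpp.pos h2
    obtain ⟨K, hK⟩ := Subgroup.exists_right_complement'_of_coprime (N := N.subgroupOf L) (by rw [hNLc, hidx]; exact hcop.symm)
    have hKc : Nat.card K = d := by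
      have h3 := hK.card_mul_card
      rw [hNLc, hLc, mul_comm] at h3
      exact Nat.eq_of_mul_eq_mul_right hpp.pos h3
    exact ⟨K.map L.subtype, by rw [Subgroup.card_map_of_injective L.subtype_injective, hKc]⟩

theorem index_eq_relIndex_of_sup_top {G : Type*} [Group G] [Finite G] {M P : Subgroup G} [hP : P.Normal] (h : M ⊔ P = ⊤) :
    M.index = (M ⊓ P).relIndex P := by
  have h3 : P.relIndex (M ⊔ P) = P.relIndex M := by rw [sup_comm]; exact Subgroup.relIndex_sup_left M P
  rw [h, Subgroup.relIndex_top_right] at h3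
  have h4 := Subgroup.card_mul_index P
  have h5 := Subgroup.card_mul_index M
  have h6 := Subgroup.relIndex_mul_relIndex (⊥ : Subgroup G) (M ⊓ P) M bot_le inf_le_left
  have h7 := Subgroup.relIndex_mul_relIndex (⊥ : Subgroup G) (M ⊓ P) P bot_le inf_le_right
  rw [Subgroup.relIndex_bot_left, Subgroup.relIndex_bot_left] at h6 h7
  have h8 : (M ⊓ P).relIndex M = P.relIndex M := Subgroup.inf_relIndex_left M P
  rw [h8, ← h3] at h6
  -- |M ∩ P| * P.index = |M|, |M| * M.index = |G| = |P| * P.index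
  rw [← h6, ← h4, ← h7] at h5
  have h9 : 0 < Nat.card ↥(M ⊓ P) * P.index := Nat.mul_pos Nat.card_pos (Nat.pos_of_ne_zero Subgroup.index_ne_zero_of_finite)
  apply Nat.eq_of_mul_eq_mul_left h9
  rw [h5]; ring

end Cfsg.Agent.H3
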