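import Mathlib
import Cfsg.Agent.H3.SSol3
set_option autoImplicit false
set_option linter.unusedVariables false
set_option linter.style.haveILetI false
/-! Groups all of whose subgroups satisfy the converse of Lagrange's theorem are supersolvable. -/
open Subgroup
open scoped commutatorElement Pointwise

namespace Cfsg.Agent.H3

open H1 (SChain isSupersolvable_iff)

universe u

/-- transport of the converse of Lagrange -/
theorem clt_subgroup {G : Type*} [Group G] [Finite G] (h : ∀ H : Subgroup G, HasSubgroupOfEveryOrder H) (K : Subgroup G) :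
    ∀ H : Subgroup K, HasSubgroupOfEveryOrder H := by
  intro H d hd
  let e : H ≃* (H.map K.subtype) := H.equivMapOfInjective K.subtype K.subtype_injective
  obtain ⟨L, hL⟩ := h (H.map K.subtype) d (by rw [← Nat.card_congr e.toEquiv]; exact hd)
  exact ⟨L.map e.symm.toMonoidHom, by rw [Subgroup.card_map_of_injective e.symm.injective, hL]⟩

theorem clt_top {G : Type*} [Group G] [Finite G] (h : ∀ H : Subgroup G, HasSubgroupOfEveryOrder H) (d : ℕ) (hd : d ∣ Nat.card G) :
    ∃ H : Subgroup G, Nat.card H = d := by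
  obtain ⟨L, hL⟩ := h ⊤ d (by rw [Subgroup.card_top]; exact hd)
  exact ⟨L.map (⊤ : Subgroup G).subtype, by rw [Subgroup.card_map_of_injective (⊤ : Subgroup G).subtype_injective, hL]⟩

theorem sylow_normal_of_clt (n : ℕ) : ∀ (G : Type u) [Group G] [Finite G], Nat.card G = n →
    (∀ H : Subgroup G, HasSubgroupOfEveryOrder H) → ∀ (p : ℕ) [Fact p.Prime], 
    (∀ q : ℕ, q.Prime → q ∣ Nat.card G → q ≤ p) → ∀ P : Sylow p G, (P : Subgroup G).Normal := by
  induction n using Nat.strong_induction_on with
  | _ n ih =>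
  intro G _ _ hn h p hp hmax P
  have hpp := hp.out
  rcases subsingleton_or_nontrivial G with hs | hnt
  · have : (P : Subgroup G) = ⊥ := Subsingleton.elim _ _
    rw [this]; infer_instance
  have hG1 : Nat.card G ≠ 1 := Finite.one_lt_card.ne'
  set r := (Nat.card G).minFac with hr
  have hrp : r.Prime := Nat.minFac_prime hG1
  have hrd : r ∣ Nat.card G := Nat.minFac_dvd _
  by_cases hrpe : r = p
  · -- p-group
    have hPt : (P : Subgroup G) = ⊤ := by
      rw [← Subgroup.index_eq_one]
      by_contra hne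
      obtain ⟨q, hq, hqd⟩ := Nat.exists_prime_and_dvd hne
      have h1 := hmax q hq (hqd.trans (Subgroup.index_dvd_card _))
      have h2 : r ≤ q := Nat.minFac_le_of_dvd hq.two_le (hqd.trans (Subgroup.index_dvd_card _))
      have h3 : q = p := by omega
      rw [h3] at hqd
      exact P.not_dvd_index hqd
    rw [hPt]; infer_instance
  obtain ⟨H, hH⟩ := clt_top h (Nat.card G / r) (Nat.div_dvd_of_dvd hrd)
  have hHi : H.index = r := by
    have h1 := Subgroup.card_mul_index H
    rw [hH] at h1
    have h2 : Nat.card G / r * r = Nat.card G := Nat.div_mul_cancel hrd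
    have h3 : 0 < Nat.card G / r := Nat.div_pos (Nat.le_of_dvd Nat.card_pos hrd) hrp.pos
    exact Nat.eq_of_mul_eq_mul_left h3 (h1.trans h2.symm)
  haveI hHn : H.Normal := Subgroup.normal_of_index_eq_minFac_card hHi
  have hPH : (P : Subgroup G) ≤ H := by
    intro x hx
    rw [← QuotientGroup.eq_one_iff, ← orderOf_eq_one_iff]
    have h1 : orderOf ((x : G) : G ⧸ H) ∣ r := by
      rw [← hHi]; exact orderOf_dvd_natCard _
    have h2 : orderOf ((x : G) : G ⧸ H) ∣ orderOf x := orderOf_map_dvd (QuotientGroup.mk' H) x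
    obtain ⟨k, hk⟩ := P.2 ⟨x, hx⟩
    have hk' : x ^ p ^ k = 1 := congrArg Subtype.val hk
    have h3 : orderOf x ∣ p ^ k := orderOf_dvd_of_pow_eq_one hk'
    exact Nat.eq_one_of_dvd_coprimes (((Nat.coprime_primes hrp hpp).mpr hrpe).pow_right k) h1 (h2.trans h3)
  have hlt : Nat.card H < n := by
    rw [← hn, hH]; exact Nat.div_lt_self Nat.card_pos hrp.one_lt
  have h4 := ih _ hlt H rfl (clt_subgroup h H) p (fun q hq hqd => hmax q hq (hqd.trans (Subgroup.card_subgroup_dvd_card H))) (P.subtype hPH)
  haveI := Sylow.characteristic_of_normal (P.subtype hPH) h4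
  have h5 : (((P.subtype hPH : Sylow p H) : Subgroup H).map H.subtype).Normal := inferInstance
  rw [Sylow.coe_subtype, Subgroup.subgroupOf_map_subtype, inf_eq_left.mpr hPH] at h5
  exact h5

theorem ss_of_clt (n : ℕ) : ∀ (G : Type u) [Group G] [Finite G], Nat.card G = n →
    (∀ H : Subgroup G, HasSubgroupOfEveryOrder H) → IsSupersolvable G := by
  induction n using Nat.strong_induction_on with
  | _ n ih =>
  intro G _ _ hn h
  rcases subsingleton_or_nontrivial G with hs | hnt
  · exact ss_of_subsingleton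
  have hG1 : Nat.card G ≠ 1 := Finite.one_lt_card.ne'
  have hsub : ∀ H : Subgroup G, H ≠ ⊤ → IsSupersolvable H := by
    intro H hH
    refine ih _ ?_ H rfl (clt_subgroup h H)
    rw [← hn]
    refine lt_of_le_of_ne (Nat.le_of_dvd Nat.card_pos (Subgroup.card_subgroup_dvd_card H)) fun he => hH ?_
    exact Subgroup.eq_top_of_card_eq H he
  obtain ⟨p, hpp, hpd, hmax⟩ := exists_largest_prime hG1 Nat.card_pos.ne'
  haveI hp : Fact p.Prime := ⟨hpp⟩
  obtain ⟨P⟩ : Nonempty (Sylow p G) := inferInstance
  haveI hPn : (P : Subgroup G).Normal := sylow_normal_of_clt _ G rfl h p hmax P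
  have hPb : (P : Subgroup G) ≠ ⊥ := P.ne_bot_of_dvd_card hpd
  refine huppert _ G rfl ?_
  intro M hM
  have hGP : IsSupersolvable (G ⧸ (P : Subgroup G)) := by
    have hcop : (Nat.card (P : Subgroup G)).Coprime (P : Subgroup G).index := by
      obtain ⟨kk, hPk⟩ := IsPGroup.iff_card.mp P.2
      rw [hPk]; exact (((Nat.Prime.coprime_iff_not_dvd hpp).mpr P.not_dvd_index)).pow_left kk
    obtain ⟨K, hK⟩ := Subgroup.exists_right_complement'_of_coprime hcop
    have hKt : K ≠ ⊤ := by
      intro hK'
      have h1 := hK.disjoint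
      rw [hK', disjoint_top] at h1
      exact hPb h1
    have hKs := hsub K hKt
    refine ss_of_surjective ((QuotientGroup.mk' (P : Subgroup G)).comp K.subtype) ?_ hKs
    intro y
    obtain ⟨g, rfl⟩ := QuotientGroup.mk'_surjective _ y
    have hg : g ∈ (P : Subgroup G) ⊔ K := by rw [hK.sup_eq_top]; trivial
    obtain ⟨a, ha, b, hb, rfl⟩ := Subgroup.mem_sup_of_normal_left.mp hg
    refine ⟨⟨b, hb⟩, ?_⟩
    show QuotientGroup.mk' (P : Subgroup G) b = QuotientGroup.mk' (P : Subgroup G) (a * b)
    rw [map_mul]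
    have : QuotientGroup.mk' (P : Subgroup G) a = 1 := (QuotientGroup.eq_one_iff a).mpr ha
    rw [this, one_mul]
  have hquo : ∀ (N : Subgroup G) [N.Normal], N ≤ M → IsSupersolvable (G ⧸ N) → M.index.Prime := by
    intro N _ hNM hs
    have h1 : (M.map (QuotientGroup.mk' N)).comap (QuotientGroup.mk' N) = M :=
      Subgroup.comap_map_eq_self (by rw [QuotientGroup.ker_mk']; exact hNM)
    have h2 : IsCoatom (M.map (QuotientGroup.mk' N)) := by
      refine ⟨fun he => hM.1 ?_, fun X hX => ?_⟩
      · rw [← h1, he, Subgroup.comap_top]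
      · have h3 : M < X.comap (QuotientGroup.mk' N) := by
          rw [← h1]
          exact (Subgroup.comap_lt_comap_of_surjective (QuotientGroup.mk'_surjective N)).mpr hX
        have h4 := hM.2 _ h3
        rw [← Subgroup.map_comap_eq_self_of_surjective (QuotientGroup.mk'_surjective N) X, h4, Subgroup.map_top_of_surjective _ (QuotientGroup.mk'_surjective N)]
    have h3 := S0527.result hs _ h2
    rw [← h1, Subgroup.index_comap_of_surjective _ (QuotientGroup.mk'_surjective N)]
    exact h3
  by_cases hPM : (P : Subgroup G) ≤ M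
  · exact hquo _ hPM hGP
  have hMP : M ⊔ (P : Subgroup G) = ⊤ := hM.2 _ (lt_of_le_of_ne le_sup_left (fun h => hPM (by rw [h]; exact le_sup_right)))
  set Q := M ⊓ (P : Subgroup G) with hQ
  have hMQ : M ≤ normalizer (Q : Set G) := by
    intro m hm
    apply Subgroup.mem_normalizer_fintype
    intro y hy
    exact ⟨M.mul_mem (M.mul_mem hm hy.1) (M.inv_mem hm), hPn.conj_mem y hy.2 m⟩
  haveI hQn : Q.Normal := by
    rw [← Subgroup.normalizer_eq_top_iff]
    by_contra hne
    have h1 : normalizer (Q : Set G) = M := by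
      rcases eq_or_lt_of_le hMQ with h | h
      · exact h.symm
      · exact absurd (hM.2 _ h) hne
    haveI := P.2.isNilpotent
    have h2 : Q.subgroupOf (P : Subgroup G) < ⊤ := by
      rw [lt_top_iff_ne_top]
      intro he
      exact hPM ((Subgroup.subgroupOf_eq_top.mp he).trans inf_le_left)
    obtain ⟨y, hy, hy'⟩ := SetLike.exists_of_lt (Group.normalizerCondition_of_isNilpotent _ h2)
    have h3 : (y : G) ∈ normalizer (Q : Set G) := by
      apply Subgroup.mem_normalizer_fintype
      intro z hz
      exact (Subgroup.mem_normalizer_iff.mp hy ⟨z, hz.2⟩).mp hz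
    rw [h1] at h3
    exact hy' ⟨h3, y.2⟩
  -- subgroup of index p
  obtain ⟨H, hH⟩ := clt_top h (Nat.card G / p) (Nat.div_dvd_of_dvd hpd)
  have hHi : H.index = p := by
    have h1 := Subgroup.card_mul_index H
    rw [hH] at h1
    have h2 : Nat.card G / p * p = Nat.card G := Nat.div_mul_cancel hpd
    have h3 : 0 < Nat.card G / p := Nat.div_pos (Nat.le_of_dvd Nat.card_pos hpd) hpp.pos
    exact Nat.eq_of_mul_eq_mul_left h3 (h1.trans h2.symm)
  have hHt : H ≠ ⊤ := by
    intro he
    rw [he, Subgroup.index_top] at hHi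
    exact hpp.one_lt.ne hHi
  by_cases hQH : Q ≤ H
  swap
  · -- G/Q is an image of H
    have hHQ : H ⊔ Q = ⊤ := by
      have h1 : (H ⊔ Q).index ∣ p := by rw [← hHi]; exact Subgroup.index_dvd_of_le le_sup_left
      rcases (Nat.dvd_prime hpp).mp h1 with h2 | h2
      · exact Subgroup.index_eq_one.mp h2
      · exfalso
        apply hQH
        have h3 := Subgroup.relIndex_mul_index (le_sup_left : H ≤ H ⊔ Q)
        rw [h2, hHi] at h3
        have h4 : H.relIndex (H ⊔ Q) = 1 := by
          have : H.relIndex (H ⊔ Q) * p = 1 * p := by rw [h3, one_mul]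
          exact Nat.eq_of_mul_eq_mul_right hpp.pos this
        exact le_sup_right.trans (Subgroup.relIndex_eq_one.mp h4)
    refine hquo Q inf_le_left (ss_of_surjective ((QuotientGroup.mk' Q).comp H.subtype) ?_ (hsub H hHt))
    intro y
    obtain ⟨g, rfl⟩ := QuotientGroup.mk'_surjective _ y
    have hg : g ∈ H ⊔ Q := by rw [hHQ]; trivial
    obtain ⟨a, ha, b, hb, rfl⟩ := Subgroup.mem_sup_of_normal_right.mp hg
    refine ⟨⟨a, ha⟩, ?_⟩
    show QuotientGroup.mk' Q a = QuotientGroup.mk' Q (a * b)
    rw [map_mul]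
    have : QuotientGroup.mk' Q b = 1 := (QuotientGroup.eq_one_iff b).mpr hb
    rw [this, mul_one]
  · have hPH : ¬ (P : Subgroup G) ≤ H := by
      intro hle
      have h1 := (Subgroup.relIndex_mul_index hle).symm
      rw [hHi] at h1
      exact P.not_dvd_index (by rw [h1]; exact dvd_mul_left _ _)
    have hHP : H ⊔ (P : Subgroup G) = ⊤ := by
      have h1 : (H ⊔ (P : Subgroup G)).index ∣ H.index := Subgroup.index_dvd_of_le le_sup_left
      rw [hHi] at h1
      rcases (Nat.dvd_prime hpp).mp h1 with h2 | h2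
      · exact Subgroup.index_eq_one.mp h2
      · exfalso
        apply hPH
        have h3 := Subgroup.relIndex_mul_index (le_sup_left : H ≤ H ⊔ (P : Subgroup G))
        rw [h2, hHi] at h3
        have h4 : H.relIndex (H ⊔ (P : Subgroup G)) = 1 := by
          have : H.relIndex (H ⊔ (P : Subgroup G)) * p = 1 * p := by rw [h3, one_mul]
          exact Nat.eq_of_mul_eq_mul_right hpp.pos this
        exact le_sup_right.trans (Subgroup.relIndex_eq_one.mp h4)
    have h5 := index_eq_relIndex_of_sup_top hHP
    have h6 := index_eq_relIndex_of_sup_top hMP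
    have hPn2 : (H ⊓ (P : Subgroup G)).Normal := by
      rw [← Subgroup.normalizer_eq_top_iff, eq_top_iff, ← hHP]
      refine sup_le ?_ ?_
      · intro m hm
        apply Subgroup.mem_normalizer_fintype
        intro y hy
        exact ⟨H.mul_mem (H.mul_mem hm hy.1) (H.inv_mem hm), hPn.conj_mem y hy.2 m⟩
      · rw [← Subgroup.normal_subgroupOf_iff_le_normalizer inf_le_right]
        apply Subgroup.normal_of_index_eq_minFac_card
        change (H ⊓ (P : Subgroup G)).relIndex (P : Subgroup G) = _
        rw [← h5, hHi]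
        obtain ⟨k, hk⟩ := IsPGroup.iff_card.mp P.2
        rw [hk]
        have hk0 : k ≠ 0 := by
          rintro rfl
          rw [pow_zero] at hk
          exact hPb (Subgroup.card_eq_one.mp hk)
        exact (hpp.pow_minFac hk0).symm
    by_cases hP1M : H ⊓ (P : Subgroup G) ≤ M
    · have h7 : H ⊓ (P : Subgroup G) = M ⊓ (P : Subgroup G) :=
        le_antisymm (le_inf hP1M inf_le_right) (le_inf hQH inf_le_right)
      rw [h6, ← h7, ← h5, hHi]; exact hpp
    · exfalso
      have h8 : M ⊔ (H ⊓ (P : Subgroup G)) = ⊤ := hM.2 _ (lt_of_le_of_ne le_sup_left (fun h => hP1M (by rw [h]; exact le_sup_right)))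
      apply hPH
      intro z hz
      have hz' : z ∈ M ⊔ (H ⊓ (P : Subgroup G)) := by rw [h8]; trivial
      obtain ⟨m, hm, a, ha, rfl⟩ := Subgroup.mem_sup_of_normal_right.mp hz'
      have hmP : m ∈ (P : Subgroup G) := by
        have : m = m * a * a⁻¹ := by group
        rw [this]; exact (P : Subgroup G).mul_mem hz ((P : Subgroup G).inv_mem ha.2)
      exact H.mul_mem (hQH ⟨hm, hmP⟩) ha.1

end Cfsg.Agent.H3
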