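import Mathlib
import Cfsg.Agent.H1.FrobPC
import Cfsg.Agent.H1.Transfer
import Cfsg.Agent.L0.Coprime
import Cfsg.Prelude.Def_SolvableStructure
set_option autoImplicit false
set_option linter.unusedVariables false
set_option linter.style.haveILetI false
/-! Minimal non-nilpotent groups. -/
open Subgroup
open scoped commutatorElement

namespace Cfsg.Agent.H3

theorem isNilpotent_of_sylow_normalizer {G : Type*} [Group G] [Finite G]
    (h : ∀ (p r : ℕ) [Fact p.Prime] [Fact r.Prime], p ≠ r → ∀ (P : Sylow p G) (R : Sylow r G), (R : Subgroup G) ≤ normalizer ((P : Subgroup G) : Set G)) :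
    Group.IsNilpotent G := by
  apply ((Group.isNilpotent_of_finite_tfae (G := G)).out 0 3).mpr
  intro p hp P
  rw [← Subgroup.normalizer_eq_top_iff, ← Subgroup.index_eq_one]
  by_contra hne
  obtain ⟨r, hr, hrd⟩ := Nat.exists_prime_and_dvd hne
  haveI := Fact.mk hr
  by_cases hpr : p = r
  · subst hpr
    exact P.not_dvd_index (hrd.trans (Subgroup.index_dvd_of_le Subgroup.le_normalizer))
  · obtain ⟨R⟩ : Nonempty (Sylow r G) := inferInstance
    exact R.not_dvd_index (hrd.trans (Subgroup.index_dvd_of_le (h p r hpr P R)))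

theorem isNilpotent_of_npc {G : Type*} [Group G] [Finite G] (h : ∀ (p : ℕ) [Fact p.Prime], HasNormalPComplement p G) :
    Group.IsNilpotent G := by
  apply isNilpotent_of_sylow_normalizer
  intro p r hp hr hpr P R b hb
  have hmem : ∀ (q : ℕ) [Fact q.Prime] (N : Subgroup G), N.Normal → (∃ k, N.index = q ^ k) → ∀ x : G, (orderOf x).Coprime q → x ∈ N := by
    intro q hq N hN ⟨k, hk⟩ x hx
    rw [← QuotientGroup.eq_one_iff, ← orderOf_eq_one_iff]
    have h1 : orderOf ((x : G) : G ⧸ N) ∣ orderOf x := orderOf_map_dvd (QuotientGroup.mk' N) x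
    have h2 : orderOf ((x : G) : G ⧸ N) ∣ q ^ k := by rw [← hk]; exact orderOf_dvd_natCard _
    exact Nat.eq_one_of_dvd_coprimes (hx.pow_right k) h1 h2
  have hord : ∀ (q : ℕ) (S : Subgroup G), IsPGroup q S → ∀ x ∈ S, ∀ s : ℕ, s.Prime → q.Prime → s ≠ q → (orderOf x).Coprime s := by
    intro q S hS x hx s hs hq hsq
    obtain ⟨k, hk⟩ := hS ⟨x, hx⟩
    have h1 : orderOf x ∣ q ^ k := orderOf_dvd_of_pow_eq_one (congrArg Subtype.val hk)
    exact Nat.Coprime.coprime_dvd_left h1 (Nat.Coprime.pow_left k ((Nat.coprime_primes hq hs).mpr hsq.symm))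
  apply Subgroup.mem_normalizer_fintype
  intro a ha
  have hcomm : b * a * b⁻¹ * a⁻¹ = 1 := by
    rw [← orderOf_eq_one_iff]
    by_contra hne
    obtain ⟨q, hq, hqd⟩ := Nat.exists_prime_and_dvd hne
    haveI := Fact.mk hq
    obtain ⟨N, hN, hNc, hNi⟩ := H1.hasNormalPComplement_iff.mp (h q)
    have hcN : b * a * b⁻¹ * a⁻¹ ∈ N := by
      by_cases hq1 : q = p
      · -- b ∈ N
        have hbN : b ∈ N := hmem q N hN hNi b (hord r R R.2 b hb q hq hr.out (by rw [hq1]; exact hpr))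
        have e : b * a * b⁻¹ * a⁻¹ = b * (a * b⁻¹ * a⁻¹) := by group
        rw [e]; exact N.mul_mem hbN (hN.conj_mem _ (N.inv_mem hbN) a)
      · have haN : a ∈ N := hmem q N hN hNi a (hord p P P.2 a ha q hq hp.out hq1)
        exact N.mul_mem (hN.conj_mem _ haN b) (N.inv_mem haN)
    have h1 : orderOf (b * a * b⁻¹ * a⁻¹) ∣ Nat.card N := by
      rw [← Subgroup.orderOf_mk _ hcN]; exact orderOf_dvd_natCard _
    exact (Nat.Prime.coprime_iff_not_dvd hq).mp hNc.symm (hqd.trans h1)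
  have h2 : b * a * b⁻¹ = a := mul_inv_eq_one.mp hcomm
  rw [h2]; exact ha

theorem schmidt {G : Type*} [Group G] [Finite G] (hG : Cfsg.IsMinimalNonNilpotent G) :
    ∃ p q : ℕ, p.Prime ∧ q.Prime ∧ p ≠ q ∧ ∃ (Q : Subgroup G) (g : G), Q.Normal ∧ IsPGroup q Q ∧
      (∃ k : ℕ, orderOf g = p ^ k) ∧ Q ⊔ zpowers g = ⊤ ∧ g ∉ centralizer (Q : Set G) := by
  obtain ⟨hnn, hsub⟩ := hG
  obtain ⟨q, hq, hnpc⟩ : ∃ q : ℕ, ∃ _ : Fact q.Prime, ¬ HasNormalPComplement q G := by
    by_contra hne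
    apply hnn
    apply isNilpotent_of_npc
    intro q hq
    by_contra h
    exact hne ⟨q, hq, h⟩
  obtain ⟨Q, hQ, g, hg, hgo, hgC⟩ : ∃ Q : Subgroup G, IsPGroup q Q ∧ ∃ g ∈ normalizer (Q : Set G), (orderOf g).Coprime q ∧ g ∉ centralizer (Q : Set G) := by
    by_contra hne
    apply hnpc
    apply H1.frobenius_criterion
    intro Q hQ g hg hgo
    by_contra h
    exact hne ⟨Q, hQ, g, hg, hgo, h⟩
  -- key: if y ∈ N(Q), q'-element and Q ⟨y⟩ ≠ G then y centralizes Q
  have key : ∀ y ∈ normalizer (Q : Set G), (orderOf y).Coprime q → Q ⊔ zpowers y ≠ ⊤ → y ∈ centralizer (Q : Set G) := by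
    intro y hy hyo hne
    have h1 := hsub _ hne
    set L := Q ⊔ zpowers y with hL
    have hQL : Q ≤ L := le_sup_left
    have hyL : y ∈ L := Subgroup.mem_sup_right (mem_zpowers y)
    have h2 := H1.centralizes_of_nilpotent (p := q) (G := L) h1 (Q := Q.subgroupOf L) (g := ⟨y, hyL⟩) (hQ.of_equiv (Subgroup.subgroupOfEquivOfLe hQL).symm) (by
      rw [Subgroup.mem_normalizer_iff]
      intro z
      exact Subgroup.mem_normalizer_iff.mp hy z) (by rw [Subgroup.orderOf_mk]; exact hyo)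
    rw [Subgroup.mem_centralizer_iff] at h2 ⊢
    intro z hz
    exact congrArg Subtype.val (h2 ⟨z, hQL hz⟩ hz)
  have htop : Q ⊔ zpowers g = ⊤ := by
    by_contra h
    exact hgC (key g hg hgo h)
  have hQn : Q.Normal := by
    rw [← Subgroup.normalizer_eq_top_iff, eq_top_iff, ← htop]
    exact sup_le Subgroup.le_normalizer (zpowers_le.mpr hg)
  obtain ⟨j, hj⟩ := IsPGroup.iff_card.mp hQ
  have hcardsup : ∀ y : G, (orderOf y).Coprime q → Nat.card ↥(Q ⊔ zpowers y) = Nat.card Q * orderOf y := by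
    intro y hyo
    rw [L0.card_sup_of_normalizes (by rw [Subgroup.normalizer_eq_top]; exact le_top), Nat.card_zpowers]
    apply disjoint_iff.mp
    apply Subgroup.disjoint_of_coprime_natCard
    rw [Nat.card_zpowers, hj]; exact (hyo.symm).pow_left j
  have hg1 : orderOf g ≠ 1 := by
    intro h
    rw [orderOf_eq_one_iff] at h
    rw [h] at hgC
    exact hgC (Subgroup.one_mem _)
  set n := orderOf g with hn
  set p := n.minFac with hp
  have hpp : p.Prime := Nat.minFac_prime hg1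
  have hpn : p ∣ n := Nat.minFac_dvd n
  have hpq : p ≠ q := by
    intro h
    rw [h] at hpn
    exact (Nat.Prime.coprime_iff_not_dvd hq.out).mp hgo.symm hpn
  obtain ⟨a, m, hm, he⟩ := Nat.exists_eq_pow_mul_and_not_dvd (orderOf_pos g).ne' p hpp.ne_one
  rw [← hn] at he
  by_cases hm1 : m = 1
  · exact ⟨p, q, hpp, hq.out, hpq, Q, g, hQn, hQ, ⟨a, by rw [← hn, he, hm1, mul_one]⟩, htop, hgC⟩
  exfalso
  apply hgC
  have hnpos : 0 < n := orderOf_pos g
  have ha0 : a ≠ 0 := by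
    rintro rfl
    rw [pow_zero, one_mul] at he
    exact hm (he ▸ hpn)
  have hlt1 : ∀ d : ℕ, d ∣ n → d ≠ 1 → g ^ d ∈ centralizer (Q : Set G) := by
    intro d hd hd1
    have ho : orderOf (g ^ d) = n / d := by
      rw [orderOf_pow, ← hn, Nat.gcd_eq_right hd]
    have hod : (n / d) ∣ n := Nat.div_dvd_of_dvd hd
    have hco : (orderOf (g ^ d)).Coprime q := by rw [ho]; exact Nat.Coprime.coprime_dvd_left hod hgo
    refine key _ (Subgroup.pow_mem _ hg d) hco ?_
    intro h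
    have h1 := hcardsup _ hco
    have h2 := hcardsup g hgo
    rw [h, ho] at h1
    rw [htop, ← hn, h1] at h2
    have h3 : n / d = n := Nat.eq_of_mul_eq_mul_left Nat.card_pos h2
    have h4 : 1 < d := by
      rcases Nat.lt_or_ge 1 d with h5 | h5
      · exact h5
      · interval_cases d
        · simp at hd; omega
        · exact absurd rfl hd1
    have h5 := Nat.div_lt_self hnpos h4
    omega
  have hc1 := hlt1 (p ^ a) (Dvd.intro _ he.symm) (by
    intro h
    exact absurd h (Nat.one_lt_pow ha0 hpp.one_lt).ne')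
  have hc2 := hlt1 m (Dvd.intro_left _ he.symm) hm1
  have hcop : (p ^ a).Coprime m := Nat.Coprime.pow_left a ((Nat.Prime.coprime_iff_not_dvd hpp).mpr hm)
  have hbez : g = (g ^ (p ^ a)) ^ (Nat.gcdA (p ^ a) m) * (g ^ m) ^ (Nat.gcdB (p ^ a) m) := by
    have h1 := Nat.gcd_eq_gcd_ab (p ^ a) m
    rw [Nat.Coprime.gcd_eq_one hcop] at h1
    calc g = g ^ (1 : ℤ) := by rw [zpow_one]
      _ = g ^ (((p ^ a : ℕ) : ℤ) * Nat.gcdA (p ^ a) m + (m : ℤ) * Nat.gcdB (p ^ a) m) := by rw [← h1]; rfl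
      _ = _ := by rw [zpow_add, zpow_mul, zpow_mul, zpow_natCast, zpow_natCast]
  rw [hbez]
  exact Subgroup.mul_mem _ (Subgroup.zpow_mem _ hc1 _) (Subgroup.zpow_mem _ hc2 _)

/-- The Sylow structure of a minimal non-nilpotent group. -/
theorem schmidt_sylow {G : Type*} [Group G] [Finite G] (hG : Cfsg.IsMinimalNonNilpotent G) :
    ∃ p q : ℕ, ∃ _ : Fact p.Prime, ∃ _ : Fact q.Prime, p ≠ q ∧ ∃ (P : Sylow p G) (Q : Sylow q G), IsCyclic P ∧ (Q : Subgroup G).Normal ∧
      (P : Subgroup G) ⊔ Q = ⊤ ∧ ¬ (P : Subgroup G) ≤ centralizer ((Q : Subgroup G) : Set G) ∧ Nat.card G = Nat.card P * Nat.card Q := by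
  obtain ⟨p, q, hp, hq, hpq, Q, g, hQn, hQ, ⟨k, hk⟩, htop, hgC⟩ := schmidt hG
  haveI := Fact.mk hp
  haveI := Fact.mk hq
  obtain ⟨j, hj⟩ := IsPGroup.iff_card.mp hQ
  have hcop : (orderOf g).Coprime (Nat.card Q) := by
    rw [hk, hj]; exact Nat.Coprime.pow _ _ ((Nat.coprime_primes hp hq).mpr hpq)
  have hcard : Nat.card G = Nat.card Q * orderOf g := by
    rw [← Subgroup.card_top (G := G), ← htop, L0.card_sup_of_normalizes (by rw [Subgroup.normalizer_eq_top]; exact le_top), Nat.card_zpowers]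
    apply disjoint_iff.mp
    apply Subgroup.disjoint_of_coprime_natCard
    rw [Nat.card_zpowers]; exact hcop.symm
  have hQi : Q.index = p ^ k := by
    rw [← hk]
    exact Nat.eq_of_mul_eq_mul_left Nat.card_pos (Q.card_mul_index.trans hcard)
  have hPi : (zpowers g).index = Nat.card Q := by
    have h1 := (zpowers g).card_mul_index
    rw [Nat.card_zpowers, hcard, mul_comm (Nat.card Q)] at h1
    exact Nat.eq_of_mul_eq_mul_left (orderOf_pos g) h1
  have hPp : IsPGroup p (zpowers g) := IsPGroup.of_card (n := k) (by rw [Nat.card_zpowers, hk])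
  refine ⟨p, q, ⟨hp⟩, ⟨hq⟩, hpq, hPp.toSylow ?_, hQ.toSylow ?_, ?_, hQn, ?_, ?_, ?_⟩
  · rw [hPi, hj]
    exact (Nat.Prime.coprime_iff_not_dvd hp).mp (Nat.Coprime.pow_right _ ((Nat.coprime_primes hp hq).mpr hpq))
  · rw [hQi]
    exact (Nat.Prime.coprime_iff_not_dvd hq).mp (Nat.Coprime.pow_right _ ((Nat.coprime_primes hq hp).mpr hpq.symm))
  · show IsCyclic ↥(zpowers g)
    infer_instance
  · show zpowers g ⊔ Q = ⊤
    rw [sup_comm]; exact htop
  · intro h
    exact hgC (h (mem_zpowers g))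
  · show Nat.card G = Nat.card ↥(zpowers g) * Nat.card ↥Q
    rw [Nat.card_zpowers, mul_comm]; exact hcard

theorem comm_of_nilpotent {K : Type*} [Group K] [Finite K] (hK : Group.IsNilpotent K)
    (h : ∀ (r : ℕ) [Fact r.Prime] (R : Sylow r K), ∀ a ∈ (R : Subgroup K), ∀ b ∈ (R : Subgroup K), a * b = b * a) :
    ∀ a b : K, a * b = b * a := by
  obtain ⟨e⟩ := ((Group.isNilpotent_of_finite_tfae (G := K)).out 0 4).mp hK
  have key : ∀ f g : (∀ p : (Nat.card K).primeFactors, ∀ P : Sylow p K, (P : Subgroup K)), f * g = g * f := by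
    intro f g
    funext p P
    haveI : Fact (Nat.Prime (p : ℕ)) := ⟨Nat.prime_of_mem_primeFactors p.2⟩
    exact Subtype.ext (h p P _ (f p P).2 _ (g p P).2)
  intro a b
  obtain ⟨f, rfl⟩ := e.surjective a
  obtain ⟨g, rfl⟩ := e.surjective b
  rw [← map_mul, key, map_mul]

theorem schmidt_sup_ne_top {p q : ℕ} {G : Type*} [Group G] [Finite G] [Fact p.Prime] [Fact q.Prime] (hpq : p ≠ q) (P : Sylow p G) (Q : Sylow q G)
    (hc : Nat.card G = Nat.card P * Nat.card Q) {R : Subgroup G} (hRQ : R ≤ Q) (hne : R ≠ Q) (hPR : (P : Subgroup G) ≤ normalizer (R : Set G)) :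
    R ⊔ P ≠ ⊤ := by
  intro h
  have h1 := L0.card_sup_of_normalizes hPR (by
    apply disjoint_iff.mp
    apply Subgroup.disjoint_of_coprime_natCard
    obtain ⟨a, ha⟩ := IsPGroup.iff_card.mp (Q.2.to_le hRQ)
    obtain ⟨b, hb⟩ := IsPGroup.iff_card.mp P.2
    rw [ha]
    change (q ^ a).Coprime (Nat.card (P : Subgroup G))
    rw [hb]
    exact Nat.Coprime.pow _ _ ((Nat.coprime_primes Fact.out Fact.out).mpr hpq.symm))
  rw [h, Subgroup.card_top, hc, mul_comm] at h1
  have h2 : Nat.card Q = Nat.card R := Nat.eq_of_mul_eq_mul_right Nat.card_pos h1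
  exact hne (Subgroup.eq_of_le_of_card_ge hRQ h2.le)

theorem centralizes_of_isNilpotent_sup {p q : ℕ} {G : Type*} [Group G] [Finite G] [Fact p.Prime] [Fact q.Prime] (hpq : p ≠ q)
    {R P : Subgroup G} (hR : IsPGroup q R) (hP : IsPGroup p P) (hn : Group.IsNilpotent ↥(R ⊔ P)) (hPR : P ≤ normalizer (R : Set G)) :
    P ≤ centralizer (R : Set G) := by
  intro g hg
  have hgL : g ∈ R ⊔ P := (le_sup_right : P ≤ R ⊔ P) hg
  have hRL : R ≤ R ⊔ P := le_sup_left
  have hgo : (orderOf g).Coprime q := by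
    obtain ⟨b, hb⟩ := hP ⟨g, hg⟩
    have h1 : orderOf g ∣ p ^ b := orderOf_dvd_of_pow_eq_one (congrArg Subtype.val hb)
    exact Nat.Coprime.coprime_dvd_left h1 (Nat.Coprime.pow_left b ((Nat.coprime_primes Fact.out Fact.out).mpr hpq))
  have h2 := H1.centralizes_of_nilpotent (p := q) (G := ↥(R ⊔ P)) hn (Q := R.subgroupOf (R ⊔ P)) (g := ⟨g, hgL⟩) (hR.of_equiv (Subgroup.subgroupOfEquivOfLe hRL).symm) (by
      rw [Subgroup.mem_normalizer_iff]
      intro z
      exact Subgroup.mem_normalizer_iff.mp (hPR hg) z) (by rw [Subgroup.orderOf_mk]; exact hgo)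
  rw [Subgroup.mem_centralizer_iff] at h2 ⊢
  intro z hz
  exact congrArg Subtype.val (h2 ⟨z, hRL hz⟩ hz)

/-- `Q = [Q,P]` in a minimal non-nilpotent group. -/
theorem schmidt_comm {p q : ℕ} {G : Type*} [Group G] [Finite G] [Fact p.Prime] [Fact q.Prime] (hpq : p ≠ q) (hG : Cfsg.IsMinimalNonNilpotent G)
    (P : Sylow p G) (Q : Sylow q G) (hQn : (Q : Subgroup G).Normal)
    (hnc : ¬ (P : Subgroup G) ≤ centralizer ((Q : Subgroup G) : Set G)) (hc : Nat.card G = Nat.card P * Nat.card Q) :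
    ⁅(Q : Subgroup G), (P : Subgroup G)⁆ = (Q : Subgroup G) := by
  by_contra hne
  have hPQ : (P : Subgroup G) ≤ normalizer ((Q : Subgroup G) : Set G) := by rw [Subgroup.normalizer_eq_top]; exact le_top
  have hle : ⁅(Q : Subgroup G), (P : Subgroup G)⁆ ≤ Q := L0.commutator_le_of_normalizes hPQ
  have hPR : (P : Subgroup G) ≤ normalizer ((⁅(Q : Subgroup G), (P : Subgroup G)⁆ : Subgroup G) : Set G) := Subgroup.normalizer_commutator_ge_right _ _
  have h1 := schmidt_sup_ne_top hpq P Q hc hle hne hPR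
  have h2 := centralizes_of_isNilpotent_sup hpq (Q.2.to_le hle) P.2 (hG.2 _ h1) hPR
  have hcop : (Nat.card (P : Subgroup G)).Coprime (Nat.card (Q : Subgroup G)) := by
    obtain ⟨a, ha⟩ := IsPGroup.iff_card.mp Q.2
    obtain ⟨b, hb⟩ := IsPGroup.iff_card.mp P.2
    rw [ha, hb]
    exact Nat.Coprime.pow _ _ ((Nat.coprime_primes Fact.out Fact.out).mpr hpq)
  haveI : Group.IsNilpotent (P : Subgroup G) := P.2.isNilpotent
  have h3 := L0.commutator_commutator_eq hPQ hcop (Or.inl (inferInstance))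
  have h4 : ⁅⁅(Q : Subgroup G), (P : Subgroup G)⁆, (P : Subgroup G)⁆ = ⊥ := by
    rw [Subgroup.commutator_comm, Subgroup.commutator_eq_bot_iff_le_centralizer]
    exact h2
  rw [h4] at h3
  apply hnc
  rw [← Subgroup.commutator_eq_bot_iff_le_centralizer, Subgroup.commutator_comm]
  exact h3.symm

end Cfsg.Agent.H3
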