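import Mathlib
import Cfsg.Prelude
import Cfsg.Agent.H1.Subn
import Cfsg.Agent.L0.GenFit

set_option autoImplicit false
set_option linter.all false
open Cfsg
open Subgroup
open scoped Pointwise

namespace Cfsg.Agent.H3
universe u

/-- a maximal subnormal subgroup inside `M ≥ N(J)` is normal -/
theorem J_normal {G : Type*} [Group G] [Finite G] (M J : Subgroup G) (hJ : J.IsSubnormal)
    (hN : normalizer (J : Set G) ≤ M) (hmax : ∀ L : Subgroup G, L.IsSubnormal → L ≤ M → L ≤ J) : J.Normal := by
  by_contra hn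
  obtain ⟨x, hx, hle⟩ := H1.exists_conj_ne_le_normalizer hJ hn
  have h1 : MulAut.conj x • J ≤ J := hmax _ (hJ.smul _) (hle.trans hN)
  apply hx
  rw [L0.mem_normalizer_conj]
  apply Subgroup.eq_of_le_of_card_ge h1
  rw [Subgroup.pointwise_smul_def]
  exact (L0.card_map_equiv _ _).ge

theorem le_normalizer_J {G : Type*} [Group G] [Finite G] (M J : Subgroup G) (hJM : J ≤ M) (hJ : J.IsSubnormal)
    (hmax : ∀ L : Subgroup G, L.IsSubnormal → L ≤ M → L ≤ J) : M ≤ normalizer (J : Set G) := by
  intro m hm
  apply H1.mem_normalizer_of_conj_mem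
  intro x hx
  have h1 : MulAut.conj m • J ≤ M := by
    rintro _ ⟨y, hy, rfl⟩
    exact mul_mem (mul_mem hm (hJM hy)) (inv_mem hm)
  have h2 := hmax _ (hJ.smul (MulAut.conj m)) h1
  exact h2 ⟨x, hx, rfl⟩

theorem exists_J {G : Type*} [Group G] [Finite G] (M : Subgroup G) :
    ∃ J : Subgroup G, J ≤ M ∧ J.IsSubnormal ∧ ∀ L : Subgroup G, L.IsSubnormal → L ≤ M → L ≤ J := by
  refine ⟨sSup {L : Subgroup G | L.IsSubnormal ∧ L ≤ M}, ?_, ?_, ?_⟩
  · exact sSup_le fun L hL => hL.2
  · exact H1.sSup_isSubnormal _ fun L hL => hL.1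
  · exact fun L h1 h2 => le_sSup ⟨h1, h2⟩

theorem le_core_of_subnormal {G : Type*} [Group G] [Finite G] (M : Subgroup G) (hM : IsCoatom M) {N : Subgroup G}
    (hN : N.IsSubnormal) (hNM : N ≤ M) : N ≤ M.normalCore := by
  obtain ⟨J, hJM, hJ, hmax⟩ := exists_J M
  have h1 := le_normalizer_J M J hJM hJ hmax
  have hJn : J.Normal := by
    rcases hM.le_iff.1 h1 with h | h
    · exact normalizer_eq_top_iff.1 h
    · exact J_normal M J hJ h.le hmax
  exact (hmax N hN hNM).trans (Subgroup.normal_le_normalCore.2 hJM)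

theorem subnormal_of_nilpotent {F : Type*} [Group F] [Finite F] (hF : Group.IsNilpotent F) (n : ℕ) :
    ∀ K : Subgroup F, K.index = n → K.IsSubnormal := by
  induction n using Nat.strong_induction_on with
  | _ n ih =>
  intro K hK
  by_cases hKt : K = ⊤
  · rw [hKt]; exact IsSubnormal.top
  · have h1 : K < normalizer (K : Set F) := Group.normalizerCondition_of_isNilpotent K (lt_top_iff_ne_top.2 hKt)
    have h2 : (normalizer (K : Set F)).index < n := by
      rw [← hK]
      have h3 := Subgroup.relIndex_mul_index h1.le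
      have h4 : K.relIndex (normalizer (K : Set F)) ≠ 1 := by
        rw [Ne, Subgroup.relIndex_eq_one]; exact h1.not_ge
      have h5 : (normalizer (K : Set F)).index ≠ 0 := Subgroup.index_ne_zero_of_finite
      have h6 : K.index ≠ 0 := Subgroup.index_ne_zero_of_finite
      have h7 : K.relIndex (normalizer (K : Set F)) ≠ 0 := by
        intro h; rw [h, zero_mul] at h3; exact h6 h3.symm
      rw [← h3]
      have h8 : 2 ≤ K.relIndex (normalizer (K : Set F)) := by omega
      have h9 : 1 ≤ (normalizer (K : Set F)).index := by omega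
      nlinarith
    have h3 := ih _ h2 _ rfl
    have h4 : (K.subgroupOf (normalizer (K : Set F))).Normal :=
      (Subgroup.normal_subgroupOf_iff_le_normalizer h1.le).2 le_rfl
    exact IsSubnormal.trans h1.le h4.isSubnormal h3

theorem subnormal_of_le_fitting {G : Type*} [Group G] [Finite G] {K : Subgroup G} (h : K ≤ fittingSubgroup G) : K.IsSubnormal := by
  haveI : (fittingSubgroup G).Normal := inferInstance
  exact IsSubnormal.trans h (subnormal_of_nilpotent (L0.fittingSubgroup_isNilpotent G) _ _ rfl)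
    (inferInstance : (fittingSubgroup G).Normal).isSubnormal

end Cfsg.Agent.H3
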