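import Mathlib
import Cfsg.Agent.H3.Basic

set_option autoImplicit false

/-! The permutation group induced on the set of Sylow subgroups. -/

namespace Cfsg.Agent.H3

open MulAction Subgroup
open scoped Pointwise

theorem sylow_eq_of_le_normalizer {G : Type*} [Group G] [Finite G] {p : ℕ} [Fact p.Prime]
    (P Q : Sylow p G) (h : (P : Subgroup G) ≤ normalizer ((Q : Subgroup G) : Set G)) : P = Q := by
  apply sylow_eq_of_le
  have h1 : (P : Subgroup G) ⊓ normalizer ((Q : Subgroup G) : Set G) = (P : Subgroup G) ⊓ Q :=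
    P.isPGroup'.inf_normalizer_sylow Q
  have h2 : (P : Subgroup G) ⊓ normalizer ((Q : Subgroup G) : Set G) = P := inf_eq_left.mpr h
  rw [h2] at h1
  exact (h1.le).trans inf_le_right

theorem smul_eq_iff_mem_normalizer' {G : Type*} [Group G] {p : ℕ} {g : G} {P : Sylow p G} :
    g • P = P ↔ g ∈ normalizer ((P : Subgroup G) : Set G) := Sylow.smul_eq_iff_mem_normalizer

/-- The faithful reduction: a permutation group on `Sylow p G` with the same Sylow system. -/
theorem exists_sylRep (G : Type*) [Group G] [Finite G] (p : ℕ) [Fact p.Prime] :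
    ∃ (R : Subgroup (Equiv.Perm (Sylow p G))) (S : Sylow p G → Sylow p R),
      IsPretransitive R (Sylow p G) ∧ Nat.card (Sylow p R) = Nat.card (Sylow p G) ∧
      (∀ (ω : Sylow p G) (x : R), (x : Equiv.Perm (Sylow p G)) ω = ω ↔
        x ∈ normalizer ((S ω : Subgroup R) : Set R)) ∧
      (∀ ω ω' : Sylow p G, (∀ x ∈ S ω, (x : Equiv.Perm (Sylow p G)) ω' = ω') → ω' = ω) := by
  set φ := MulAction.toPermHom G (Sylow p G) with hφ
  have hsurj : Function.Surjective φ.rangeRestrict := φ.rangeRestrict_surjective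
  have happ : ∀ (g : G) (ω : Sylow p G), ((φ.rangeRestrict g : φ.range) : Equiv.Perm (Sylow p G)) ω = g • ω :=
    fun g ω => rfl
  have hmem : ∀ (ω : Sylow p G) (y : φ.range), y ∈ ω.mapSurjective hsurj ↔
      ∃ q ∈ ω, φ.rangeRestrict q = y := by
    intro ω y
    exact Iff.rfl
  have hfix : ∀ ω ω' : Sylow p G, (∀ x ∈ ω.mapSurjective hsurj, (x : Equiv.Perm (Sylow p G)) ω' = ω') → ω' = ω := by
    intro ω ω' h
    symm
    apply sylow_eq_of_le_normalizer
    intro q hq
    rw [← smul_eq_iff_mem_normalizer']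
    exact h _ ((hmem ω _).mpr ⟨q, hq, rfl⟩)
  refine ⟨φ.range, fun ω => ω.mapSurjective hsurj, ?_, ?_, ?_, hfix⟩
  · constructor
    intro ω ω'
    obtain ⟨g, hg⟩ := MulAction.exists_smul_eq G ω ω'
    exact ⟨φ.rangeRestrict g, hg⟩
  · symm
    refine Nat.card_congr (Equiv.ofBijective (fun ω => ω.mapSurjective hsurj) ⟨?_, ?_⟩)
    · intro Q1 Q2 h
      apply sylow_eq_of_le_normalizer
      intro q hq
      rw [← smul_eq_iff_mem_normalizer']
      have h1 : φ.rangeRestrict q ∈ Q2.mapSurjective hsurj := by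
        have h2 : φ.rangeRestrict q ∈ Q1.mapSurjective hsurj := (hmem Q1 _).mpr ⟨q, hq, rfl⟩
        have h3 : Q1.mapSurjective hsurj = Q2.mapSurjective hsurj := h
        rwa [h3] at h2
      obtain ⟨q2, hq2, h2⟩ := (hmem Q2 _).mp h1
      have h3 : q • Q2 = q2 • Q2 := by
        rw [← happ, ← happ, h2]
      rw [h3, smul_eq_iff_mem_normalizer']
      exact le_normalizer hq2
    · exact Sylow.mapSurjective_surjective hsurj p
  · intro ω x
    obtain ⟨g, rfl⟩ := hsurj x
    rw [happ, smul_eq_iff_mem_normalizer']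
    constructor
    · intro hg
      rw [mem_normalizer_iff] at hg ⊢
      intro y
      obtain ⟨z, rfl⟩ := hsurj y
      have key : ∀ g : G, g ∈ normalizer ((ω : Subgroup G) : Set G) → ∀ z : G, φ.rangeRestrict z ∈ ω.mapSurjective hsurj →
          φ.rangeRestrict g * φ.rangeRestrict z * (φ.rangeRestrict g)⁻¹ ∈ ω.mapSurjective hsurj := by
        intro g hg z hz
        rw [mem_normalizer_iff] at hg
        obtain ⟨q, hq, h⟩ := (hmem ω _).mp hz
        refine (hmem ω _).mpr ⟨g * q * g⁻¹, (hg q).mp hq, ?_⟩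
        rw [← h, map_mul, map_mul, map_inv]
      constructor
      · intro h
        exact key g (by rw [mem_normalizer_iff]; exact hg) z h
      · intro h
        have h1 := key g⁻¹ (inv_mem (by rw [mem_normalizer_iff]; exact hg)) (g * z * g⁻¹) (by
          rw [map_mul, map_mul, map_inv]; exact h)
        have h2 : φ.rangeRestrict g⁻¹ * φ.rangeRestrict (g * z * g⁻¹) * (φ.rangeRestrict g⁻¹)⁻¹ = φ.rangeRestrict z := by
          rw [← map_inv, ← map_mul, ← map_mul]
          congr 1
          group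
        rw [h2] at h1
        exact h1
    · intro hg
      rw [← smul_eq_iff_mem_normalizer']
      symm
      have : ω = g • ω := by
        apply hfix
        intro x hx
        -- x ∈ image of (g • ω)
        obtain ⟨q, hq, rfl⟩ := (hmem _ _).mp hx
        rw [happ]
        have hq' : g⁻¹ * q * g ∈ ω := by
          rw [Sylow.smul_def] at hq
          have := (mem_pointwise_smul_iff_inv_smul_mem (a := MulAut.conj g) (S := (ω : Subgroup G)) (x := q)).mp hq
          rw [← map_inv, MulAut.smul_def, MulAut.conj_apply, inv_inv] at this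
          exact this
        have h1 : φ.rangeRestrict (g⁻¹ * q * g) ∈ ω.mapSurjective hsurj := (hmem _ _).mpr ⟨_, hq', rfl⟩
        have h2 : φ.rangeRestrict q ∈ ω.mapSurjective hsurj := by
          rw [mem_normalizer_iff] at hg
          have h3 := (hg (φ.rangeRestrict (g⁻¹ * q * g))).mp h1
          have h4 : φ.rangeRestrict g * φ.rangeRestrict (g⁻¹ * q * g) * (φ.rangeRestrict g)⁻¹ = φ.rangeRestrict q := by
            rw [← map_inv, ← map_mul, ← map_mul]
            congr 1
            group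
          rw [h4] at h3
          exact h3
        obtain ⟨q2, hq2, h5⟩ := (hmem _ _).mp h2
        rw [← happ, ← h5, happ, smul_eq_iff_mem_normalizer']
        exact le_normalizer hq2
      exact this

/-- blocks through the fixed point of a Sylow `p`-subgroup have order `1` mod `p`. -/
theorem block_card_modEq {Ω : Type*} [Finite Ω] {p : ℕ} [Fact p.Prime] {R : Subgroup (Equiv.Perm Ω)}
    (P : Subgroup R) (hP : IsPGroup p P) (α : Ω) (hα : ∀ x ∈ P, (x : Equiv.Perm Ω) α = α)
    (hfix : ∀ ω' : Ω, (∀ x ∈ P, (x : Equiv.Perm Ω) ω' = ω') → ω' = α)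
    {B : Set Ω} (hB : IsBlock R B) (hαB : α ∈ B) : Nat.card B ≡ 1 [MOD p] := by
  let T : SubMulAction P Ω :=
    { carrier := B
      smul_mem' := by
        intro c x hx
        have h1 : (c : R) • B = B := by
          have hne : ((c : R) • B ∩ B).Nonempty := by
            refine ⟨α, ?_, hαB⟩
            refine ⟨α, hαB, ?_⟩
            exact hα c c.2
          exact hB.smul_eq_of_nonempty hne
        rw [← h1]
        exact ⟨x, hx, rfl⟩ }
  have h1 := hP.card_modEq_card_fixedPoints T
  have h2 : Nat.card (fixedPoints P T) = 1 := by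
    rw [Nat.card_eq_one_iff_unique]
    constructor
    · constructor
      rintro ⟨⟨x, hx⟩, hx'⟩ ⟨⟨y, hy⟩, hy'⟩
      have hx2 : x = α := hfix x (fun z hz => congrArg Subtype.val (hx' ⟨z, hz⟩))
      have hy2 : y = α := hfix y (fun z hz => congrArg Subtype.val (hy' ⟨z, hz⟩))
      subst hx2
      subst hy2
      rfl
    · exact ⟨⟨⟨α, hαB⟩, fun z => Subtype.ext (hα z z.2)⟩⟩
  rw [h2] at h1
  exact h1

theorem isPreprimitive_of_sylow {Ω : Type*} [Finite Ω] {p : ℕ} [Fact p.Prime] {R : Subgroup (Equiv.Perm Ω)}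
    (hR : IsPretransitive R Ω)
    (P : Subgroup R) (hP : IsPGroup p P) (α : Ω) (hα : ∀ x ∈ P, (x : Equiv.Perm Ω) α = α)
    (hfix : ∀ ω' : Ω, (∀ x ∈ P, (x : Equiv.Perm Ω) ω' = ω') → ω' = α)
    (hn : ∀ d : ℕ, d ∣ Nat.card Ω → d ≡ 1 [MOD p] → d = 1 ∨ d = Nat.card Ω) : IsPreprimitive R Ω := by
  refine IsPreprimitive.of_isTrivialBlock_base α ?_
  intro B hαB hB
  have h1 := block_card_modEq P hP α hα hfix hB hαB
  have h2 : Nat.card B ∣ Nat.card Ω := by
    have := hB.ncard_dvd_card ⟨α, hαB⟩
    rwa [← Nat.card_coe_set_eq] at this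
  rcases hn _ h2 h1 with h | h
  · left
    rw [Nat.card_eq_one_iff_unique] at h
    exact Set.subsingleton_coe B |>.mp h.1
  · right
    rw [Nat.card_coe_set_eq] at h
    rw [Set.eq_univ_iff_ncard]
    exact h

end Cfsg.Agent.H3
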