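import Mathlib
import Cfsg.Agent.H1.Hall
import Cfsg.Agent.H3.Schmidt
import Cfsg.Prelude.Def_SolvableStructure
set_option autoImplicit false
set_option linter.unusedVariables false
set_option linter.style.haveILetI false
/-! System normalizers. -/
open Subgroup Pointwise

namespace Cfsg.Agent.H3

theorem index_inf_of_coprime {G : Type*} [Group G] [Finite G] {A B : Subgroup G} (h : A.index.Coprime B.index) :
    (A ⊓ B).index = A.index * B.index := by
  apply le_antisymm (Subgroup.index_inf_le)
  apply Nat.le_of_dvd (Nat.pos_of_ne_zero Subgroup.index_ne_zero_of_finite)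
  exact h.mul_dvd_of_dvd_of_dvd (Subgroup.index_dvd_of_le inf_le_left) (Subgroup.index_dvd_of_le inf_le_right)

theorem exists_mul_of_coprime_index {G : Type*} [Group G] [Finite G] {A B : Subgroup G} (h : A.index.Coprime B.index) (g : G) :
    ∃ a ∈ A, ∃ b ∈ B, a * b = g := by
  have h1 := index_inf_of_coprime h
  have h2 : (A ⊓ B).index = (A ⊓ B).relIndex A * A.index := (Subgroup.relIndex_mul_index inf_le_left).symm
  rw [Subgroup.inf_relIndex_left] at h2
  have h3 : B.relIndex A = B.index := by
    apply Nat.eq_of_mul_eq_mul_right (Nat.pos_of_ne_zero (Subgroup.index_ne_zero_of_finite (H := A)))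
    rw [← h2, h1, mul_comm]
  -- A acts transitively on G/B
  have hinj : Function.Injective (fun a : A ⧸ B.subgroupOf A => Quotient.liftOn' a (fun a => ((a : G) : G ⧸ B)) (by
      intro a b hab
      rw [QuotientGroup.leftRel_apply] at hab
      exact QuotientGroup.eq.mpr hab)) := by
    intro a b
    induction a using QuotientGroup.induction_on with
    | H a =>
    induction b using QuotientGroup.induction_on with
    | H b =>
    intro hab
    have hab' : ((a : G) : G ⧸ B) = (b : G) := hab
    have hm : (a : G)⁻¹ * (b : G) ∈ B := QuotientGroup.eq.mp hab'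
    apply QuotientGroup.eq.mpr
    rw [Subgroup.mem_subgroupOf]
    exact hm
  have hcard : Nat.card (A ⧸ B.subgroupOf A) = Nat.card (G ⧸ B) := h3
  have hsurj := (Nat.bijective_iff_injective_and_card _).mpr ⟨hinj, hcard⟩
  obtain ⟨a, ha⟩ := hsurj.2 (g : G ⧸ B)
  induction a using QuotientGroup.induction_on with
  | H a =>
  have ha' : ((a : G) : G ⧸ B) = (g : G) := ha
  refine ⟨a, a.2, (a : G)⁻¹ * g, QuotientGroup.eq.mp ha', by group⟩

/-- simultaneous transport -/
theorem simul {N : Type*} [Group N] [Finite N] {X : Type*} [MulAction N X] {ι : Type*} [DecidableEq ι] (S : Finset ι) (x y : ι → X)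
    (h : ∀ i ∈ S, ∃ n : N, n • x i = y i)
    (hcop : ∀ i ∈ S, ∀ j ∈ S, i ≠ j → (MulAction.stabilizer N (x i)).index.Coprime (MulAction.stabilizer N (x j)).index) :
    ∃ n : N, ∀ i ∈ S, n • x i = y i := by
  induction S using Finset.induction_on with
  | empty => exact ⟨1, by simp⟩
  | insert i S hi ih =>
    obtain ⟨n, hn⟩ := ih (fun j hj => h j (Finset.mem_insert_of_mem hj)) (fun j hj k hk => hcop j (Finset.mem_insert_of_mem hj) k (Finset.mem_insert_of_mem hk))
    obtain ⟨m, hm⟩ := h i (Finset.mem_insert_self i S)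
    -- H = ⋂ stabilizers of x j, j ∈ S
    have hH : ∀ T : Finset ι, T ⊆ S → (T.inf (fun j => MulAction.stabilizer N (x j))).index = ∏ j ∈ T, (MulAction.stabilizer N (x j)).index := by
      intro T
      induction T using Finset.induction_on with
      | empty => intro _; simp
      | insert j T hj ihT =>
        intro hT
        rw [Finset.inf_insert, Finset.prod_insert hj]
        have ih' := ihT ((Finset.subset_insert j T).trans hT)
        rw [← ih']
        apply index_inf_of_coprime
        rw [ih']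
        apply Nat.Coprime.prod_right
        intro k hk
        apply hcop j (Finset.mem_insert_of_mem (hT (Finset.mem_insert_self j T))) k (Finset.mem_insert_of_mem (hT (Finset.mem_insert_of_mem hk)))
        rintro rfl
        exact hj hk
    have hco : (S.inf (fun j => MulAction.stabilizer N (x j))).index.Coprime (MulAction.stabilizer N (x i)).index := by
      rw [hH S le_rfl]
      apply Nat.Coprime.prod_left
      intro k hk
      apply hcop k (Finset.mem_insert_of_mem hk) i (Finset.mem_insert_self i S)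
      rintro rfl
      exact hi hk
    obtain ⟨a, ha, b, hb, hab⟩ := exists_mul_of_coprime_index hco (n⁻¹ * m)
    refine ⟨n * a, ?_⟩
    intro j hj
    rw [Finset.mem_insert] at hj
    rcases hj with rfl | hj
    · have hb' : b • x j = x j := hb
      have : n * a = m * b⁻¹ := by
        have : a = n⁻¹ * m * b⁻¹ := by rw [← hab]; group
        rw [this]; group
      rw [this, mul_smul, inv_smul_eq_iff.mpr hb'.symm, hm]
    · have ha' : a • x j = x j := by
        have : a ∈ MulAction.stabilizer N (x j) := (Finset.inf_le (f := fun j => MulAction.stabilizer N (x j)) hj) ha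
        exact this
      rw [mul_smul, ha', hn j hj]

theorem IsComplementSystem.coprime {G : Type*} [Group G] [Finite G] {K : Nat.Primes → Subgroup G} (hK : Cfsg.IsComplementSystem K) (p : Nat.Primes) :
    (Nat.card (K p)).Coprime (p : ℕ) := by
  have hp : (p : ℕ).Prime := p.2
  rw [Nat.coprime_comm, Nat.Prime.coprime_iff_not_dvd hp]
  intro hd
  have h1 := (K p).card_mul_index
  rw [hK p] at h1
  obtain ⟨m, hm⟩ := hd
  have h3 : ∀ e : ℕ, Nat.card (K p) * (p : ℕ) ^ e = Nat.card G → (p : ℕ) ^ (e + 1) ∣ Nat.card G :=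
    fun e he => ⟨m, by rw [← he, hm, pow_succ]; ring⟩
  have h2 := h3 _ h1
  exact Nat.pow_succ_factorization_not_dvd Nat.card_pos.ne' hp h2

theorem relIndex_sup_eq {G : Type*} [Group G] [Finite G] (K N : Subgroup G) [N.Normal] : K.relIndex (N ⊔ K) = K.relIndex N := by
  have h1 : N.relIndex (N ⊔ K) = N.relIndex K := Subgroup.relIndex_sup_left _ _
  have h2 := Subgroup.relIndex_mul_relIndex ⊥ N (N ⊔ K) bot_le le_sup_left
  have h3 := Subgroup.relIndex_mul_relIndex ⊥ K (N ⊔ K) bot_le le_sup_right
  have h4 := Subgroup.relIndex_mul_relIndex ⊥ (N ⊓ K) N bot_le inf_le_left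
  have h5 := Subgroup.relIndex_mul_relIndex ⊥ (N ⊓ K) K bot_le inf_le_right
  rw [Subgroup.inf_relIndex_left] at h4
  rw [Subgroup.inf_relIndex_right] at h5
  simp only [Subgroup.relIndex_bot_left] at h2 h3 h4 h5
  apply Nat.eq_of_mul_eq_mul_left (Nat.card_pos (α := K))
  rw [h3, ← h2, h1, ← h4, ← h5]; ring

theorem relIndex_dvd_index {G : Type*} [Group G] [Finite G] (K N : Subgroup G) [N.Normal] : K.relIndex N ∣ K.index := by
  rw [← relIndex_sup_eq]
  exact Dvd.intro _ (Subgroup.relIndex_mul_index (le_sup_right : K ≤ N ⊔ K))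

theorem relIndex_normalizer_dvd {G : Type*} [Group G] [Finite G] {K : Nat.Primes → Subgroup G} (hK : Cfsg.IsComplementSystem K) (p : Nat.Primes)
    (N : Subgroup G) [hN : N.Normal] : ((Subgroup.normalizer ((K p : Subgroup G) : Set G))).relIndex N ∣ (p : ℕ) ^ (Nat.card G).factorization p := by
  rw [← hK p]
  have h1 : (Subgroup.normalizer ((K p : Subgroup G) : Set G)).relIndex N ∣ (K p).relIndex N := Subgroup.relIndex_dvd_of_le_left N Subgroup.le_normalizer
  refine h1.trans ?_
  exact relIndex_dvd_index (K p) N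

theorem sys_transport {G : Type*} [Group G] [Finite G] {K L : Nat.Primes → Subgroup G} (hK : Cfsg.IsComplementSystem K) (hL : Cfsg.IsComplementSystem L)
    (N : Subgroup G) [hN : N.Normal] (h : ∀ p, ∃ n ∈ N, MulAut.conj n • K p = L p) : ∃ n ∈ N, ∀ p, MulAut.conj n • K p = L p := by
  classical
  letI : MulAction N (Subgroup G) := MulAction.compHom (Subgroup G) ((MulAut.conj : G →* MulAut G).comp N.subtype)
  have hsm : ∀ (n : N) (H : Subgroup G), n • H = MulAut.conj (n : G) • H := fun n H => rfl
  have hst : ∀ p, (MulAction.stabilizer N (K p)).index = (Subgroup.normalizer ((K p : Subgroup G) : Set G)).relIndex N := by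
    intro p
    rw [Subgroup.relIndex]
    congr 1
    ext n
    rw [MulAction.mem_stabilizer_iff, hsm, Subgroup.mem_subgroupOf, L0.mem_normalizer_conj]
  let S : Finset Nat.Primes := (Nat.card G).primeFactors.subtype Nat.Prime
  obtain ⟨n, hn⟩ := simul (N := N) (X := Subgroup G) S K L (by
    intro p _
    obtain ⟨n, hn, hnp⟩ := h p
    exact ⟨⟨n, hn⟩, hnp⟩) (by
    intro p _ q _ hpq
    rw [hst, hst]
    apply Nat.Coprime.coprime_dvd_left (relIndex_normalizer_dvd hK p N)
    apply Nat.Coprime.coprime_dvd_right (relIndex_normalizer_dvd hK q N)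
    apply Nat.Coprime.pow
    rw [Nat.coprime_primes p.2 q.2]
    exact fun h => hpq (Subtype.ext h))
  refine ⟨n, n.2, ?_⟩
  intro p
  by_cases hp : p ∈ S
  · exact hn p hp
  · have hp' : (Nat.card G).factorization p = 0 := by
      by_contra h0
      exact hp (Finset.mem_subtype.mpr (by rw [← Nat.support_factorization, Finsupp.mem_support_iff]; exact h0))
    have hKt : K p = ⊤ := by rw [← Subgroup.index_eq_one, hK p, hp', pow_zero]
    have hLt : L p = ⊤ := by rw [← Subgroup.index_eq_one, hL p, hp', pow_zero]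
    rw [hKt, hLt, eq_top_iff]
    intro x _
    rw [L0.mem_conj_smul]; trivial

theorem sys_conj {G : Type*} [Group G] [Finite G] (hs : Group.IsSolvable G) {K L : Nat.Primes → Subgroup G} (hK : Cfsg.IsComplementSystem K) (hL : Cfsg.IsComplementSystem L) :
    ∃ g : G, ∀ p, MulAut.conj g • K p = L p := by
  obtain ⟨g, -, hg⟩ := sys_transport hK hL ⊤ (by
    intro p
    have h1 := (K p).card_mul_index
    have h2 : Nat.card (L p) = Nat.card (K p) := by
      apply Nat.eq_of_mul_eq_mul_right (Nat.pos_of_ne_zero (Subgroup.index_ne_zero_of_finite (H := K p)))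
      rw [h1, hK p, ← hL p, (L p).card_mul_index]
    obtain ⟨g, hg⟩ := H1.hall_conj hs h1.symm (by rw [hK p]; exact (IsComplementSystem.coprime hK p).pow_right _) rfl h2
    exact ⟨g, mem_top g, hg⟩)
  exact ⟨g, hg⟩

theorem sysNormalizer_nilpotent {G : Type*} [Group G] [Finite G] {K : Nat.Primes → Subgroup G} (hK : Cfsg.IsComplementSystem K) :
    Group.IsNilpotent (Cfsg.systemNormalizer K) := by
  apply isNilpotent_of_npc
  intro p hp
  rw [H1.hasNormalPComplement_iff]
  have hle : Cfsg.systemNormalizer K ≤ Subgroup.normalizer ((K ⟨p, hp.out⟩ : Subgroup G) : Set G) := iInf_le _ _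
  set D := Cfsg.systemNormalizer K with hD
  set Kp := K ⟨p, hp.out⟩ with hKp
  have hi : Kp.relIndex D ∣ p ^ (Nat.card G).factorization p := by
    rw [← L0.relIndex_sup_of_normalizes hle]
    have := hK ⟨p, hp.out⟩
    change _ = p ^ (Nat.card G).factorization p at this
    rw [← this]
    exact Subgroup.relIndex_dvd_index_of_le le_sup_left
  obtain ⟨k, -, hk⟩ := (Nat.dvd_prime_pow hp.out).mp hi
  refine ⟨Kp.subgroupOf D, ?_, ?_, k, hk⟩
  · rw [Subgroup.normal_subgroupOf_iff_le_normalizer_inf]
    exact (le_inf hle le_rfl).trans (by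
      rintro x ⟨hx1, hx2⟩
      have hx3 : x ∈ D := hx2
      apply Subgroup.mem_normalizer_fintype
      rintro y ⟨hy1, hy2⟩
      exact ⟨(Subgroup.mem_normalizer_iff.mp hx1 y).mp hy1, D.mul_mem (D.mul_mem hx3 hy2) (D.inv_mem hx3)⟩)
  · apply Nat.Coprime.coprime_dvd_left _ (IsComplementSystem.coprime hK ⟨p, hp.out⟩)
    rw [← Subgroup.card_map_of_injective D.subtype_injective, Subgroup.subgroupOf_map_subtype]
    exact Subgroup.card_dvd_of_le inf_le_left

theorem sys_map {G : Type*} [Group G] [Finite G] {K : Nat.Primes → Subgroup G} (hK : Cfsg.IsComplementSystem K) (N : Subgroup G) [hN : N.Normal] :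
    Cfsg.IsComplementSystem (fun p => (K p).map (QuotientGroup.mk' N)) := by
  intro p
  have hp : (p : ℕ).Prime := p.2
  have h1 : ((K p).map (QuotientGroup.mk' N)).index ∣ (K p).index := Subgroup.index_map_dvd _ (QuotientGroup.mk'_surjective N)
  rw [hK p] at h1
  obtain ⟨c, -, hc⟩ := (Nat.dvd_prime_pow hp).mp h1
  have h2 := ((K p).map (QuotientGroup.mk' N)).card_mul_index
  have h3 : Nat.card ((K p).map (QuotientGroup.mk' N)) ∣ Nat.card (K p) := Subgroup.card_map_dvd _ _
  have h4 : (Nat.card ((K p).map (QuotientGroup.mk' N))).factorization p = 0 := by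
    apply Nat.factorization_eq_zero_of_not_dvd
    intro hd
    have h5 := IsComplementSystem.coprime hK p
    rw [Nat.coprime_comm, Nat.Prime.coprime_iff_not_dvd hp] at h5
    exact h5 (hd.trans h3)
  change ((K p).map (QuotientGroup.mk' N)).index = _
  rw [hc]
  congr 1
  rw [← h2, hc, Nat.factorization_mul Nat.card_pos.ne' (pow_ne_zero _ hp.ne_zero), Finsupp.add_apply, h4, zero_add, hp.factorization_pow, Finsupp.single_eq_same]

theorem sys_conj_system {G : Type*} [Group G] [Finite G] {K : Nat.Primes → Subgroup G} (hK : Cfsg.IsComplementSystem K) (x : G) :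
    Cfsg.IsComplementSystem (fun p => MulAut.conj x • K p) := by
  intro p
  have h1 : Nat.card (MulAut.conj x • K p : Subgroup G) = Nat.card (K p) := L0.card_conj_smul _ _
  change (MulAut.conj x • K p : Subgroup G).index = _
  rw [← hK p]
  apply Nat.eq_of_mul_eq_mul_left (Nat.card_pos (α := K p))
  rw [(K p).card_mul_index, ← h1, Subgroup.card_mul_index]

theorem hall_conj_in {G : Type*} [Group G] [Finite G] (hs : Group.IsSolvable G) {A B N : Subgroup G} [N.Normal] (hAB : Nat.card B = Nat.card A)
    (hcop : (Nat.card A).Coprime (A.relIndex (N ⊔ A))) (hB : B ≤ N ⊔ A) : ∃ n ∈ N, MulAut.conj n • A = B := by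
  set T := N ⊔ A with hT
  have hAT : A ≤ T := le_sup_right
  have h1 : Nat.card (A.subgroupOf T) = Nat.card A := Nat.card_congr (Subgroup.subgroupOfEquivOfLe hAT).toEquiv
  have h2 : Nat.card (B.subgroupOf T) = Nat.card A := by rw [← hAB]; exact Nat.card_congr (Subgroup.subgroupOfEquivOfLe hB).toEquiv
  have hTs : Group.IsSolvable T := inferInstance
  obtain ⟨g, hg⟩ := H1.hall_conj (G := T) hTs (a := Nat.card A) (b := A.relIndex T) (by
    rw [← h1]; exact ((A.subgroupOf T).card_mul_index).symm) hcop h1 h2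
  have hg' : MulAut.conj (g : G) • A = B := by
    ext x
    constructor
    · intro hx
      rw [L0.mem_conj_smul] at hx
      have hxT : x ∈ T := by
        have := T.mul_mem (T.mul_mem g.2 (hAT hx)) (T.inv_mem g.2)
        have e : (g : G) * ((g : G)⁻¹ * x * g) * (g : G)⁻¹ = x := by group
        rwa [e] at this
      have h3 : (⟨x, hxT⟩ : T) ∈ MulAut.conj g • A.subgroupOf T := by
        rw [L0.mem_conj_smul, Subgroup.mem_subgroupOf]
        exact hx
      rw [hg, Subgroup.mem_subgroupOf] at h3
      exact h3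
    · intro hx
      have h3 : (⟨x, hB hx⟩ : T) ∈ B.subgroupOf T := by rw [Subgroup.mem_subgroupOf]; exact hx
      rw [← hg, L0.mem_conj_smul, Subgroup.mem_subgroupOf] at h3
      rw [L0.mem_conj_smul]
      exact h3
  have hgT : (g : G) ∈ N ⊔ A := g.2
  rw [Subgroup.mem_sup_of_normal_left] at hgT
  obtain ⟨n, hn, a, ha, hna⟩ := hgT
  refine ⟨n, hn, ?_⟩
  rw [← hg', ← hna, map_mul, mul_smul]
  congr 1
  exact (L0.mem_normalizer_conj.mp (Subgroup.le_normalizer ha)).symm

theorem sys_quotient {G : Type*} [Group G] [Finite G] (hs : Group.IsSolvable G) {K : Nat.Primes → Subgroup G} (hK : Cfsg.IsComplementSystem K) (N : Subgroup G) [hN : N.Normal] :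
    Cfsg.systemNormalizer (fun p => (K p).map (QuotientGroup.mk' N)) = (Cfsg.systemNormalizer K).map (QuotientGroup.mk' N) := by
  apply le_antisymm
  · intro x hx
    obtain ⟨x, rfl⟩ := QuotientGroup.mk'_surjective N x
    rw [Cfsg.systemNormalizer, Subgroup.mem_iInf] at hx
    obtain ⟨n, hn, hnp⟩ := sys_transport hK (sys_conj_system hK x) N (by
      intro p
      apply hall_conj_in hs (L0.card_conj_smul _ _) _ _
      · have h1 : (K p).relIndex (N ⊔ K p) ∣ (K p).index := Dvd.intro _ (Subgroup.relIndex_mul_index le_sup_right)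
        rw [hK p] at h1
        exact Nat.Coprime.coprime_dvd_right h1 ((IsComplementSystem.coprime hK p).pow_right _)
      · intro y hy
        rw [L0.mem_conj_smul] at hy
        have h1 : QuotientGroup.mk' N x * QuotientGroup.mk' N (x⁻¹ * y * x) * (QuotientGroup.mk' N x)⁻¹ ∈ (K p).map (QuotientGroup.mk' N) :=
          (Subgroup.mem_normalizer_iff.mp (hx p) _).mp ⟨_, hy, rfl⟩
        rw [← map_inv, ← map_mul, ← map_mul] at h1
        have e : x * (x⁻¹ * y * x) * x⁻¹ = y := by group
        rw [e] at h1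
        obtain ⟨z, hz, hzy⟩ := h1
        rw [QuotientGroup.mk'_apply, QuotientGroup.mk'_apply, QuotientGroup.eq] at hzy
        have h2 := Subgroup.mul_mem_sup (hN.conj_mem _ hzy z) hz
        have e : z * (z⁻¹ * y) * z⁻¹ * z = y := by group
        rwa [e] at h2)
    refine ⟨n⁻¹ * x, ?_, ?_⟩
    · rw [Cfsg.systemNormalizer, SetLike.mem_coe, Subgroup.mem_iInf]
      intro p
      rw [L0.mem_normalizer_conj, map_mul, mul_smul, map_inv, inv_smul_eq_iff]
      exact (hnp p).symm
    · rw [QuotientGroup.mk'_apply, QuotientGroup.mk'_apply, QuotientGroup.eq]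
      have e : (n⁻¹ * x)⁻¹ * x = x⁻¹ * n * x⁻¹⁻¹ := by group
      rw [e]; exact hN.conj_mem _ hn _
  · rintro _ ⟨x, hx, rfl⟩
    rw [Cfsg.systemNormalizer, SetLike.mem_coe, Subgroup.mem_iInf] at hx
    rw [Cfsg.systemNormalizer, Subgroup.mem_iInf]
    intro p
    apply Subgroup.mem_normalizer_fintype
    rintro _ ⟨y, hy, rfl⟩
    exact ⟨x * y * x⁻¹, (Subgroup.mem_normalizer_iff.mp (hx p) y).mp hy, by rw [map_mul, map_mul, map_inv]⟩

end Cfsg.Agent.H3
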