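import Mathlib
import Cfsg.Agent.H3.FrobThm
import Cfsg.Agent.L0.Coprime

set_option autoImplicit false

namespace Cfsg.Agent.H3

open Cfsg H4 ComplexConjugate

universe u

/-- extension of an irreducible character from a subgroup `N` in a TI-like situation -/
theorem ext_irr_gen {G : Type u} [Group G] [Fintype G] (N : Subgroup G) (χ : N → ℂ) (hχ : IsIrrCharacter N χ)
    (hind : ∀ (t : N) (x : G) (hx : x⁻¹ * t * x ∈ N), χ ⟨x⁻¹ * t * x, hx⟩ ≠ χ 1 → x ∈ N) :
    ∃ ψ : G → ℂ, IsIrrCharacter G ψ ∧ (∀ t : N, ψ t = χ t) ∧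
      ∀ g : G, (∀ (x : G) (hx : x⁻¹ * g * x ∈ N), χ ⟨x⁻¹ * g * x, hx⟩ = χ 1) → ψ g = ψ 1 := by
  classical
  by_cases hne : χ = fun _ => 1
  · exact ⟨fun _ => 1, H5.isIrrCharacter_trivial, fun t => by rw [hne], fun x _ => rfl⟩
  obtain ⟨n, hn, hn1⟩ := IsIrr.exists_degree hχ
  set one : N → ℂ := fun _ => 1 with hone
  have hirr1 : IsIrrCharacter N one := H5.isIrrCharacter_trivial
  set θ : N → ℂ := χ - (n : ℂ) • one with hθ
  have hθ1 : θ 1 = 0 := by simp [hθ, hn1, hone]
  have hgen : IsGeneralizedCharacter N θ := by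
    refine ⟨χ, (n : ℂ) • one, H5.irr_isCharacter ⟨χ, hχ⟩, ?_, hθ⟩
    have := H5.isCharacter_nsmul (G := N) (H5.isCharacter_trivial) n
    have e : (n : ℂ) • one = n • (fun _ : N => (1 : ℂ)) := by
      funext t; simp [hone]
    rw [e]; exact this
  have hcl : IsClassFunction N θ := H5.IsGeneralizedCharacter.classFun' hgen
  have hgenG := H5.isGeneralized_indFun N hgen
  have hclG := H5.IsGeneralizedCharacter.classFun' hgenG
  have hθχ : ∀ s : N, θ s ≠ 0 → χ s ≠ χ 1 := by
    intro s hs h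
    apply hs
    simp [hθ, hone, h, hn1]
  have hres : ∀ t : N, indFun N θ t = θ t := by
    intro t
    apply indFun_eq_of_ti N θ hcl
    intro x hx h0
    exact hind t x hx (hθχ _ h0)
  have hres' : (fun t : N => indFun N θ t) = θ := funext hres
  have hzero : ∀ g : G, (∀ (x : G) (hx : x⁻¹ * g * x ∈ N), χ ⟨x⁻¹ * g * x, hx⟩ = χ 1) → indFun N θ g = 0 := by
    intro g hg
    unfold indFun
    rw [Finset.sum_eq_zero, mul_zero]
    intro x _
    by_cases hx : x⁻¹ * g * x ∈ N
    · rw [extendByZero_mem N θ hx]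
      by_contra h
      exact hθχ _ h (hg x hx)
    · exact extendByZero_not_mem N θ hx
  set oneG : G → ℂ := fun _ => 1 with honeG
  have hirrG : IsIrrCharacter G oneG := H5.isIrrCharacter_trivial
  have i1 : classInner χ χ = 1 := by rw [inner_irr_eq hχ hχ, if_pos rfl]
  have i2 : classInner χ one = 0 := by rw [inner_irr_eq hχ hirr1, if_neg hne]
  have i3 : classInner one χ = 0 := by rw [inner_irr_eq hirr1 hχ, if_neg (fun h => hne h.symm)]
  have i4 : classInner one one = 1 := by rw [inner_irr_eq hirr1 hirr1, if_pos rfl]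
  have e1 : classInner (indFun N θ) (indFun N θ) = 1 + n * n := by
    rw [frobenius_reciprocity N θ _ hclG, hres', hθ, H5.classInner_sub_left, H5.classInner_sub_right,
      H5.classInner_sub_right, H5.classInner_smul_left, H5.classInner_smul_left, H5.classInner_smul_right,
      H5.classInner_smul_right, i1, i2, i3, i4]
    simp
  have e2 : classInner (indFun N θ) oneG = -n := by
    rw [frobenius_reciprocity N θ _ (H5.irr_classFun ⟨oneG, hirrG⟩)]
    show classInner θ one = -n
    rw [hθ, H5.classInner_sub_left, H5.classInner_smul_left, i2, i4]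
    ring
  have e3 : classInner oneG (indFun N θ) = -n := by
    rw [← H5.classInner_conj_symm, e2]; simp
  set ψ : G → ℂ := indFun N θ + (n : ℂ) • oneG with hψ
  have hψn : classInner ψ ψ = 1 := by
    rw [hψ, H5.classInner_add_left, H5.classInner_add_right, H5.classInner_add_right, H5.classInner_smul_left,
      H5.classInner_smul_left, H5.classInner_smul_right, H5.classInner_smul_right, e1, e2, e3,
      inner_irr_eq hirrG hirrG, if_pos rfl]
    simp
  have hψg : IsGeneralizedCharacter G ψ := by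
    apply H5.isGeneralized_add hgenG
    refine ⟨(n : ℂ) • oneG, 0, ?_, H5.isCharacter_zero, by simp⟩
    have := H5.isCharacter_nsmul (G := G) (H5.isCharacter_trivial) n
    have e : (n : ℂ) • oneG = n • (fun _ : G => (1 : ℂ)) := by
      funext t; simp [honeG]
    rw [e]; exact this
  have hψ1 : ψ 1 = n := by
    have h1 := hres 1
    rw [hθ1] at h1
    have h2 : indFun N θ 1 = 0 := h1
    simp [hψ, h2, honeG]
  refine ⟨ψ, ?_, ?_, ?_⟩
  · obtain ⟨d, hd0, hd1, hd2, _⟩ := irr_signed_degree (gen_norm_one hψg hψn)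
    apply hd2
    rw [hψ1] at hd1
    have : (n : ℤ) = d := by exact_mod_cast hd1
    omega
  · intro t
    show indFun N θ t + (n : ℂ) • oneG t = χ t
    rw [hres]
    simp [hθ, hone, honeG]
  · intro x hx
    rw [hψ1]
    show indFun N θ x + (n : ℂ) • oneG x = n
    rw [hzero x hx]; simp [honeG]

/-- normal complements of TI Hall-type subgroups: `H` TI with `N = N_G(H)` and `K` a normal complement of `H` in `N` -/
theorem exists_normal_compl_of_ti {G : Type u} [Group G] [Finite G] (H N : Subgroup G) (hHN : H ≤ N)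
    (hH'n : (H.subgroupOf N).Normal) (hTI' : ∀ g : G, g ∉ N → ∀ x ∈ H, g * x * g⁻¹ ∈ H → x = 1)
    (hHall : (Nat.card H).Coprime (H.subgroupOf N).index)
    (K : Subgroup N) [hKn : K.Normal] (hK : K.IsComplement' (H.subgroupOf N)) :
    ∃ M : Subgroup G, M.Normal ∧ M.IsComplement' H := by
  classical
  have := Fintype.ofFinite G
  set H' := H.subgroupOf N with hH'
  set e := H'.index with he
  have hKc : Nat.card K = e := hK.index_eq_card.symm
  have hH'c : Nat.card H' = Nat.card H := Nat.card_congr (Subgroup.subgroupOfEquivOfLe hHN).toEquiv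
  have hKi : K.index = Nat.card H := by rw [← hH'c]; exact hK.symm.index_eq_card
  have F1 : ∀ s : N, ((s ^ e : N) : G) ∈ H := by
    intro s
    have : s ^ e ∈ H' := by rw [he]; exact Subgroup.pow_index_mem H' s
    exact this
  have F2 : ∀ s : N, s ^ e = 1 → s ∈ K := by
    intro s hs
    rw [← QuotientGroup.eq_one_iff, ← orderOf_eq_one_iff]
    have h1 : orderOf (s : N ⧸ K) ∣ e := orderOf_dvd_of_pow_eq_one (by rw [← QuotientGroup.mk_pow, hs]; rfl)
    have h2 : orderOf (s : N ⧸ K) ∣ Nat.card H := by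
      rw [← hKi]; exact orderOf_dvd_natCard _
    exact Nat.eq_one_of_dvd_coprimes hHall h2 h1
  -- the TI property for elements outside K
  have hti : ∀ (t : N) (x : G) (hx : x⁻¹ * t * x ∈ N), (⟨x⁻¹ * t * x, hx⟩ : N) ∉ K → x ∈ N := by
    intro t x hx hs
    by_contra hxN
    set s : N := ⟨x⁻¹ * t * x, hx⟩ with hsd
    have h1 := F1 s
    have h2 := F1 t
    have h3 : x * ((s ^ e : N) : G) * x⁻¹ = ((t ^ e : N) : G) := by
      rw [Subgroup.coe_pow, Subgroup.coe_pow, ← conj_pow]
      congr 1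
      show x * (x⁻¹ * t * x) * x⁻¹ = t
      group
    have h4 := hTI' x hxN _ h1 (by rw [h3]; exact h2)
    exact hs (F2 s (Subtype.ext h4))
  have hFQ : Fintype (N ⧸ K) := Fintype.ofFinite _
  -- characters
  let χ' : IrrCharacter (N ⧸ K) → (N → ℂ) := fun χ => (χ : N ⧸ K → ℂ) ∘ (QuotientGroup.mk' K)
  have hχ' : ∀ χ, IsIrrCharacter N (χ' χ) := fun χ =>
    H5.isIrrCharacter_comp_surjective (QuotientGroup.mk' K) (QuotientGroup.mk'_surjective K) χ.2
  have hχK : ∀ χ : IrrCharacter (N ⧸ K), ∀ s : N, s ∈ K → χ' χ s = χ' χ 1 := by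
    intro χ s hs
    show (χ : N ⧸ K → ℂ) (QuotientGroup.mk' K s) = (χ : N ⧸ K → ℂ) (QuotientGroup.mk' K 1)
    rw [map_one, show QuotientGroup.mk' K s = 1 from (QuotientGroup.eq_one_iff s).mpr hs]
  choose ψ h1 h2 h3 using fun χ : IrrCharacter (N ⧸ K) => ext_irr_gen N (χ' χ) (hχ' χ) (by
    intro t x hx hne
    apply hti t x hx
    intro hmem
    exact hne (hχK χ _ hmem))
  have hc : ∀ χ, IsCharacter G (ψ χ) := fun χ => H5.irr_isCharacter ⟨ψ χ, h1 χ⟩
  set M : Subgroup G := ⨅ χ : IrrCharacter (N ⧸ K), charKer (hc χ) with hM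
  have hmem : ∀ g : G, g ∈ M ↔ ∀ χ, ψ χ g = ψ χ 1 := by
    intro g
    rw [hM, Subgroup.mem_iInf]
    rfl
  have hMn : M.Normal := Subgroup.normal_iInf_normal (fun χ => inferInstance)
  have hMH : ∀ h : G, h ∈ M → h ∈ H → h = 1 := by
    intro h hhM hhH
    set q : N ⧸ K := QuotientGroup.mk' K ⟨h, hHN hhH⟩ with hq
    have hs := H5.sum_irr_one_mul (G := N ⧸ K) q
    have hs1 := H5.sum_irr_one_mul (G := N ⧸ K) 1
    have ee : ∀ χ : IrrCharacter (N ⧸ K), (χ : N ⧸ K → ℂ) q = (χ : N ⧸ K → ℂ) 1 := by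
      intro χ
      have a1 := h2 χ ⟨h, hHN hhH⟩
      have a2 := h2 χ 1
      have a3 := (hmem h).mp hhM χ
      have a4 : χ' χ ⟨h, hHN hhH⟩ = χ' χ 1 := by rw [← a1, ← a2]; exact a3
      have a5 : χ' χ 1 = (χ : N ⧸ K → ℂ) 1 := by
        show (χ : N ⧸ K → ℂ) (QuotientGroup.mk' K 1) = _
        rw [map_one]
      rw [← a5, ← a4]; rfl
    simp only [ee] at hs
    rw [hs1, if_pos rfl] at hs
    have hq1 : q = 1 := by
      by_contra hne
      rw [if_neg hne] at hs
      have : (Nat.card (N ⧸ K) : ℂ) ≠ 0 := by exact_mod_cast Nat.card_pos.ne'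
      exact this hs
    have hhK : (⟨h, hHN hhH⟩ : N) ∈ K := (QuotientGroup.eq_one_iff _).mp hq1
    have h4 := disjoint_iff.mp hK.disjoint
    have h5 : (⟨h, hHN hhH⟩ : N) ∈ K ⊓ H' := Subgroup.mem_inf.mpr ⟨hhK, hhH⟩
    rw [h4, Subgroup.mem_bot] at h5
    exact congrArg Subtype.val h5
  have hDM : ∀ g : G, (∀ (x : G) (hx : x⁻¹ * g * x ∈ N), (⟨x⁻¹ * g * x, hx⟩ : N) ∈ K) → g ∈ M := by
    intro g hg
    rw [hmem]
    intro χ
    exact h3 χ g (fun x hx => hχK χ _ (hg x hx))
  -- counting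
  have hcount : Nat.card {g : G // g ∉ M} ≤ Nat.card (G ⧸ N) * Nat.card {s : N // s ∉ K} := by
    rw [← Nat.card_prod]
    have hex : ∀ g : {g : G // g ∉ M}, ∃ p : (G ⧸ N) × {s : N // s ∉ K},
        (Quotient.out p.1 : G) * ((p.2 : N) : G) * (Quotient.out p.1 : G)⁻¹ = g := by
      rintro ⟨g, hg⟩
      have : ∃ (x : G) (hx : x⁻¹ * g * x ∈ N), (⟨x⁻¹ * g * x, hx⟩ : N) ∉ K := by
        by_contra hcon
        push Not at hcon
        exact hg (hDM g hcon)
      obtain ⟨x, hx, hs⟩ := this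
      obtain ⟨n, hn⟩ := QuotientGroup.mk_out_eq_mul N x
      -- out = x * n
      refine ⟨((x : G ⧸ N), ⟨n⁻¹ * ⟨x⁻¹ * g * x, hx⟩ * n, ?_⟩), ?_⟩
      · intro h
        apply hs
        have h4 := hKn.conj_mem _ h n
        have h5 : n * (n⁻¹ * ⟨x⁻¹ * g * x, hx⟩ * n) * n⁻¹ = (⟨x⁻¹ * g * x, hx⟩ : N) := by group
        rwa [h5] at h4
      · show (Quotient.out (x : G ⧸ N) : G) * ((n : G)⁻¹ * (x⁻¹ * g * x) * n) * (Quotient.out (x : G ⧸ N) : G)⁻¹ = g
        have hn' : (Quotient.out (x : G ⧸ N) : G) = x * n := hn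
        rw [hn']; group
    choose F hF using hex
    apply Nat.card_le_card_of_injective F
    intro a b hab
    apply Subtype.ext
    rw [← hF a, ← hF b, hab]
  have hcG : Nat.card M + Nat.card {g : G // g ∉ M} = Nat.card G := by
    rw [← Nat.card_sum]
    exact Nat.card_congr (Equiv.sumCompl (fun g : G => g ∈ M))
  have hcN : Nat.card K + Nat.card {s : N // s ∉ K} = Nat.card N := by
    rw [← Nat.card_sum]
    exact Nat.card_congr (Equiv.sumCompl (fun g : N => g ∈ K))
  have hKH : Nat.card K * Nat.card H = Nat.card N := by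
    rw [← hKi]; exact K.card_mul_index
  have hNG : Nat.card (G ⧸ N) * Nat.card N = Nat.card G := by
    have := N.card_mul_index
    rw [mul_comm]; exact this
  have hsup : Nat.card M * Nat.card H ≤ Nat.card G := by
    have h4 : M ⊓ H = ⊥ := by
      rw [Subgroup.eq_bot_iff_forall]
      intro x hx
      exact hMH x (Subgroup.mem_inf.mp hx).1 (Subgroup.mem_inf.mp hx).2
    rw [← L0.card_sup_of_normalizes (M := M) (A := H) (by rw [Subgroup.normalizer_eq_top]; exact le_top) h4]
    exact Nat.le_of_dvd Nat.card_pos (Subgroup.card_subgroup_dvd_card _)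
  have hge : Nat.card G ≤ Nat.card M * Nat.card H := by
    set a := Nat.card (G ⧸ N)
    set k := Nat.card K
    set h := Nat.card H
    have hh : 0 < h := Nat.card_pos
    have h5 : Nat.card {s : N // s ∉ K} = k * h - k := by omega
    rw [h5] at hcount
    have h6 : a * (k * h - k) = Nat.card G - a * k := by
      rw [Nat.mul_sub, hKH, hNG]
    have h7 : a * k ≤ Nat.card G := by
      rw [← hNG, ← hKH]
      exact Nat.mul_le_mul_left a (Nat.le_mul_of_pos_right k hh)
    have h8 : a * k ≤ Nat.card M := by omega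
    calc Nat.card G = a * k * h := by rw [← hNG, ← hKH, mul_assoc]
      _ ≤ Nat.card M * h := Nat.mul_le_mul_right h h8
  refine ⟨M, hMn, ?_⟩
  apply Subgroup.isComplement'_of_card_mul_and_disjoint (le_antisymm hsup hge)
  rw [disjoint_iff, Subgroup.eq_bot_iff_forall]
  intro x hx
  exact hMH x (Subgroup.mem_inf.mp hx).1 (Subgroup.mem_inf.mp hx).2

end Cfsg.Agent.H3
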